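import Groth.Agent.Surf.K465.LinHodge
import Mathlib.Topology.Algebra.Module.ModuleTopology
import Mathlib.Topology.Instances.Real.Lemmas
import Mathlib.Geometry.Convex.Cone.Basic
import Mathlib.LinearAlgebra.Dimension.Finite

/-!
# Topology of the light cone, openness of cones generated by a "stable" set

`V` a finite-dimensional real vector space with its module topology.

* `isOpen_pos`: `{x | 0 < B x x ∧ 0 < B x h}` is open; `Lor.convex`: it is convex.
* `isOpen_hull`: the cone generated by a subset `T` of a subgroup `S` spanning `V` is open if for all `t ∈ T`, `s ∈ S`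
  one has `n • t + s ∈ T` for all large `n`.
* `dense_rat`: the positive multiples of elements of `S` are dense; every point of an open set `U` is a convex combination
  of points `q • s ∈ U`, `q > 0`, `s ∈ S`.
-/

set_option autoImplicit false

open Topology Pointwise

namespace K465.Cone

open LinHodge

variable {V : Type*} [AddCommGroup V] [Module ℝ V] [TopologicalSpace V] [IsModuleTopology ℝ V]

theorem continuous_quad [Module.Finite ℝ V] (B : V →ₗ[ℝ] V →ₗ[ℝ] ℝ) : Continuous fun x => B x x := by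
  have h := IsModuleTopology.continuous_bilinear_of_finite_left B
  exact h.comp (continuous_id.prodMk continuous_id)

theorem continuous_left (B : V →ₗ[ℝ] V →ₗ[ℝ] ℝ) (h : V) : Continuous fun x => B x h :=
  IsModuleTopology.continuous_of_linearMap (B.flip h)

theorem isOpen_pos [Module.Finite ℝ V] (B : V →ₗ[ℝ] V →ₗ[ℝ] ℝ) (h : V) :
    IsOpen {x : V | 0 < B x x ∧ 0 < B x h} :=
  (isOpen_lt continuous_const (continuous_quad B)).inter (isOpen_lt continuous_const (continuous_left B h))

omit [TopologicalSpace V] [IsModuleTopology ℝ V] in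
theorem convex_pos {B : V →ₗ[ℝ] V →ₗ[ℝ] ℝ} {h : V} (H : Lor B h) : Convex ℝ {x : V | 0 < B x x ∧ 0 < B x h} := by
  rintro x ⟨hx, hxh⟩ y ⟨hy, hyh⟩ a b ha hb hab
  rcases ha.eq_or_lt with rfl | ha
  · have : b = 1 := by linarith
    subst this
    simpa using ⟨hy, hyh⟩
  rcases hb.eq_or_lt with rfl | hb
  · have : a = 1 := by linarith
    subst this
    simpa using ⟨hx, hxh⟩
  obtain ⟨h1, h2⟩ := smul_mem hx hxh ha
  obtain ⟨h3, h4⟩ := smul_mem hy hyh hb
  exact H.add_mem h1 h2 h3 h4

section hull

/-- Around a point, combinations with small coefficients of a spanning family form a neighbourhood. -/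
theorem nhds_of_family {ι : Type*} [Fintype ι] (m : ι → V) (hm : Submodule.span ℝ (Set.range m) = ⊤) (a : V)
    {ε : ℝ} (hε : 0 < ε) : {x : V | ∃ t : ι → ℝ, (∀ i, |t i| < ε) ∧ x = a + ∑ i, t i • m i} ∈ 𝓝 a := by
  have hadd : ContinuousAdd V := IsModuleTopology.toContinuousAdd ℝ V
  have htop : IsTopologicalAddGroup V := IsModuleTopology.topologicalAddGroup ℝ V
  let φ : (ι → ℝ) →ₗ[ℝ] V := Fintype.linearCombination ℝ m
  have hφ : Function.Surjective φ := by
    rw [← LinearMap.range_eq_top, Fintype.range_linearCombination, hm]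
  have hopen : IsOpenMap φ := IsModuleTopology.isOpenMap_of_surjective hφ
  let U : Set (ι → ℝ) := {t | ∀ i, |t i| < ε}
  have hU : IsOpen U := by
    have : U = ⋂ i, {t : ι → ℝ | |t i| < ε} := by ext; simp [U]
    rw [this]
    exact isOpen_iInter_of_finite fun i => isOpen_lt (by fun_prop) continuous_const
  have hW : IsOpen ((fun x => a + x) '' (φ '' U)) := by
    exact (Homeomorph.addLeft a).isOpenMap _ (hopen _ hU)
  refine Filter.mem_of_superset (hW.mem_nhds ⟨0, ⟨0, by simp [U, hε], map_zero _⟩, add_zero a⟩) ?_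
  rintro _ ⟨_, ⟨t, ht, rfl⟩, rfl⟩
  exact ⟨t, ht, by simp [φ, Fintype.linearCombination_apply]⟩

/-- The interior of a convex cone, as a convex cone. -/
def interiorCone (C : ConvexCone ℝ V) : ConvexCone ℝ V where
  carrier := interior (C : Set V)
  smul_mem' := by
    intro c hc x hx
    have hs : ContinuousSMul ℝ V := IsModuleTopology.toContinuousSMul ℝ V
    have hsub : c • interior (C : Set V) ⊆ (C : Set V) := by
      rintro _ ⟨y, hy, rfl⟩
      exact C.smul_mem hc (interior_subset hy)
    have hop : IsOpen (c • interior (C : Set V)) := isOpen_interior.smul₀ hc.ne'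
    exact interior_maximal hsub hop ⟨x, hx, rfl⟩
  add_mem' := by
    intro x hx y hy
    have hadd : ContinuousAdd V := IsModuleTopology.toContinuousAdd ℝ V
    have htop : IsTopologicalAddGroup V := IsModuleTopology.topologicalAddGroup ℝ V
    have hsub : (fun z => z + y) '' interior (C : Set V) ⊆ (C : Set V) := by
      rintro _ ⟨z, hz, rfl⟩
      exact C.add_mem (interior_subset hz) (interior_subset hy)
    have hop : IsOpen ((fun z => z + y) '' interior (C : Set V)) :=
      (Homeomorph.addRight y).isOpenMap _ isOpen_interior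
    exact interior_maximal hsub hop ⟨x, hx, rfl⟩

omit [TopologicalSpace V] [IsModuleTopology ℝ V] in
theorem exists_family [Module.Finite ℝ V] (S : AddSubgroup V) (hS : Submodule.span ℝ (S : Set V) = ⊤) :
    ∃ (r : ℕ) (m : Fin r → V), (∀ i, m i ∈ S) ∧ Submodule.span ℝ (Set.range m) = ⊤ := by
  obtain ⟨T, hT⟩ := (Module.Finite.fg_top : (⊤ : Submodule ℝ V).FG)
  have h : ∀ x : V, ∃ T' : Finset V, (T' : Set V) ⊆ S ∧ x ∈ Submodule.span ℝ (T' : Set V) := by
    intro x
    have hx : x ∈ Submodule.span ℝ (S : Set V) := hS ▸ Submodule.mem_top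
    exact Submodule.mem_span_finite_of_mem_span hx
  choose F hF hxF using h
  classical
  let G : Finset V := T.biUnion F
  have hG : Submodule.span ℝ (G : Set V) = ⊤ := by
    rw [eq_top_iff, ← hT, Submodule.span_le]
    intro x hx
    refine Submodule.span_mono ?_ (hxF x)
    intro y hy
    simp only [G, Finset.coe_biUnion, Set.mem_iUnion]
    exact ⟨x, hx, hy⟩
  refine ⟨G.card, fun i => (G.equivFin.symm i : V), fun i => ?_, ?_⟩
  · have hi := (G.equivFin.symm i).2
    obtain ⟨x, -, hx⟩ := Finset.mem_biUnion.mp hi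
    exact hF x hx
  · rw [← hG]
    congr 1
    ext x
    constructor
    · rintro ⟨i, rfl⟩
      exact (G.equivFin.symm i).2
    · intro hx
      exact ⟨G.equivFin ⟨x, hx⟩, by simp⟩

/-- The cone generated by `T` is open when `T` absorbs `S`: for `t ∈ T`, `s ∈ S`, some `n • t + s` with `n > 0` is in
the cone. -/
theorem isOpen_hull [Module.Finite ℝ V] (S : AddSubgroup V) (hS : Submodule.span ℝ (S : Set V) = ⊤) (T : Set V)
    (habs : ∀ t ∈ T, ∀ s ∈ S, ∃ n : ℕ, 0 < n ∧ n • t + s ∈ ConvexCone.hull ℝ T) :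
    IsOpen (ConvexCone.hull ℝ T : Set V) := by
  obtain ⟨r, m, hmS, hm⟩ := exists_family S hS
  have key : ∀ t ∈ T, t ∈ interior (ConvexCone.hull ℝ T : Set V) := by
    intro t ht
    have h1 : ∀ i : Fin r, ∃ δ : ℝ, 0 < δ ∧ ∀ s : ℝ, |s| < δ → t + s • m i ∈ ConvexCone.hull ℝ T := by
      intro i
      obtain ⟨n, hn, h1⟩ := habs t ht (m i) (hmS i)
      obtain ⟨n', hn', h2⟩ := habs t ht (-m i) (S.neg_mem (hmS i))
      have htC : t ∈ ConvexCone.hull ℝ T := ConvexCone.subset_hull ht
      have hn0 : (0 : ℝ) < n := by exact_mod_cast hn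
      have hn0' : (0 : ℝ) < n' := by exact_mod_cast hn'
      refine ⟨min (1 / n) (1 / n'), lt_min (by positivity) (by positivity), fun s hs => ?_⟩
      have hs1 : |s| < 1 / n := lt_of_lt_of_le hs (min_le_left _ _)
      have hs2 : |s| < 1 / n' := lt_of_lt_of_le hs (min_le_right _ _)
      rcases le_or_gt 0 s with h0 | h0
      · rw [abs_of_nonneg h0] at hs1
        rcases h0.eq_or_lt with rfl | h0
        · simpa using htC
        have e : t + s • m i = (1 - s * n) • t + s • (n • t + m i) := by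
          rw [smul_add, sub_smul, one_smul, ← Nat.cast_smul_eq_nsmul ℝ n t, smul_smul]
          abel
        rw [e]
        refine ConvexCone.add_mem _ (ConvexCone.smul_mem _ ?_ htC) (ConvexCone.smul_mem _ h0 h1)
        rw [lt_div_iff₀ hn0] at hs1
        linarith
      · rw [abs_of_neg h0] at hs2
        have h0' : 0 < -s := by linarith
        have e : t + s • m i = (1 - (-s) * n') • t + (-s) • (n' • t + -m i) := by
          rw [smul_add, sub_smul, one_smul, ← Nat.cast_smul_eq_nsmul ℝ n' t, smul_smul, smul_neg, neg_smul, neg_neg]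
          abel
        rw [e]
        refine ConvexCone.add_mem _ (ConvexCone.smul_mem _ ?_ htC) (ConvexCone.smul_mem _ h0' h2)
        rw [lt_div_iff₀ hn0'] at hs2
        linarith
    choose δ hδ h2 using h1
    have htC : t ∈ ConvexCone.hull ℝ T := ConvexCone.subset_hull ht
    rw [mem_interior_iff_mem_nhds]
    rcases Nat.eq_zero_or_pos r with hr | hr
    · subst hr
      refine Filter.mem_of_superset (nhds_of_family m hm t one_pos) ?_
      rintro _ ⟨s, -, rfl⟩
      simpa using htC
    · have hr0 : (0 : ℝ) < r := by exact_mod_cast hr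
      have : Nonempty (Fin r) := ⟨⟨0, hr⟩⟩
      obtain ⟨i₀, hi₀⟩ := Finite.exists_min δ
      refine Filter.mem_of_superset (nhds_of_family m hm t (ε := δ i₀ / r) (div_pos (hδ i₀) hr0)) ?_
      rintro _ ⟨s, hs, rfl⟩
      have e : t + ∑ i, s i • m i = (1 / (r : ℝ)) • ∑ i : Fin r, (t + (r * s i) • m i) := by
        rw [Finset.sum_add_distrib, Finset.sum_const, Finset.card_univ, Fintype.card_fin, smul_add,
          ← Nat.cast_smul_eq_nsmul ℝ r t, smul_smul, one_div, inv_mul_cancel₀ hr0.ne', one_smul,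
          Finset.smul_sum]
        congr 1
        refine Finset.sum_congr rfl fun i _ => ?_
        rw [smul_smul, ← mul_assoc, inv_mul_cancel₀ hr0.ne', one_mul]
      rw [e]
      refine ConvexCone.smul_mem _ (by positivity) ?_
      have hsum : ∀ (F : Finset (Fin r)), F.Nonempty → ∑ i ∈ F, (t + (r * s i) • m i) ∈ ConvexCone.hull ℝ T := by
        intro F hF
        induction hF using Finset.Nonempty.cons_induction with
        | singleton i =>
          rw [Finset.sum_singleton]
          refine h2 i _ ?_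
          rw [abs_mul, abs_of_pos hr0]
          have := hs i
          rw [lt_div_iff₀ hr0] at this
          calc _ = |s i| * r := mul_comm _ _
            _ < δ i₀ := this
            _ ≤ δ i := hi₀ i
        | cons i F hi hF ih =>
          rw [Finset.sum_cons]
          refine ConvexCone.add_mem _ ?_ ih
          refine h2 i _ ?_
          rw [abs_mul, abs_of_pos hr0]
          have := hs i
          rw [lt_div_iff₀ hr0] at this
          calc _ = |s i| * r := mul_comm _ _
            _ < δ i₀ := this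
            _ ≤ δ i := hi₀ i
      exact hsum Finset.univ Finset.univ_nonempty
  have hle : ConvexCone.hull ℝ T ≤ interiorCone (ConvexCone.hull ℝ T) := ConvexCone.hull_min key
  have heq : (ConvexCone.hull ℝ T : Set V) = interior (ConvexCone.hull ℝ T : Set V) :=
    Set.Subset.antisymm hle interior_subset
  rw [heq]
  exact isOpen_interior

end hull

section rat

/-- The rational span of a subgroup. -/
def Qs (S : AddSubgroup V) : Set V := {v | ∃ n : ℕ, 0 < n ∧ n • v ∈ S}

omit [Module ℝ V] [TopologicalSpace V] [IsModuleTopology ℝ V] in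
theorem Qs_of_mem {S : AddSubgroup V} {v : V} (hv : v ∈ S) : v ∈ Qs S := ⟨1, one_pos, by simpa using hv⟩

omit [Module ℝ V] [TopologicalSpace V] [IsModuleTopology ℝ V] in
theorem Qs_add {S : AddSubgroup V} {v w : V} (hv : v ∈ Qs S) (hw : w ∈ Qs S) : v + w ∈ Qs S := by
  obtain ⟨n, hn, h1⟩ := hv
  obtain ⟨m, hm, h2⟩ := hw
  refine ⟨n * m, Nat.mul_pos hn hm, ?_⟩
  rw [smul_add]
  refine S.add_mem ?_ ?_
  · rw [mul_comm, mul_smul]; exact S.nsmul_mem h1 m
  · rw [mul_smul]; exact S.nsmul_mem h2 n

omit [TopologicalSpace V] [IsModuleTopology ℝ V] in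
theorem Qs_smul {S : AddSubgroup V} {v : V} (hv : v ∈ S) (q : ℚ) : (q : ℝ) • v ∈ Qs S := by
  refine ⟨q.den, q.den_pos, ?_⟩
  have : q.den • ((q : ℝ) • v) = q.num • v := by
    rw [← Nat.cast_smul_eq_nsmul ℝ, smul_smul, ← Int.cast_smul_eq_zsmul ℝ]
    congr 1
    have := Rat.mul_den_eq_num q
    have h2 : ((q * q.den : ℚ) : ℝ) = (q.num : ℝ) := by rw [this]; simp
    push_cast at h2
    rw [mul_comm]
    exact h2
  rw [this]
  exact S.zsmul_mem hv _

omit [TopologicalSpace V] [IsModuleTopology ℝ V] in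
theorem Qs_sum {S : AddSubgroup V} {ι : Type*} (F : Finset ι) (m : ι → V) (hm : ∀ i, m i ∈ S) (q : ι → ℚ) :
    ∑ i ∈ F, (q i : ℝ) • m i ∈ Qs S := by
  classical
  induction F using Finset.induction_on with
  | empty => simpa using Qs_of_mem S.zero_mem
  | insert i F hi ih =>
    rw [Finset.sum_insert hi]
    exact Qs_add (Qs_smul (hm i) _) ih

theorem exists_box {ι : Type*} [Fintype ι] (m : ι → V) {x : V} {U : Set V} (hU : U ∈ 𝓝 x) :
    ∃ ε : ℝ, 0 < ε ∧ ∀ t : ι → ℝ, (∀ i, |t i| < ε) → x + ∑ i, t i • m i ∈ U := by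
  have hadd : ContinuousAdd V := IsModuleTopology.toContinuousAdd ℝ V
  have hs : ContinuousSMul ℝ V := IsModuleTopology.toContinuousSMul ℝ V
  have hc : Continuous fun t : ι → ℝ => x + ∑ i, t i • m i := by fun_prop
  have h0 : (fun t : ι → ℝ => x + ∑ i, t i • m i) ⁻¹' U ∈ 𝓝 (0 : ι → ℝ) := by
    apply hc.continuousAt
    simpa using hU
  obtain ⟨ε, hε, h⟩ := Metric.mem_nhds_iff.mp h0
  refine ⟨ε, hε, fun t ht => h ?_⟩
  rw [Metric.mem_ball, dist_zero_right, pi_norm_lt_iff hε]
  exact ht

/-- Every point of an open set is a convex combination of rational points of the set. -/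
theorem mem_convexHull_rat [Module.Finite ℝ V] (S : AddSubgroup V) (hS : Submodule.span ℝ (S : Set V) = ⊤)
    {U : Set V} {x : V} (hU : U ∈ 𝓝 x) : x ∈ convexHull ℝ (U ∩ Qs S) := by
  obtain ⟨r, m, hmS, hm⟩ := exists_family S hS
  obtain ⟨ε, hε, hbox⟩ := exists_box m hU
  obtain ⟨c, hc⟩ : ∃ c : Fin r → ℝ, ∑ i, c i • m i = x := by
    have hx : x ∈ Submodule.span ℝ (Set.range m) := hm ▸ Submodule.mem_top
    rw [← Fintype.range_linearCombination] at hx
    obtain ⟨c, hc⟩ := hx
    exact ⟨c, by rw [← hc, Fintype.linearCombination_apply]⟩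
  rcases Nat.eq_zero_or_pos r with hr | hr
  · subst hr
    have hx0 : x = 0 := by rw [← hc]; simp
    refine subset_convexHull ℝ _ ⟨mem_of_mem_nhds hU, ?_⟩
    rw [hx0]
    exact Qs_of_mem S.zero_mem
  have hr0 : (0 : ℝ) < r := by exact_mod_cast hr
  obtain ⟨δ, hδ1, hδ2⟩ := exists_rat_btwn (show (0 : ℝ) < ε / 2 by positivity)
  have hq : ∀ i, ∃ q : ℚ, |(q : ℝ) - c i| < δ / r := by
    intro i
    obtain ⟨q, h1, h2⟩ := exists_rat_btwn (show c i < c i + δ / r by have := div_pos hδ1 hr0; linarith)
    exact ⟨q, by rw [abs_lt]; constructor <;> linarith [div_pos hδ1 hr0]⟩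
  choose q hq using hq
  set y := ∑ i, (q i : ℝ) • m i with hy
  have hyQ : y ∈ Qs S := Qs_sum _ _ hmS q
  have hxy : ∀ t : Fin r → ℝ, (∀ i, |t i| ≤ δ) → y + ∑ i, t i • m i ∈ U := by
    intro t ht
    have e : y + ∑ i, t i • m i = x + ∑ i, ((q i - c i) + t i) • m i := by
      rw [hy, ← hc, ← Finset.sum_add_distrib, ← Finset.sum_add_distrib]
      refine Finset.sum_congr rfl fun i _ => ?_
      rw [← add_smul, ← add_smul]
      congr 1
      ring
    rw [e]
    refine hbox _ fun i => ?_
    refine (abs_add_le _ _).trans_lt ?_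
    have h1 : (δ : ℝ) / r ≤ δ := by
      rw [div_le_iff₀ hr0]
      have : (1 : ℝ) ≤ r := by exact_mod_cast hr
      nlinarith
    linarith [hq i, ht i]
  have hpt : ∀ i : Fin r, ∀ s : ℝ, |s| ≤ δ → y + s • m i ∈ U := by
    intro i s hs
    have := hxy (Pi.single i s) (fun j => by
      by_cases hij : j = i
      · subst hij; simpa using hs
      · rw [Pi.single_eq_of_ne hij]; simpa using hδ1.le)
    have e : ∑ j, (Pi.single i s : Fin r → ℝ) j • m j = s • m i := by
      rw [Finset.sum_eq_single i]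
      · simp
      · intro j _ hj; rw [Pi.single_eq_of_ne hj, zero_smul]
      · simp
    rwa [e] at this
  have hQ : ∀ i : Fin r, y + (δ : ℝ) • m i ∈ Qs S := fun i => Qs_add hyQ (Qs_smul (hmS i) _)
  have hQ' : ∀ i : Fin r, y + (-δ : ℝ) • m i ∈ Qs S := fun i => by
    have := Qs_smul (hmS i) (-δ)
    push_cast at this
    exact Qs_add hyQ this
  have hseg : ∀ i : Fin r, ∀ s : ℝ, |s| ≤ δ → y + s • m i ∈ convexHull ℝ (U ∩ Qs S) := by
    intro i s hs
    have h1 : y + (δ : ℝ) • m i ∈ convexHull ℝ (U ∩ Qs S) :=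
      subset_convexHull ℝ _ ⟨hpt i _ (by rw [abs_of_pos hδ1]), hQ i⟩
    have h2 : y + (-δ : ℝ) • m i ∈ convexHull ℝ (U ∩ Qs S) :=
      subset_convexHull ℝ _ ⟨hpt i _ (by rw [abs_neg, abs_of_pos hδ1]), hQ' i⟩
    have hab := abs_le.mp hs
    have e : y + s • m i = ((δ + s) / (2 * δ)) • (y + (δ : ℝ) • m i) + ((δ - s) / (2 * δ)) • (y + (-δ : ℝ) • m i) := by
      have hδ' : (δ : ℝ) ≠ 0 := hδ1.ne'
      have e1 : (δ + s) / (2 * δ) + (δ - s) / (2 * δ) = 1 := by field_simp; ring
      have e2 : (δ + s) / (2 * δ) * δ + (δ - s) / (2 * δ) * (-δ) = s := by field_simp; ring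
      rw [smul_add, smul_add, smul_smul, smul_smul]
      calc y + s • m i = ((δ + s) / (2 * δ) + (δ - s) / (2 * δ)) • y +
            ((δ + s) / (2 * δ) * δ + (δ - s) / (2 * δ) * (-δ)) • m i := by rw [e1, e2, one_smul]
        _ = _ := by rw [add_smul, add_smul]; abel
    rw [e]
    refine (convex_convexHull ℝ _) h1 h2 ?_ ?_ ?_
    · exact div_nonneg (by linarith) (by positivity)
    · exact div_nonneg (by linarith) (by positivity)
    · have hδ' : (δ : ℝ) ≠ 0 := hδ1.ne'
      field_simp; ring
  have hxe : x = ∑ i : Fin r, (1 / (r : ℝ)) • (y + (r * (c i - q i)) • m i) := by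
    rw [← Finset.smul_sum, Finset.sum_add_distrib, Finset.sum_const, Finset.card_univ, Fintype.card_fin, smul_add,
      ← Nat.cast_smul_eq_nsmul ℝ r y, smul_smul, one_div, inv_mul_cancel₀ hr0.ne', one_smul, Finset.smul_sum, hy,
      ← Finset.sum_add_distrib, ← hc]
    refine Finset.sum_congr rfl fun i _ => ?_
    rw [smul_smul, ← mul_assoc, inv_mul_cancel₀ hr0.ne', one_mul, ← add_smul]
    congr 1
    ring
  rw [hxe]
  refine (convex_convexHull ℝ _).sum_mem (fun i _ => by positivity) ?_ fun i _ => hseg i _ ?_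
  · rw [Finset.sum_const, Finset.card_univ, Fintype.card_fin, nsmul_eq_mul]
    field_simp
  · rw [abs_mul, abs_of_pos hr0]
    have := hq i
    rw [abs_sub_comm, lt_div_iff₀ hr0] at this
    linarith

end rat

end K465.Cone
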