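import Groth.Agent.Surf.K465.NumHodge
import Groth.Agent.Surf.K465.Cone
import Groth.Agent.S2329

/-!
# The ample cone of a surface is open and lies in the positive cone
-/

set_option autoImplicit false
universe u
open CategoryTheory CategoryTheory.Limits AlgebraicGeometry

namespace K465.AmpCone

open Groth.Agent.Grpsch.PicGrp Groth.Agent.Fga.PicMon K465.ClP K465.LinHodge

/-- The set of classes of ample modules. -/
def ampSet (k : Type u) [Field k] (X : Scheme.{u}) [X.Over (Spec (CommRingCat.of k))] [PicGrp.Law X] :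
    Set (NumR.N1R k X) :=
  {x : NumR.N1R k X | ∃ (L : X.Modules) (hL : PicF.IsInvertible L), CohB1.IsAmple L ∧ x = NumR.clR k X L hL}

section

variable {k : Type u} [Field k] {X : Scheme.{u}} [X.Over (Spec (CommRingCat.of k))] [PicGrp.Law X]

theorem ampleCone_eq : NumR.ampleCone k X = ConvexCone.hull ℝ (ampSet k X) := rfl

theorem mem_of_ample {L : X.Modules} (hL : CohB1.IsAmple L) : NumR.clR k X L hL.1 ∈ NumR.ampleCone k X :=
  ConvexCone.subset_hull ⟨L, hL.1, hL, rfl⟩

/-- An ample class absorbs integral classes. -/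
theorem absorb [CompactSpace X] [X.IsSeparated] (t : NumR.N1R k X) (ht : t ∈ ampSet k X) (s : NumR.N1R k X)
    (hs : s ∈ S k X) : ∃ n : ℕ, 0 < n ∧ n • t + s ∈ ampSet k X := by
  obtain ⟨L, hL, hA, rfl⟩ := ht
  obtain ⟨M, hM, rfl⟩ := mem_S_iff.mp hs
  obtain ⟨n, hn, h⟩ := Groth.Agent.S2329.result X L M hA hM
  have h1 := (h n le_rfl).1
  refine ⟨n, hn, _, h1.1, h1, ?_⟩
  rw [clR_tensor (Groth.Agent.Fdesc.LocGen.isInvertible_tensorPow hL n) hM, clR_tensorPow hL n]

theorem isOpen_ampleCone [CompactSpace X] [X.IsSeparated] [Module.Finite ℝ (NumR.N1R k X)] :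
    IsOpen (NumR.ampleCone k X : Set (NumR.N1R k X)) := by
  rw [ampleCone_eq]
  refine K465.Cone.isOpen_hull (S k X) span_S _ ?_
  intro t ht s hs
  obtain ⟨n, hn, h⟩ := absorb t ht s hs
  exact ⟨n, hn, ConvexCone.subset_hull h⟩

/-- The positive cone as a convex cone. -/
def posC {V : Type*} [AddCommGroup V] [Module ℝ V] {B : V →ₗ[ℝ] V →ₗ[ℝ] ℝ} {h : V} (H : Lor B h) : ConvexCone ℝ V where
  carrier := {x | 0 < B x x ∧ 0 < B x h}
  smul_mem' := fun _ hc _ hx => smul_mem hx.1 hx.2 hc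
  add_mem' := fun _ hx _ hy => H.add_mem hx.1 hx.2 hy.1 hy.2

theorem ampleCone_subset [IsAlgClosed k] [IsProper (X ↘ Spec (CommRingCat.of k))] [IsIntegral X]
    (hdim : topologicalKrullDim X = 2)
    {B : NumR.N1R k X →ₗ[ℝ] NumR.N1R k X →ₗ[ℝ] ℝ} (hB : NumR.IsIntForm₂ k X B) {H : X.Modules}
    (hH : CohB1.IsAmple H) :
    (NumR.ampleCone k X : Set (NumR.N1R k X)) ⊆ NumR.posCone k X B H hH.1 := by
  have hl := K465.NumHodge.lor hdim hB hH
  have : NumR.ampleCone k X ≤ posC hl := by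
    rw [ampleCone_eq]
    refine ConvexCone.hull_min ?_
    rintro _ ⟨L, hL, hA, rfl⟩
    exact ⟨K465.NumHodge.zero_lt_of_ample hdim hB hA hA, K465.NumHodge.zero_lt_of_ample hdim hB hA hH⟩
  exact this

end

end K465.AmpCone

namespace K465.AmpCone

/-- A scheme separated over a field is separated. -/
theorem isSeparated_of_over (k : Type u) [Field k] (X : Scheme.{u}) (f : X ⟶ Spec (CommRingCat.of k)) [IsSeparated f] :
    X.IsSeparated :=
  (HasAffineProperty.iff_of_isAffine (P := @IsSeparated) (f := f)).mp inferInstance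

end K465.AmpCone
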