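import Groth.Agent.Surf.K464.Comp
import Groth.Agent.Surf.K465.AmpCone
import Groth.Agent.Models.H38.SecDiv
import Groth.Agent.Dcoh.FinLocFree
import Groth.Agent.CurvesC.InvSec
import Groth.Agent.S8914

/-!
# Effective classes on a surface (K465)

* `exists_eff`: a nonzero section of an invertible module on an integral scheme has an effective Cartier divisor of
  zeros.
* `Cur k X`: the set of classes of integral curves in `N¹(X)_ℝ`.
* `clR_mem_of_section`: on a smooth surface the class of a module with a nonzero section is a sum of curve classes.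
-/

set_option autoImplicit false
universe u
open CategoryTheory CategoryTheory.Limits AlgebraicGeometry Opposite TopologicalSpace

namespace K465.Eff

open Groth.Agent.Grpsch.PicGrp Groth.Agent K465.ClP K464.Base K464.Curves
open Groth.Agent.Fdesc.LocGen Groth.Agent.Dix.IdealModCartier

/-- A nonzero section of an invertible module on an integral scheme has an effective Cartier divisor of zeros. -/
theorem exists_eff' {X : Scheme.{u}} [IsIntegral X] {M : X.Modules} (hM : PicF.IsInvertible M) (s : Γ(M, ⊤))
    (hs : s ≠ 0) :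
    ∃ (D : X.IdealSheafData) (hD : BlowUp.IsEffCartierIdeal D), mk M hM = (ic D hD)⁻¹ := by
  obtain ⟨D, hD, hinv, -⟩ := Models.H38.SecDiv.exists_divisor hM s (by
    intro V e a he hae
    by_cases hV : (V.1 : Set X).Nonempty
    · have hnz : a ≠ 0 := by
        rintro rfl
        rw [zero_smul] at hae
        exact hs (CurvesC.InvSec.eq_zero_of_res_eq_zero hM le_top hV s hae)
      have : Nonempty V.1 := hV.to_subtype
      exact mem_nonZeroDivisors_of_ne_zero hnz
    · have hb : V.1 = ⊥ := by
        rw [← TopologicalSpace.Opens.coe_eq_empty]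
        exact Set.not_nonempty_iff_eq_empty.1 hV
      have : Subsingleton Γ(X, V.1) := by
        rw [hb]
        exact inferInstanceAs (Subsingleton Γ(X, ⊥))
      rw [Subsingleton.elim a 1]
      exact one_mem _)
  exact ⟨D, hD, mk_eq_ic_inv hinv hM hD⟩

theorem exists_eff {X : Scheme.{u}} [IsIntegral X] {M : X.Modules} (hM : PicF.IsInvertible M)
    (t : Coh.structureModule X ⟶ M) (ht : t ≠ 0) :
    ∃ (D : X.IdealSheafData) (hD : BlowUp.IsEffCartierIdeal D), mk M hM = (ic D hD)⁻¹ :=
  exists_eff' hM (Dcoh.FinLocFree.unitEquiv M t) (by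
    intro h
    exact ht ((AddEquiv.map_eq_zero_iff _).1 h))

section

variable (k : Type u) [Field k] (X : Scheme.{u}) [X.Over (Spec (CommRingCat.of k))] [PicGrp.Law X]

/-- The classes of integral curves. -/
def Cur : Set (NumR.N1R k X) :=
  {v | ∃ (I : X.IdealSheafData), IsIntegral I.subscheme ∧ topologicalKrullDim (I.support : Set X) = 1 ∧
    ∃ hI : PicF.IsInvertible (ClSub.idealMod I), v = NumR.curveCl k X I hI}

variable {k X}

theorem mem_nefCone₂_iff (B : NumR.N1R k X →ₗ[ℝ] NumR.N1R k X →ₗ[ℝ] ℝ) (x : NumR.N1R k X) :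
    x ∈ NumR.nefCone₂ k X B ↔ ∀ v ∈ Cur k X, 0 ≤ B x v :=
  ⟨fun h v ⟨I, h1, h2, hI, hv⟩ => hv ▸ h I h1 h2 hI, fun h I h1 h2 hI => h _ ⟨I, h1, h2, hI, rfl⟩⟩

theorem curveCl_eq {I : X.IdealSheafData} (hE : BlowUp.IsEffCartierIdeal I) (hI : PicF.IsInvertible (ClSub.idealMod I)) :
    NumR.curveCl k X I hI = - clP k X (Additive.ofMul (ic I hE)) := rfl

/-- The class of an effective Cartier divisor on a regular surface is a sum of classes of integral curves. -/
theorem neg_clP_ic_mem [IsProper (X ↘ Spec (CommRingCat.of k))] [Smooth (X ↘ Spec (CommRingCat.of k))] [IsIntegral X]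
    (hdim : topologicalKrullDim X = 2) {F : X.IdealSheafData} (hF : BlowUp.IsEffCartierIdeal F) :
    - clP k X (Additive.ofMul (ic F hF)) ∈ AddSubmonoid.closure (Cur k X) := by
  have : IsNoetherian X := CurvesB.CurveRR.isNoetherian_of_proper k X
  refine K464.Comp.eff_induction k (X ↘ Spec (CommRingCat.of k)) hdim (fun x => S1535.result k X x)
    (P := fun F => ∀ hF : BlowUp.IsEffCartierIdeal F,
      - clP k X (Additive.ofMul (ic F hF)) ∈ AddSubmonoid.closure (Cur k X)) ?_ ?_ F hF hF
  · intro h
    rw [show ic (⊤ : X.IdealSheafData) h = 1 from ic_top, ofMul_one, map_zero, neg_zero]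
    exact AddSubmonoid.zero_mem _
  · intro C F hC hCe hFe ih h
    have h1 : ic (C * F) h = ic C hCe * ic F hFe := ic_mul hCe hFe
    rw [h1, ofMul_mul, map_add, neg_add]
    refine AddSubmonoid.add_mem _ (AddSubmonoid.subset_closure ⟨C, hC.integral, hC.dim, ?_, rfl⟩) (ih hFe)
    exact isInvertible_idealMod hCe

/-- The class of a module with a nonzero section on a smooth surface is a sum of classes of integral curves. -/
theorem clR_mem_of_section [IsProper (X ↘ Spec (CommRingCat.of k))] [Smooth (X ↘ Spec (CommRingCat.of k))]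
    [IsIntegral X] (hdim : topologicalKrullDim X = 2) {L : X.Modules} (hL : PicF.IsInvertible L)
    (t : Coh.structureModule X ⟶ L) (ht : t ≠ 0) :
    NumR.clR k X L hL ∈ AddSubmonoid.closure (Cur k X) := by
  obtain ⟨D, hD, h⟩ := exists_eff hL t ht
  rw [← clP_mk, h, ofMul_inv, map_neg]
  exact neg_clP_ic_mem hdim hD

/-- A nef class pairs nonnegatively with sums of curve classes. -/
theorem nonneg_of_mem_closure {B : NumR.N1R k X →ₗ[ℝ] NumR.N1R k X →ₗ[ℝ] ℝ} {x : NumR.N1R k X}
    (hx : x ∈ NumR.nefCone₂ k X B) {v : NumR.N1R k X} (hv : v ∈ AddSubmonoid.closure (Cur k X)) : 0 ≤ B x v := by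
  induction hv using AddSubmonoid.closure_induction with
  | mem v hv => exact (mem_nefCone₂_iff B x).1 hx v hv
  | zero => rw [map_zero]
  | add v w _ _ h1 h2 => rw [map_add]; exact add_nonneg h1 h2

end

end K465.Eff
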