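import Groth.Agent.S2831
import Groth.Agent.S2834
import Groth.Agent.S2821
import Groth.Agent.Surf.K455.PicLoc
import Groth.Agent.Surf.K455.BlowDim
import Groth.Agent.Surf.K464.Base

/-!
# The Picard group of the blow-up of a closed point of a regular surface (K465)

* `exists_ext`: for a parafactorial pair invertible modules extend.
* `exists_pull_mul`: every class on the blow-up is a pullback times a power of the ideal of the exceptional curve.
-/

set_option autoImplicit false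
universe u
open CategoryTheory CategoryTheory.Limits AlgebraicGeometry Opposite TopologicalSpace

namespace K465.PicBlow

open Groth.Agent.Grpsch.PicGrp Groth.Agent Groth.Agent.Fga.PicMon K464.Base
open Groth.Agent.Dix Groth.Agent.Dix.PointIdeal

/-- Extension of invertible classes from the complement of `Y` for a parafactorial pair. -/
theorem exists_ext {X : Scheme.{u}} {Y : Closeds X} (h : ParaF.IsParafactorialPair X Y) (l : Pic (Y.compl : Scheme.{u})) :
    ∃ b : Pic X, pull (Scheme.Opens.ι Y.compl) b = l := by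
  obtain ⟨-, h2⟩ := h ⊤
  have he : (⊤ ⊓ Y.compl : X.Opens) = Y.compl := top_inf_eq _
  let e : ((⊤ ⊓ Y.compl : X.Opens) : Scheme.{u}) ≅ (Y.compl : Scheme.{u}) := X.isoOfEq he
  obtain ⟨L₀, hL₀, h3⟩ := exists_mk (pull e.hom l)
  obtain ⟨L, hL, ⟨f⟩⟩ := h2 L₀ hL₀
  have h4 : pull (X.homOfLE (inf_le_left : (⊤ : X.Opens) ⊓ Y.compl ≤ ⊤)) (mk L hL) = pull e.hom l := by
    rw [pull_mk, h3, mk_eq_iff]
    exact ⟨(Scheme.Modules.restrictFunctorIsoPullback _).symm.app L ≪≫ f⟩
  refine ⟨pull X.topIso.inv (mk L hL), ?_⟩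
  rw [← pull_comp]
  have h5 : Scheme.Opens.ι Y.compl ≫ X.topIso.inv = e.inv ≫ X.homOfLE (inf_le_left : (⊤ : X.Opens) ⊓ Y.compl ≤ ⊤) := by
    rw [Iso.comp_inv_eq, Category.assoc]
    simp [e, Scheme.topIso_hom]
  rw [h5, pull_comp, h4, ← pull_comp, e.inv_hom_id, pull_id]

theorem mk_eq_of_mc {X : Scheme.{u}} {A B I : X.Modules} (hA : PicF.IsInvertible A) (hB : PicF.IsInvertible B)
    (hI : PicF.IsInvertible I) {a b : ℕ} (h : mc A * mc I ^ a = mc B * mc I ^ b) :
    mk A hA * mk I hI ^ a = mk B hB * mk I hI ^ b := by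
  rw [← mc_tensorPow, ← mc_tensorPow, ← mc_tensor, ← mc_tensor, mc_eq_iff] at h
  rw [← mk_tensorPow, ← mk_tensorPow, mk_mul_mk, mk_mul_mk, mk_eq_iff]
  exact h

/-- Every class on the blow-up of a point is a pullback times a power of the ideal of the exceptional curve. -/
theorem exists_pull_mul {X X' : Scheme.{u}} [IsLocallyNoetherian X] [IsIntegral X'] [IsNoetherian X'] (π : X' ⟶ X) (x : X)
    (hx : IsClosed ({x} : Set X)) (hπ : BlowUp.IsBlowUp π (pt x hx))
    (hpar : ParaF.IsParafactorialPair X ⟨{x}, hx⟩) [IsIntegral ((pt x hx).comap π).subscheme]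
    (hne : ∃ y : X', π y ≠ x) (a : Pic X') :
    ∃ (b : Pic X) (n : ℤ), a = pull π b * ic ((pt x hx).comap π) hπ.1 ^ n := by
  set D := (pt x hx).comap π with hD
  let Y : Closeds X := ⟨{x}, hx⟩
  let U : X.Opens := Y.compl
  have hU : U = K455.BlowDim.compl x hx := rfl
  have hiso : IsIso (π ∣_ U) := K455.BlowDim.isIso_restrict π x hx hπ
  obtain ⟨b, hb⟩ := exists_ext hpar (pull (inv (π ∣_ U)) (pull (π ⁻¹ᵁ U).ι a))
  have h1 : pull (π ⁻¹ᵁ U).ι (pull π b) = pull (π ⁻¹ᵁ U).ι a := by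
    rw [← pull_comp, ← morphismRestrict_ι, pull_comp]
    change pull (π ∣_ U) (pull (Scheme.Opens.ι Y.compl) b) = _
    rw [hb, ← pull_comp, IsIso.hom_inv_id, pull_id]
  obtain ⟨A, hA, rfl⟩ := exists_mk a
  obtain ⟨B, hB, h2⟩ := exists_mk (pull π b)
  rw [h2, pull_mk, pull_mk, mk_eq_iff] at h1
  have hsupp : (D.support : Set X') = π ⁻¹' {x} := by
    rw [hD, Scheme.IdealSheafData.support_comap]
    change π ⁻¹' ((pt x hx).support : Set X) = _
    rw [show ((pt x hx).support : Set X) = {x} from Scheme.IdealSheafData.coe_support_vanishingIdeal _]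
  have hrange : Set.range (π ⁻¹ᵁ U).ι = (D.support : Set X')ᶜ := by
    rw [Scheme.Opens.range_ι, hsupp]
    rfl
  obtain ⟨y, hy⟩ := hne
  have : Nonempty (π ⁻¹ᵁ U : Scheme.{u}) := ⟨⟨y, hy⟩⟩
  obtain ⟨m, n, h3⟩ := K455.PicLoc.exists_pow_iso D hπ.1 hB hA (π ⁻¹ᵁ U).ι hrange h1
  have h4 := mk_eq_of_mc hB hA (Groth.Agent.Dix.IdealModCartier.isInvertible_idealMod hπ.1) h3
  refine ⟨b, (m : ℤ) - n, ?_⟩
  rw [h2, zpow_sub, zpow_natCast, zpow_natCast, ← mul_assoc]
  change _ = Grpsch.PicGrp.mk B hB * Grpsch.PicGrp.mk (ClSub.idealMod D) _ ^ m * (Grpsch.PicGrp.mk (ClSub.idealMod D) _ ^ n)⁻¹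
  rw [h4, mul_inv_cancel_right]

/-- The pair (regular surface, closed point) is parafactorial. -/
theorem isParafactorialPair {X : Scheme.{u}} [IsLocallyNoetherian X] (x : X) (hx : IsClosed ({x} : Set X))
    [IsRegularLocalRing (X.presheaf.stalk x)] (hdim : ringKrullDim (X.presheaf.stalk x) = 2) :
    ParaF.IsParafactorialPair X ⟨{x}, hx⟩ := by
  rw [S2831.result]
  intro y hy
  obtain rfl : y = x := hy
  obtain ⟨h1, h2⟩ := S2821.result (X.presheaf.stalk y)
  exact S2834.result _ h2 hdim.ge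

end K465.PicBlow
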