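import Groth.Agent.Surf.K465.NumPic
import Groth.Agent.Surf.K465.PicBlow
import Groth.Agent.Surf.K455.ResOne
import Groth.Agent.Surf.K455.Proj
import Groth.Agent.Lefpen.H717.ProjIrr
import Mathlib.LinearAlgebra.TensorProduct.Prod

/-!
# `N¹` of the blow-up of a point (K465)

`equiv : N1 k X × ℤ ≃ₗ[ℤ] N1 k X'` and the real version.
-/

set_option autoImplicit false
universe u
open CategoryTheory CategoryTheory.Limits AlgebraicGeometry Opposite TopologicalSpace TensorProduct

namespace K465.BlowNum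

open Groth.Agent.Grpsch.PicGrp Groth.Agent K465.ClP K465.LinHodge K465.Eff K465.NumTriv
open K464.Base K464.Curves K465.AmpReal K465.NumPic Groth.Agent.Dix.PointIdeal

section alg

/-- Extension of scalars: an equivalence `M × ℤ ≃ N` gives the ranks over `ℝ`. -/
theorem finrank_real {M N : Type*} [AddCommGroup M] [AddCommGroup N] (e : (M × ℤ) ≃+ N)
    [Module.Finite ℝ (ℝ ⊗[ℤ] M)] : Module.Finite ℝ (ℝ ⊗[ℤ] N) ∧
      Module.finrank ℝ (ℝ ⊗[ℤ] N) = Module.finrank ℝ (ℝ ⊗[ℤ] M) + 1 := by
  let f : (ℝ ⊗[ℤ] (M × ℤ)) ≃ₗ[ℝ] (ℝ ⊗[ℤ] N) := e.toIntLinearEquiv.baseChange ℤ ℝ _ _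
  let g : (ℝ ⊗[ℤ] (M × ℤ)) ≃ₗ[ℝ] (ℝ ⊗[ℤ] M) × (ℝ ⊗[ℤ] ℤ) := TensorProduct.prodRight ℤ ℝ ℝ M ℤ
  let h : (ℝ ⊗[ℤ] ℤ) ≃ₗ[ℝ] ℝ := TensorProduct.AlgebraTensorModule.rid ℤ ℝ ℝ
  let F : ((ℝ ⊗[ℤ] M) × ℝ) ≃ₗ[ℝ] (ℝ ⊗[ℤ] N) :=
    ((LinearEquiv.refl ℝ _).prodCongr h.symm) ≪≫ₗ g.symm ≪≫ₗ f
  refine ⟨Module.Finite.equiv F, ?_⟩
  rw [← F.finrank_eq, Module.finrank_prod, Module.finrank_self]

end alg

section

variable {k : Type u} [Field k] [IsAlgClosed k] {X X' : Scheme.{u}}
  [X.Over (Spec (CommRingCat.of k))] [IsProper (X ↘ Spec (CommRingCat.of k))] [Smooth (X ↘ Spec (CommRingCat.of k))]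
  [IsIntegral X] (hdim : topologicalKrullDim X = 2) (hproj : ∃ H : X.Modules, CohB1.IsAmple H)
  (x : X) (hx : IsClosed ({x} : Set X))
  [X'.Over (Spec (CommRingCat.of k))] (π : X' ⟶ X)
  (hover : X' ↘ (Spec (CommRingCat.of k)) = π ≫ (X ↘ (Spec (CommRingCat.of k))))
  (hπ : BlowUp.IsBlowUp π (pt x hx))
  [IsIntegral X'] (hdim' : topologicalKrullDim X' = 2) (hproj' : ∃ H' : X'.Modules, CohB1.IsAmple H')
  [IsProper (X' ↘ (Spec (CommRingCat.of k)))] [Smooth (X' ↘ (Spec (CommRingCat.of k)))]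

include hdim hover hπ

/-- The intersection numbers on the blow-up. -/
theorem dots : (∀ a b : Pic X, dot k X' (pull π a) (pull π b) = dot k X a b) ∧
    (∀ a : Pic X, dot k X' (pull π a) (ic ((pt x hx).comap π) hπ.1) = 0) ∧
    dot k X' (ic ((pt x hx).comap π) hπ.1) (ic ((pt x hx).comap π) hπ.1) = -1 := by
  have := Fga.IntAdd.isNoetherian k X
  have hd : topologicalKrullDim X ≤ (2 : ℕ) := by rw [hdim]; rfl
  have hr : IsRegularLocalRing (X.presheaf.stalk x) := S1535.result k X x
  have h2 : ringKrullDim (X.presheaf.stalk x) = 2 := by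
    apply le_antisymm
    · refine le_trans ?_ hdim.le
      rw [Dix.ContractSurf.topologicalKrullDim_eq X]
      exact le_iSup (fun z : X => ringKrullDim (X.presheaf.stalk z)) x
    · exact K455.CMCut.le_ringKrullDim_stalk k X 2 (K455.Proj.dim_components hdim) x hx
  have hd' : topologicalKrullDim X' ≤ (2 : ℕ) := K455.BlowDim.dim_blowUp_le π x hx h2 hπ hd
  have hI := Groth.Agent.Dix.IdealModCartier.isInvertible_idealMod hπ.1
  have key := fun (L M : X.Modules) (hL : PicF.IsInvertible L) (hM : PicF.IsInvertible M) =>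
    K455.BlowDim.main π x hx h2 hπ k hover.symm hd L M hL hM
  let : Algebra k (X.residueField x) := Curv2.resAlgebra k X x
  have h6 : Module.finrank k (X.residueField x) = 1 := K455.ResOne.finrank_residueField k X hx
  refine ⟨fun a b => ?_, fun a => ?_, ?_⟩
  · obtain ⟨L, hL, rfl⟩ := exists_mk a
    obtain ⟨M, hM, rfl⟩ := exists_mk b
    have h3 := (key L M hL hM).1
    rw [intNum_eq_dot k X' hd' (Groth.Agent.Fdesc.LocGen.isInvertible_pullback π hL)
      (Groth.Agent.Fdesc.LocGen.isInvertible_pullback π hM), intNum_eq_dot k X hd hL hM] at h3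
    rw [pull_mk, pull_mk]
    exact h3
  · obtain ⟨L, hL, rfl⟩ := exists_mk a
    have h3 := (key L L hL hL).2.1
    rw [intNum_eq_dot k X' hd' (Groth.Agent.Fdesc.LocGen.isInvertible_pullback π hL) hI] at h3
    rw [pull_mk]
    exact h3
  · have h3 := (key (Coh.structureModule X) (Coh.structureModule X) Fdesc.LocGen.isInvertible_structureModule
      Fdesc.LocGen.isInvertible_structureModule).2.2
    rw [intNum_eq_dot k X' hd' hI hI] at h3
    refine h3.trans ?_
    change -(Module.finrank k (X.residueField x) : ℤ) = -1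
    rw [h6]
    rfl

include hdim' in
/-- The Picard group of the blow-up is generated by pullbacks and the exceptional curve. -/
theorem exists_pull (a : Pic X') : ∃ (b : Pic X) (n : ℤ), a = pull π b * ic ((pt x hx).comap π) hπ.1 ^ n := by
  have := Fga.IntAdd.isNoetherian k X
  have := Fga.IntAdd.isNoetherian k X'
  have hd : topologicalKrullDim X ≤ (2 : ℕ) := by rw [hdim]; rfl
  have hr : IsRegularLocalRing (X.presheaf.stalk x) := S1535.result k X x
  have h2 : ringKrullDim (X.presheaf.stalk x) = 2 := by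
    apply le_antisymm
    · refine le_trans ?_ hdim.le
      rw [Dix.ContractSurf.topologicalKrullDim_eq X]
      exact le_iSup (fun z : X => ringKrullDim (X.presheaf.stalk z)) x
    · exact K455.CMCut.le_ringKrullDim_stalk k X 2 (K455.Proj.dim_components hdim) x hx
  have hint : IsIntegral ((pt x hx).comap π).subscheme := by
    obtain ⟨i, hi, hker, -⟩ := K455.ExcCurve.exists_curve π x hx h2 hπ
    have h1 : i.ker = ((pt x hx).comap π).subschemeι.ker := by rw [Scheme.IdealSheafData.ker_subschemeι, hker]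
    have h2 := IsClosedImmersion.isIso_lift ((pt x hx).comap π).subschemeι i h1.symm
    letI : Field (X.presheaf.stalk x ⧸ IsLocalRing.maximalIdeal (X.presheaf.stalk x)) := Ideal.Quotient.field _
    have h3 : IsIntegral (CohB1.ProjSpace 1 (X.presheaf.stalk x ⧸ IsLocalRing.maximalIdeal (X.presheaf.stalk x))) :=
      inferInstance
    let e := asIso (IsClosedImmersion.lift ((pt x hx).comap π).subschemeι i h1.symm.le)
    have : Nonempty ((pt x hx).comap π).subscheme := ⟨e.hom (genericPoint _)⟩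
    exact isIntegral_of_isOpenImmersion e.inv
  have hne : ∃ y : X', π y ≠ x := by
    by_contra hcon
    push Not at hcon
    have h3 := K455.BlowDim.dim_exc_le π x hx h2 hπ
    rw [dim_sub] at h3
    have h4 : (((pt x hx).comap π).support : Set X') = Set.univ := by
      rw [Scheme.IdealSheafData.support_comap]
      refine Set.eq_univ_of_forall fun y => ?_
      change π y ∈ ((pt x hx).support : Set X)
      rw [show ((pt x hx).support : Set X) = {x} from Scheme.IdealSheafData.coe_support_vanishingIdeal _]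
      exact hcon y
    rw [h4, (Homeomorph.Set.univ X').isHomeomorph.topologicalKrullDim_eq, hdim'] at h3
    exact absurd h3 (by norm_num)
  exact K465.PicBlow.exists_pull_mul π x hx hπ (K465.PicBlow.isParafactorialPair x hx h2) hne a

variable [PicGrp.Law X] [PicGrp.Law X']

include hproj hdim' hproj' in
/-- `N¹(X') ≅ N¹(X) ⊕ ℤ`. -/
theorem exists_equiv : Nonempty ((NumR.N1 k X × ℤ) ≃+ NumR.N1 k X') := by
  have hd : topologicalKrullDim X ≤ (2 : ℕ) := by rw [hdim]; rfl
  have hd' : topologicalKrullDim X' ≤ (2 : ℕ) := by rw [hdim']; rfl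
  obtain ⟨h1, h2, h3⟩ := dots hdim x hx π hover hπ
  set e := ic ((pt x hx).comap π) hπ.1 with he
  have h2' : ∀ (a : Pic X) (n : ℤ), dot k X' (pull π a) (e ^ n) = 0 := fun a n => by
    rw [dot_zpow_right k X' hd', h2, mul_zero]
  have h3' : ∀ n : ℤ, dot k X' (e ^ n) e = -n := fun n => by
    rw [dot_zpow_left k X' hd', h3]; ring
  -- pullback on numerical classes
  let P : Additive (Pic X) →+ NumR.N1 k X' := (q k X').comp (pull π).toAdditive
  have hker : (q k X).ker ≤ P.ker := by
    intro a ha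
    have ha := (q_eq_zero_iff hdim hproj a.toMul).1 ha
    rw [AddMonoidHom.mem_ker]
    change q k X' (Additive.ofMul (pull π a.toMul)) = 0
    rw [q_eq_zero_iff hdim' hproj']
    intro b'
    obtain ⟨b, n, rfl⟩ := exists_pull hdim x hx π hover hπ hdim' b'
    rw [dot_mul_right k X' hd', h1, ha, h2', add_zero]
  let g : NumR.N1 k X →+ NumR.N1 k X' := (q k X).liftOfSurjective q_surjective ⟨P, hker⟩
  have hg : ∀ a : Pic X, g (q k X (Additive.ofMul a)) = q k X' (Additive.ofMul (pull π a)) := fun a =>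
    AddMonoidHom.liftOfRightInverse_comp_apply _ _ _ ⟨P, hker⟩ (Additive.ofMul a)
  let G : NumR.N1 k X × ℤ →+ NumR.N1 k X' := g.coprod (zmultiplesHom _ (q k X' (Additive.ofMul e)))
  have hG : ∀ (a : Pic X) (n : ℤ), G (q k X (Additive.ofMul a), n) = q k X' (Additive.ofMul (pull π a * e ^ n)) := by
    intro a n
    rw [AddMonoidHom.coprod_apply, hg, ofMul_mul, map_add, ofMul_zpow, map_zsmul]
    rfl
  refine ⟨AddEquiv.ofBijective G ⟨?_, ?_⟩⟩
  · rw [injective_iff_map_eq_zero]
    rintro ⟨v, n⟩ hv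
    obtain ⟨a, rfl⟩ := q_surjective v
    have hv := (q_eq_zero_iff hdim' hproj' _).1 ((hG a.toMul n).symm.trans hv)
    have hn : n = 0 := by
      have := hv e
      rw [dot_mul_left k X' hd', h2, h3'] at this
      omega
    subst hn
    have ha : q k X a = 0 := by
      refine (q_eq_zero_iff hdim hproj a.toMul).2 ?_
      intro b
      have := hv (pull π b)
      rwa [zpow_zero, mul_one, h1] at this
    rw [ha]; rfl
  · intro v
    obtain ⟨a', rfl⟩ := q_surjective v
    obtain ⟨b, n, h⟩ := exists_pull hdim x hx π hover hπ hdim' a'.toMul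
    refine ⟨(q k X (Additive.ofMul b), n), ?_⟩
    rw [hG, ← h]
    rfl

end

end K465.BlowNum
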