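import Groth.Agent.Fga.PathLemma

/-!
# The path argument in a quadrant

`h0, h2, χ : ℤ → ℤ → ℤ` are the functions `(a, b) ↦ h⁰, h², χ` of `M^a ⊗ N^b` on an integral proper surface, `M`
effective, `M² > 0`, `M N ≥ 0`, `N² > 0`: then `h⁰(N^n) > 0` and `χ(N^n) ≤ h⁰(N^n) + K` for large `n`.
-/

set_option autoImplicit false

namespace K465.Quadrant

open Groth.Agent.Fga.PathLemma

theorem large (f : ℤ → ℤ → ℤ) (P Q R u v w : ℤ) (hP : 0 < P) (hQ : 0 ≤ Q) (hR : 0 < R)
    (hf : ∀ a b, 2 * f a b = P * a * a + 2 * Q * a * b + R * b * b + u * a + v * b + w) (B : ℤ) :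
    ∃ n0 : ℤ, ∀ n, n0 ≤ n → ∀ a b, 0 ≤ a → a ≤ n → 0 ≤ b → b ≤ n → (a = n ∨ b = n) → B < f a b := by
  refine ⟨|u| + |v| + |w| + 2 * |B| + 1, fun n hn a b ha han hb hbn hab => ?_⟩
  have hu := neg_abs_le u
  have hv := neg_abs_le v
  have hw := neg_abs_le w
  have hB := le_abs_self B
  have hu0 := abs_nonneg u
  have hv0 := abs_nonneg v
  have hw0 := abs_nonneg w
  have hB0 := abs_nonneg B
  have hn1 : 1 ≤ n := by linarith
  have h1 : n * n ≤ P * a * a + 2 * Q * a * b + R * b * b := by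
    have h2 : 0 ≤ 2 * Q * a * b := by positivity
    rcases hab with rfl | rfl
    · have h3 : 0 ≤ R * b * b := by positivity
      have h4 : a * a ≤ P * a * a := by nlinarith [mul_nonneg ha ha]
      linarith
    · have h3 : 0 ≤ P * a * a := by positivity
      have h4 : b * b ≤ R * b * b := by nlinarith [mul_nonneg hb hb]
      linarith
  have h2 : -(|u| * n) ≤ u * a := by
    have : |u * a| ≤ |u| * n := by
      rw [abs_mul, abs_of_nonneg ha]; exact mul_le_mul_of_nonneg_left han hu0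
    exact (abs_le.mp this).1
  have h3 : -(|v| * n) ≤ v * b := by
    have : |v * b| ≤ |v| * n := by
      rw [abs_mul, abs_of_nonneg hb]; exact mul_le_mul_of_nonneg_left hbn hv0
    exact (abs_le.mp this).1
  have h4 : (|u| + |v| + |w| + 2 * |B| + 1) * n ≤ n * n := mul_le_mul_of_nonneg_right hn (by linarith)
  have h5 : |w| ≤ |w| * n := le_mul_of_one_le_right hw0 hn1
  have h6 : |B| ≤ |B| * n := le_mul_of_one_le_right hB0 hn1
  have h7 := hf a b
  nlinarith

theorem main (h0 h2 χ : ℤ → ℤ → ℤ) (K P Q R : ℤ)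
    (hχ : ∀ a b, χ a b ≤ h0 a b + h2 a b)
    (hstep : ∀ a b a' b', |a - a'| + |b - b'| = 1 → 0 < h0 a b → h2 a' b' ≤ K)
    (hstart : ∀ n : ℤ, 0 < n → 0 < h0 n 0)
    (hP : ∀ a b, χ (a + 2) b - 2 * χ (a + 1) b + χ a b = P)
    (hQ : ∀ a b, χ (a + 1) (b + 1) - χ (a + 1) b - χ a (b + 1) + χ a b = Q)
    (hR : ∀ a b, χ a (b + 2) - 2 * χ a (b + 1) + χ a b = R)
    (hPpos : 0 < P) (hQpos : 0 ≤ Q) (hRpos : 0 < R) :
    ∃ N : ℤ, ∀ n, N ≤ n → 0 < h0 0 n ∧ χ 0 n ≤ h0 0 n + K := by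
  obtain ⟨n0, hn0⟩ := large χ P Q R (2 * (χ 1 0 - χ 0 0) - P) (2 * (χ 0 1 - χ 0 0) - R) (2 * χ 0 0) hPpos hQpos hRpos
    (fun a b => by rw [quadratic_of_second_differences χ P Q R hP hQ hR a b]; ring) |K|
  refine ⟨max n0 1, fun n hn => ?_⟩
  have hn' := hn0 n ((le_max_left _ _).trans hn)
  have hn1 : 1 ≤ n := (le_max_right _ _).trans hn
  have hK := le_abs_self K
  have step : ∀ a b a' b', |a - a'| + |b - b'| = 1 → 0 < h0 a b →
      0 ≤ a' → a' ≤ n → 0 ≤ b' → b' ≤ n → (a' = n ∨ b' = n) → 0 < h0 a' b' ∧ χ a' b' ≤ h0 a' b' + K := by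
    intro a b a' b' h1 h2' h3 h4 h5 h6 h7
    have e1 := hstep a b a' b' h1 h2'
    have e2 := hn' a' b' h3 h4 h5 h6 h7
    have e3 := hχ a' b'
    constructor <;> linarith
  obtain ⟨N, rfl⟩ := Int.eq_ofNat_of_zero_le (show 0 ≤ n by linarith)
  have up : ∀ j : ℕ, (j : ℤ) ≤ N → 0 < h0 N j := by
    intro j
    induction j with
    | zero => intro _; simpa using hstart N (by linarith)
    | succ j ih =>
      intro hj
      push_cast at hj ⊢
      exact (step N j N (j + 1) (by simp) (ih (by linarith)) (by linarith) le_rfl (by positivity) hj (Or.inl rfl)).1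
  have left : ∀ j : ℕ, (j : ℤ) ≤ N → 0 < h0 (N - j) N := by
    intro j
    induction j with
    | zero => intro _; simpa using up N le_rfl
    | succ j ih =>
      intro hj
      push_cast at hj ⊢
      exact (step (N - j) N (N - (j + 1)) N (by simp) (ih (by linarith)) (by linarith) (by linarith) (by linarith)
        le_rfl (Or.inr rfl)).1
  obtain ⟨M, rfl⟩ : ∃ M, N = M + 1 := ⟨N - 1, by omega⟩
  have h1 := left M (by push_cast; linarith)
  have e : ((M + 1 : ℕ) : ℤ) - (M : ℤ) = 1 := by push_cast; ring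
  rw [e] at h1
  exact step 1 ((M + 1 : ℕ) : ℤ) 0 ((M + 1 : ℕ) : ℤ) (by simp) h1 le_rfl (by positivity) (by positivity) le_rfl (Or.inr rfl)

end K465.Quadrant
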