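import Groth.Agent.Fga.HodgeIneq
import Groth.Agent.Surf.K465.Quadrant

/-!
# Large powers of a class of positive square have sections (duality-free)

`Z` integral, proper over a field `k`, `dim Z ≤ 2`; `M` invertible with a nonzero section, `M² > 0`, `M N ≥ 0` and `N² > 0`.
Then `N^j` has a nonzero section for all large `j`, and `χ(N^j) ≤ h⁰(N^j) + K`.
-/

set_option autoImplicit false
universe u
open CategoryTheory CategoryTheory.Limits AlgebraicGeometry Opposite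

namespace K465.Sec

open Groth.Agent.Ega2 Groth.Agent.Fga Groth.Agent.Fga.AltSum Groth.Agent.Fga.PicMon Groth.Agent.Fga.HodgeSec
  Groth.Agent.Fga.HodgeIneq

variable {Z : Scheme.{u}} (k : Type u) [Field k] [Z.Over (Spec (CommRingCat.of k))]
  [IsProper (Z ↘ Spec (CommRingCat.of k))] [IsIntegral Z]

theorem units (hdim : topologicalKrullDim Z ≤ (2 : ℕ)) (m n : (MC Z)ˣ) (hm : 0 < hCl Z k 0 m)
    (hP : 0 < dSum (χCl Z k) ![((m⁻¹ : (MC Z)ˣ) : MC Z), ((m⁻¹ : (MC Z)ˣ) : MC Z)])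
    (hQ : 0 ≤ dSum (χCl Z k) ![((m⁻¹ : (MC Z)ˣ) : MC Z), ((n⁻¹ : (MC Z)ˣ) : MC Z)])
    (hR : 0 < dSum (χCl Z k) ![((n⁻¹ : (MC Z)ˣ) : MC Z), ((n⁻¹ : (MC Z)ˣ) : MC Z)]) :
    ∃ N K : ℤ, ∀ j : ℤ, N ≤ j → 0 < hCl Z k 0 ((n ^ j : (MC Z)ˣ) : MC Z) ∧
      χCl Z k ((n ^ j : (MC Z)ˣ) : MC Z) ≤ hCl Z k 0 ((n ^ j : (MC Z)ˣ) : MC Z) + K := by
  let w : ℤ → ℤ → (MC Z)ˣ := fun a b => m ^ a * n ^ b
  have hwadd : ∀ a b a' b', w (a + a') (b + b') = w a b * w a' b' := by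
    intro a b a' b'
    simp only [w, zpow_add]
    rw [mul_mul_mul_comm]
  have key : ∀ (a b a' b' : ℤ), 0 < hCl Z k 0 (w a b : MC Z) →
      hCl Z k 2 (w (a + a') (b + b') : MC Z) ≤ hCl Z k 2 (w a' b' : MC Z) := by
    intro a b a' b' h
    rw [hwadd, Units.val_mul]
    exact hCl_two_le k hdim _ _ h
  have key0 : ∀ (a b a' b' : ℤ), 0 < hCl Z k 0 (w a b : MC Z) →
      hCl Z k 0 (w a' b' : MC Z) ≤ hCl Z k 0 (w (a + a') (b + b') : MC Z) := by
    intro a b a' b' h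
    rw [hwadd, Units.val_mul]
    exact hCl_zero_le k _ _ h
  let Kc : ℤ := max (max (hCl Z k 2 (w 1 0 : MC Z)) (hCl Z k 2 (w (-1) 0 : MC Z)))
      (max (hCl Z k 2 (w 0 1 : MC Z)) (hCl Z k 2 (w 0 (-1) : MC Z)))
  have hmain := Quadrant.main (fun a b => hCl Z k 0 (w a b : MC Z)) (fun a b => hCl Z k 2 (w a b : MC Z))
    (fun a b => χCl Z k (w a b : MC Z)) Kc _ _ _
    (fun a b => χCl_le k _) ?_ ?_ ?_ ?_ ?_ hP hQ hR
  · obtain ⟨N, hN⟩ := hmain
    refine ⟨N, Kc, fun j hj => ?_⟩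
    have h := hN j hj
    have e : w 0 j = n ^ j := by simp [w]
    rw [← e]
    exact h
  · -- steps
    intro a b a' b' hab h
    have h1 := key a b (a' - a) (b' - b) h
    rw [add_sub_cancel, add_sub_cancel] at h1
    refine h1.trans ?_
    have hcases : (a' - a = 1 ∧ b' - b = 0) ∨ (a' - a = -1 ∧ b' - b = 0) ∨
        (a' - a = 0 ∧ b' - b = 1) ∨ (a' - a = 0 ∧ b' - b = -1) := by
      rcases abs_cases (a - a') with ⟨h1, -⟩ | ⟨h1, -⟩ <;> rcases abs_cases (b - b') with ⟨h2, -⟩ | ⟨h2, -⟩ <;>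
        have h3 := abs_nonneg (a - a') <;> have h4 := abs_nonneg (b - b') <;> omega
    rcases hcases with ⟨h1, h2⟩ | ⟨h1, h2⟩ | ⟨h1, h2⟩ | ⟨h1, h2⟩ <;> rw [h1, h2]
    · exact (le_max_left _ _).trans (le_max_left _ _)
    · exact (le_max_right _ _).trans (le_max_left _ _)
    · exact (le_max_left _ _).trans (le_max_right _ _)
    · exact (le_max_right _ _).trans (le_max_right _ _)
  · -- start
    intro j hj
    obtain ⟨j', rfl⟩ := Int.eq_ofNat_of_zero_le hj.le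
    have hw1 : w 1 0 = m := by simp [w]
    have hpos1 : ∀ i : ℕ, 0 < hCl Z k 0 (w ((i : ℤ) + 1) 0 : MC Z) := by
      intro i
      induction i with
      | zero =>
        rw [Nat.cast_zero, zero_add, hw1]
        exact hm
      | succ i ih =>
        have h1 := key0 1 0 ((i : ℤ) + 1) 0 (by rw [hw1]; exact hm)
        rw [zero_add, add_comm (1 : ℤ)] at h1
        push_cast
        exact lt_of_lt_of_le ih h1
    obtain ⟨i, rfl⟩ : ∃ i, j' = i + 1 := ⟨j' - 1, by omega⟩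
    have := hpos1 i
    push_cast
    exact this
  · intro a b
    have h1 := second_difference k hdim (w (a + 2) b) m⁻¹ m⁻¹
    have e1 : ((w (a + 2) b : (MC Z)ˣ) : MC Z) * ((m⁻¹ : (MC Z)ˣ) : MC Z) = (w (a + 1) b : MC Z) := by
      rw [← Units.val_mul]
      congr 1
      simp only [w]
      rw [mul_right_comm, ← zpow_sub_one]
      congr 2
      ring
    have e2 : ((w (a + 2) b : (MC Z)ˣ) : MC Z) * (((m⁻¹ : (MC Z)ˣ) : MC Z) * ((m⁻¹ : (MC Z)ˣ) : MC Z)) =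
        (w a b : MC Z) := by
      rw [← mul_assoc, e1, ← Units.val_mul]
      congr 1
      simp only [w]
      rw [mul_right_comm, ← zpow_sub_one, add_sub_cancel_right]
    rw [e1, e2] at h1
    linarith
  · intro a b
    have h1 := second_difference k hdim (w (a + 1) (b + 1)) m⁻¹ n⁻¹
    have e1 : ((w (a + 1) (b + 1) : (MC Z)ˣ) : MC Z) * ((m⁻¹ : (MC Z)ˣ) : MC Z) = (w a (b + 1) : MC Z) := by
      rw [← Units.val_mul]
      congr 1
      simp only [w]
      rw [mul_right_comm, ← zpow_sub_one, add_sub_cancel_right]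
    have e2 : ((w (a + 1) (b + 1) : (MC Z)ˣ) : MC Z) * ((n⁻¹ : (MC Z)ˣ) : MC Z) = (w (a + 1) b : MC Z) := by
      rw [← Units.val_mul]
      congr 1
      simp only [w]
      rw [mul_assoc, ← zpow_sub_one, add_sub_cancel_right]
    have e3 : ((w (a + 1) (b + 1) : (MC Z)ˣ) : MC Z) * (((m⁻¹ : (MC Z)ˣ) : MC Z) * ((n⁻¹ : (MC Z)ˣ) : MC Z)) =
        (w a b : MC Z) := by
      rw [← mul_assoc, e1, ← Units.val_mul]
      congr 1
      simp only [w]
      rw [mul_assoc, ← zpow_sub_one, add_sub_cancel_right]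
    rw [e1, e2, e3] at h1
    linarith
  · intro a b
    have h1 := second_difference k hdim (w a (b + 2)) n⁻¹ n⁻¹
    have e1 : ((w a (b + 2) : (MC Z)ˣ) : MC Z) * ((n⁻¹ : (MC Z)ˣ) : MC Z) = (w a (b + 1) : MC Z) := by
      rw [← Units.val_mul]
      congr 1
      simp only [w]
      rw [mul_assoc, ← zpow_sub_one]
      congr 2
      ring
    have e2 : ((w a (b + 2) : (MC Z)ˣ) : MC Z) * (((n⁻¹ : (MC Z)ˣ) : MC Z) * ((n⁻¹ : (MC Z)ˣ) : MC Z)) =
        (w a b : MC Z) := by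
      rw [← mul_assoc, e1, ← Units.val_mul]
      congr 1
      simp only [w]
      rw [mul_assoc, ← zpow_sub_one, add_sub_cancel_right]
    rw [e1, e2] at h1
    linarith

omit [IsProper (Z ↘ Spec (CommRingCat.of k))] [IsIntegral Z] in
theorem mc_tensorPow (L : Z.Modules) (j : ℕ) : mc (CohB1.tensorPow L j) = mc L ^ j := by
  induction j with
  | zero => rw [pow_zero]; rfl
  | succ j ih => rw [pow_succ, ← ih]; rfl

/-- Large powers of `L` have sections: `M` effective, `M² > 0`, `(M L) ≥ 0`, `L² > 0`. -/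
theorem exists_sections (hdim : topologicalKrullDim Z ≤ (2 : ℕ)) (M M' L L' : Z.Modules)
    (hM : PicF.IsInvertible M)
    (hMM' : Nonempty (CohB1.tensorMod M M' ≅ Coh.structureModule Z))
    (hLL' : Nonempty (CohB1.tensorMod L L' ≅ Coh.structureModule Z))
    (s : Coh.structureModule Z ⟶ M) (hs : s ≠ 0)
    (hP : 0 < FGA.intNum k Z 2 ![M', M'] (Coh.structureModule Z))
    (hQ : 0 ≤ FGA.intNum k Z 2 ![M', L'] (Coh.structureModule Z))
    (hR : 0 < FGA.intNum k Z 2 ![L', L'] (Coh.structureModule Z)) :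
    ∃ (N : ℕ) (K : ℤ), ∀ j : ℕ, N ≤ j → (∃ t : Coh.structureModule Z ⟶ CohB1.tensorPow L j, t ≠ 0) ∧
      FGA.eulerCharLE k Z (CohB1.tensorPow L j) 2 ≤ (Module.finrank k (Coh.HH Z (CohB1.tensorPow L j) 0) : ℤ) + K := by
  rw [intNum_two] at hP hQ hR
  have h1 : 0 < hCl Z k 0 (unitOf M M' hMM' : MC Z) := by
    change 0 < hCl Z k 0 (mc M)
    rw [hCl_mc]
    exact_mod_cast finrank_pos_of_ne_zero k hM s hs
  obtain ⟨N, K, h⟩ := units k hdim (unitOf M M' hMM') (unitOf L L' hLL') h1 hP hQ hR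
  refine ⟨N.toNat, K, fun j hj => ?_⟩
  have hj' : N ≤ (j : ℤ) := (Int.self_le_toNat N).trans (by exact_mod_cast hj)
  obtain ⟨h2, h3⟩ := h j hj'
  have e : (((unitOf L L' hLL') ^ (j : ℤ) : (MC Z)ˣ) : MC Z) = mc (CohB1.tensorPow L j) := by
    rw [zpow_natCast, Units.val_pow_eq_pow_val, mc_tensorPow]
    rfl
  rw [e, hCl_mc] at h2 h3
  refine ⟨exists_section k (by exact_mod_cast h2), ?_⟩
  refine le_trans (le_of_eq ?_) h3
  unfold χCl
  rw [chiCl_mc]
  exact (euler_iso k Z (Tens.runit (CohB1.tensorPow L j)) 2).symm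

end K465.Sec
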