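import Groth.Agent.Surf.K465.Ip
import Groth.Agent.Surf.K465.Sec
import Groth.Agent.Ega2.FiniteSet
import Groth.Agent.S3233
import Groth.Agent.VarietyB.ExactLoc

/-!
# The Hodge index inequality on a projective integral surface, for the form `ip`

`X` integral, proper over a field `k`, `dim X ≤ 2`, with an ample module `H`.

* `ip_ample_pos`: `(H · H') > 0` for ample `H`, `H'` if `dim X = 2`.
* `hodge_ample`: `(H·H) (L·L) ≤ (H·L)²`.
* `hodge_pos`: `(L·L) > 0`, `(L·M) = 0` imply `(M·M) ≤ 0`.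
* `exists_sections`: `(L·L) > 0`, `(L·H) ≥ 0` imply that `L^n` has nonzero sections for large `n`.
-/

set_option autoImplicit false
universe u
open CategoryTheory CategoryTheory.Limits AlgebraicGeometry TopologicalSpace

namespace K465.Hodge2

open Groth.Agent.Grpsch.PicGrp K465.Ip Groth.Agent.Ega2 Groth.Agent.Fdesc.LocGen

theorem mem_support_unit {X : Scheme.{u}} (x : X) : x ∈ CohB1.support (Coh.structureModule X) := by
  intro hsub
  have h1 : (Coh.structureModule X).presheaf.germ ⊤ x (Opens.mem_top _) (one ⊤) = 0 := Subsingleton.elim _ _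
  obtain ⟨V, hVU, hxV, hV⟩ :=
    Groth.Agent.VarietyB.ExactLoc.exists_res_eq_zero (Coh.structureModule X) (Opens.mem_top _) _ h1
  have h2 : one (X := X) V = 0 := by
    rw [← res_one hVU]
    exact hV
  have h5 : (1 : Γ(X, V)) = 0 := by
    apply (isGen_one V).ext
    rw [h2, smul_zero, smul_zero]
  have : Nonempty V := ⟨⟨x, hxV⟩⟩
  exact one_ne_zero h5

theorem support_unit (X : Scheme.{u}) : CohB1.support (Coh.structureModule X) = Set.univ :=
  Set.eq_univ_of_forall mem_support_unit

/-- Some positive power of an ample module has a nonzero section. -/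
theorem exists_power_section {X : Scheme.{u}} [Nonempty X] {H : X.Modules} (hH : CohB1.IsAmple H) :
    ∃ (n : ℕ) (s : Coh.structureModule X ⟶ CohB1.tensorPow H (n + 1)), s ≠ 0 := by
  obtain ⟨x⟩ := (inferInstance : Nonempty X)
  obtain ⟨n, s, hx, -⟩ := hH.2.2 x
  refine ⟨n, s, fun h => ?_⟩
  subst h
  rw [Groth.Agent.Ega2.FiniteSet.genLocus_zero] at hx
  exact hx

/-- Signature argument. -/
theorem signature {A : Type*} [AddCommGroup A] (b : A →+ A →+ ℤ) (symm : ∀ x y, b x y = b y x) (h : A) (hh : 0 < b h h)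
    (hodge : ∀ x, b h h * b x x ≤ b h x ^ 2) (l m : A) (hpos : 0 < b l l) (horth : b l m = 0) : b m m ≤ 0 := by
  by_contra hcon
  push Not at hcon
  have h1 := hodge ((b h m) • l - (b h l) • m)
  have h2 : b h ((b h m) • l - (b h l) • m) = 0 := by
    rw [map_sub, map_zsmul, map_zsmul, smul_eq_mul, smul_eq_mul]; ring
  have h3 : b ((b h m) • l - (b h l) • m) ((b h m) • l - (b h l) • m) = (b h m) ^ 2 * b l l + (b h l) ^ 2 * b m m := by
    simp only [map_sub, map_zsmul, AddMonoidHom.sub_apply, smul_eq_mul, AddMonoidHom.coe_smul, Pi.smul_apply]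
    rw [symm m l, horth]
    ring
  rw [h2, h3] at h1
  have h4 : (b h m) ^ 2 * b l l + (b h l) ^ 2 * b m m ≤ 0 := by
    by_contra h5
    push Not at h5
    have := mul_pos hh h5
    linarith
  have h5 : 0 ≤ (b h m) ^ 2 * b l l := by positivity
  have h6 : 0 ≤ (b h l) ^ 2 * b m m := by positivity
  have h7 : (b h l) ^ 2 * b m m = 0 := by linarith
  have h8 : b h l = 0 := by
    rcases mul_eq_zero.mp h7 with h9 | h9
    · exact pow_eq_zero_iff (two_ne_zero) |>.mp h9
    · exact absurd h9 hcon.ne'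
  have h9 := hodge l
  rw [h8] at h9
  have := mul_pos hh hpos
  linarith

variable (k : Type u) [Field k] (X : Scheme.{u}) [X.Over (Spec (CommRingCat.of k))]
  [IsProper (X ↘ Spec (CommRingCat.of k))] (hd : topologicalKrullDim X ≤ (2 : ℕ))

variable {X}

theorem ip_ample_pos [Nonempty X] (hdim : topologicalKrullDim X = 2) {L M : X.Modules}
    (hL : CohB1.IsAmple L) (hM : CohB1.IsAmple M) :
    0 < ip k X hd (Additive.ofMul (mk L hL.1)) (Additive.ofMul (mk M hM.1)) := by
  obtain ⟨L', hL', e⟩ := exists_inverse hL.1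
  obtain ⟨M', hM', f⟩ := exists_inverse hM.1
  rw [ip_mk_inv k hd hL.1 hM.1 e f hL' hM']
  refine Groth.Agent.S3233.result k X 2 hd ![L, M] ![L', M'] ?_ ?_ (Coh.structureModule X) (isCoh_unit X) ?_
  · intro i; fin_cases i <;> assumption
  · intro i; fin_cases i <;> assumption
  · rw [support_unit]
    have h := (Homeomorph.Set.univ X).isHomeomorph.topologicalKrullDim_eq
    rw [h, hdim]
    rfl

variable [IsIntegral X]

theorem hodge_section {M L : X.Modules} (hM : PicF.IsInvertible M) (hL : PicF.IsInvertible L)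
    (s : Coh.structureModule X ⟶ M) (hs : s ≠ 0)
    (hpos : 0 < ip k X hd (Additive.ofMul (mk M hM)) (Additive.ofMul (mk M hM))) :
    ip k X hd (Additive.ofMul (mk M hM)) (Additive.ofMul (mk M hM)) *
      ip k X hd (Additive.ofMul (mk L hL)) (Additive.ofMul (mk L hL)) ≤
      ip k X hd (Additive.ofMul (mk M hM)) (Additive.ofMul (mk L hL)) ^ 2 := by
  obtain ⟨M', hM', e⟩ := exists_inverse hM
  obtain ⟨L', hL', f⟩ := exists_inverse hL
  rw [ip_mk_inv k hd hM hM e e hM' hM'] at hpos ⊢
  rw [ip_mk_inv k hd hL hL f f hL' hL', ip_mk_inv k hd hM hL e f hM' hL']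
  exact Groth.Agent.Fga.HodgeIneq.hodge_ineq k X hd M M' L L' hM hM' hL hL' e f s hs hpos

theorem hodge_ample {H L : X.Modules} (hH : CohB1.IsAmple H) (hL : PicF.IsInvertible L)
    (hpos : 0 < ip k X hd (Additive.ofMul (mk H hH.1)) (Additive.ofMul (mk H hH.1))) :
    ip k X hd (Additive.ofMul (mk H hH.1)) (Additive.ofMul (mk H hH.1)) *
      ip k X hd (Additive.ofMul (mk L hL)) (Additive.ofMul (mk L hL)) ≤
      ip k X hd (Additive.ofMul (mk H hH.1)) (Additive.ofMul (mk L hL)) ^ 2 := by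
  obtain ⟨n, s, hs⟩ := exists_power_section hH
  have hHn := Groth.Agent.Fdesc.LocGen.isInvertible_tensorPow hH.1 (n + 1)
  have key : (Additive.ofMul (mk _ hHn) : Additive (Pic X)) = (n + 1) • Additive.ofMul (mk H hH.1) := by
    rw [← ofMul_pow, ← mk_tensorPow]
  have h0 : (0 : ℤ) < n + 1 := by positivity
  have h1 := hodge_section k hd hHn hL s hs (by
    rw [key, map_nsmul, map_nsmul, AddMonoidHom.nsmul_apply, smul_smul, nsmul_eq_mul]
    positivity)
  rw [key, map_nsmul, map_nsmul, AddMonoidHom.nsmul_apply, AddMonoidHom.nsmul_apply, smul_smul, nsmul_eq_mul,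
    nsmul_eq_mul] at h1
  push_cast at h1
  set a := ip k X hd (Additive.ofMul (mk H hH.1)) (Additive.ofMul (mk H hH.1))
  set b := ip k X hd (Additive.ofMul (mk L hL)) (Additive.ofMul (mk L hL))
  set c := ip k X hd (Additive.ofMul (mk H hH.1)) (Additive.ofMul (mk L hL))
  have h2 : ((n : ℤ) + 1) ^ 2 * (a * b) ≤ ((n : ℤ) + 1) ^ 2 * (c ^ 2) := by nlinarith
  exact le_of_mul_le_mul_left h2 (by positivity)

/-- The inequality for all classes. -/
theorem hodge_ample' {H : X.Modules} (hH : CohB1.IsAmple H)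
    (hpos : 0 < ip k X hd (Additive.ofMul (mk H hH.1)) (Additive.ofMul (mk H hH.1))) (x : Additive (Pic X)) :
    ip k X hd (Additive.ofMul (mk H hH.1)) (Additive.ofMul (mk H hH.1)) * ip k X hd x x ≤
      ip k X hd (Additive.ofMul (mk H hH.1)) x ^ 2 := by
  obtain ⟨N, hN, hNx⟩ := exists_mk x.toMul
  have hNx' : x = Additive.ofMul (mk N hN) := by rw [← hNx]; rfl
  rw [hNx']
  exact hodge_ample k hd hH hN hpos

/-- `(L·L) > 0`, `(L·M) = 0` imply `(M·M) ≤ 0`. -/
theorem hodge_pos (hdim : topologicalKrullDim X = 2) {H L M : X.Modules} (hH : CohB1.IsAmple H)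
    (hL : PicF.IsInvertible L) (hM : PicF.IsInvertible M)
    (hpos : 0 < ip k X hd (Additive.ofMul (mk L hL)) (Additive.ofMul (mk L hL)))
    (horth : ip k X hd (Additive.ofMul (mk L hL)) (Additive.ofMul (mk M hM)) = 0) :
    ip k X hd (Additive.ofMul (mk M hM)) (Additive.ofMul (mk M hM)) ≤ 0 := by
  have hHH := ip_ample_pos k hd hdim hH hH
  exact signature (ip k X hd) (ip_symm k hd) _ hHH (hodge_ample' k hd hH hHH) _ _ hpos horth

/-- Large powers of a class of positive square on the positive side of an ample class have nonzero sections. -/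
theorem exists_sections (hdim : topologicalKrullDim X = 2) {H L : X.Modules} (hH : CohB1.IsAmple H)
    (hL : PicF.IsInvertible L)
    (hpos : 0 < ip k X hd (Additive.ofMul (mk L hL)) (Additive.ofMul (mk L hL)))
    (hLH : 0 ≤ ip k X hd (Additive.ofMul (mk L hL)) (Additive.ofMul (mk H hH.1))) :
    ∃ (N : ℕ) (K : ℤ), ∀ j : ℕ, N ≤ j → (∃ t : Coh.structureModule X ⟶ CohB1.tensorPow L j, t ≠ 0) ∧
      FGA.eulerCharLE k X (CohB1.tensorPow L j) 2 ≤ (Module.finrank k (Coh.HH X (CohB1.tensorPow L j) 0) : ℤ) + K := by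
  obtain ⟨n, s, hs⟩ := exists_power_section hH
  have hHn := Groth.Agent.Fdesc.LocGen.isInvertible_tensorPow hH.1 (n + 1)
  have key : (Additive.ofMul (mk _ hHn) : Additive (Pic X)) = (n + 1) • Additive.ofMul (mk H hH.1) := by
    rw [← ofMul_pow, ← mk_tensorPow]
  have hHH := ip_ample_pos k hd hdim hH hH
  obtain ⟨M', hM', e⟩ := exists_inverse hHn
  obtain ⟨L', hL', f⟩ := exists_inverse hL
  refine K465.Sec.exists_sections k hd _ M' L L' hHn e f s hs ?_ ?_ ?_
  · rw [← ip_mk_inv k hd hHn hHn e e hM' hM', key, map_nsmul, map_nsmul, AddMonoidHom.nsmul_apply, smul_smul,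
      nsmul_eq_mul]
    positivity
  · rw [← ip_mk_inv k hd hHn hL e f hM' hL', key, ip_symm, map_nsmul, nsmul_eq_mul]
    positivity
  · rw [← ip_mk_inv k hd hL hL f f hL' hL']
    exact hpos

end K465.Hodge2
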