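import Groth.Agent.VarietyA.AmpleField
import Groth.Agent.Ega3B.ProjProper

/-!
# Closed subschemes of projective space: properness and ampleness of the hyperplane module
-/

set_option autoImplicit false
universe u
open CategoryTheory CategoryTheory.Limits AlgebraicGeometry

namespace K465.ProjH

theorem facts (k : Type u) [Field k] (X : Scheme.{u}) [X.Over (Spec (CommRingCat.of k))] {n : ℕ}
    (ι : X ⟶ CohB1.ProjSpace n k) [IsClosedImmersion ι]
    (hι : ι ≫ CohB1.ProjSpace.toSpec n k = X ↘ Spec (CommRingCat.of k)) :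
    IsProper (X ↘ Spec (CommRingCat.of k)) ∧
      CohB1.IsAmple ((Scheme.Modules.pullback ι).obj (Twist.twistProjSpace n k 1)) := by
  have h1 : IsProper (CohB1.ProjSpace.toSpec n k) := Groth.Agent.Ega3B.ProjProper.isProper_toSpec n k
  refine ⟨?_, ?_⟩
  · rw [← hι]; infer_instance
  · exact Groth.Agent.Flat2H.FamOpen.isAmple_pullback_of_isAffineHom ι
      (Groth.Agent.VarietyA.AmpleField.isAmple_twistProjSpace n k)

end K465.ProjH
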