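import Groth.Agent.Surf.K465.RNum
import Groth.Agent.CurvesB.SepVA
import Groth.Agent.Ega3A.PChart
import Groth.Prelude.Def_LCI2

/-!
# Very ampleness from the vanishing of `H¹(I_Z ⊗ L)` for `Z` of length at most two
-/

set_option autoImplicit false
universe u
open CategoryTheory CategoryTheory.Limits AlgebraicGeometry Opposite TopologicalSpace

namespace K465.RVA

open Groth.Agent K465.RNum

/-- A closed immersion into `P^n_k` gives very ampleness in the projective space form. -/
theorem isRelVeryAmplePn_of_closedImmersion {A : Type u} [CommRing A] {X : Scheme.{u}}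
    (p : X ⟶ Spec (CommRingCat.of A)) (L : X.Modules) {n : ℕ} (i : X ⟶ CohB1.ProjSpace n A)
    (hi : IsClosedImmersion i) (hp : i ≫ CohB1.ProjSpace.toSpec n A = p)
    (e : Nonempty ((Scheme.Modules.pullback i).obj (Twist.twistProjSpace n A 1) ≅ L)) :
    RelAmple.IsRelVeryAmplePn p L := by
  obtain ⟨e⟩ := e
  let c := Ega3A.PChart.chart n (𝟙 (Spec (CommRingCat.of A)))
  refine ⟨n, i ≫ c, inferInstance, ?_, ⟨?_⟩⟩
  · have h1 := Ega3A.PChart.chart_toBase n (𝟙 (Spec (CommRingCat.of A)))
    rw [Category.comp_id] at h1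
    refine (Category.assoc i c (CohB1.ProjSpaceOver.toBase n (Spec (CommRingCat.of A)))).trans ?_
    exact (congrArg (i ≫ ·) h1).trans hp
  · exact e.symm ≪≫ (Scheme.Modules.pullback i).mapIso (Ega3A.PChart.chartTwistIso n _ 1).symm ≪≫
      (Scheme.Modules.pullbackComp i c).app _

/-- If `H¹(I_Z ⊗ L) = 0` for all `Z` of length at most two then `L` is very ample. -/
theorem veryAmple (k : Type u) [Field k] [IsAlgClosed k] (X : Scheme.{u}) [X.Over (Spec (CommRingCat.of k))]
    [IsProper (X ↘ Spec (CommRingCat.of k))] {L : X.Modules} (hL : PicF.IsInvertible L)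
    (h : ∀ I : X.IdealSheafData, Z0 I → len k I ≤ 2 →
      Subsingleton (Coh.HH X (CohB1.tensorMod (ClSub.idealMod I) L) 1)) :
    RelAmple.IsRelVeryAmplePn (X ↘ (Spec (CommRingCat.of k))) L := by
  have hid : Spec.map (CommRingCat.ofHom (algebraMap k k)) = 𝟙 (Spec (CommRingCat.of k)) := by
    have : CommRingCat.ofHom (algebraMap k k) = 𝟙 (CommRingCat.of k) := rfl
    rw [this, Spec.map_id]
  have H : IsPullback (𝟙 X) (X ↘ Spec (CommRingCat.of k)) (X ↘ Spec (CommRingCat.of k))
      (Spec.map (CommRingCat.ofHom (algebraMap k k))) := by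
    rw [hid]
    exact IsPullback.of_id_fst
  obtain ⟨n, i, hi, hp, e⟩ := CurvesB.VeryAmple.of_separates H hL
    (CurvesB.SepVA.separates_of_vanShort _ (Fdesc.LocGen.isInvertible_pullback (𝟙 X) hL) (by
      intro Z _ _ hZ hle
      have h1 := h Z hZ (by rw [len_eq k hZ]; exact_mod_cast hle)
      exact K464.Cohom.hh_congr (Ega2.Tens.mapTIso (Iso.refl _) ((Scheme.Modules.pullbackId X).app L)) 1 h1))
  exact isRelVeryAmplePn_of_closedImmersion _ L i hi hp e

end K465.RVA
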