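import Mathlib.LinearAlgebra.Basis.VectorSpace
import Mathlib.Data.Real.Basic
import Mathlib.Tactic

/-!
# Real solutions of integral linear equations are combinations of integral solutions (K465)
-/

set_option autoImplicit false

namespace K465.RatRel

open Finsupp

theorem exists_int {ι : Type*} (Q : ι →₀ ℚ) : ∃ (N : ℕ) (Z : ι →₀ ℤ), 0 < N ∧ ∀ i, (Z i : ℚ) = N * Q i := by
  classical
  refine ⟨∏ i ∈ Q.support, (Q i).den, Finsupp.onFinset Q.support (fun i => ((∏ i ∈ Q.support, (Q i).den : ℕ) * Q i : ℚ).num) ?_,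
    Finset.prod_pos fun i _ => (Q i).den_pos, ?_⟩
  · intro i hi
    rw [Finsupp.mem_support_iff]
    intro h
    apply hi
    rw [h, mul_zero]; rfl
  · intro i
    rw [Finsupp.onFinset_apply]
    by_cases hi : i ∈ Q.support
    · obtain ⟨m, hm⟩ : (Q i).den ∣ ∏ i ∈ Q.support, (Q i).den := Finset.dvd_prod_of_mem (fun i => (Q i).den) hi
      have h1 : (((∏ i ∈ Q.support, (Q i).den : ℕ) : ℚ) * Q i) = ((m * (Q i).num : ℤ) : ℚ) := by
        rw [hm]
        push_cast
        have h2 : (Q i) * (Q i).den = (Q i).num := Rat.mul_den_eq_num (Q i)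
        rw [← h2]
        ring
      rw [h1, Rat.num_intCast]
    · rw [Finsupp.notMem_support_iff.1 hi, mul_zero]
      rfl

/-- A real vector satisfying integral linear equations is a real combination of integral vectors satisfying them. -/
theorem exists_decomp {ι : Type*} (T : ι →₀ ℝ) (R : Set (ι → ℤ)) (hT : ∀ r ∈ R, (T.sum fun i a => a * (r i : ℝ)) = 0) :
    ∃ (κ : Type) (s : Finset κ) (c : κ → ℝ) (Z : κ → (ι →₀ ℤ)),
      (∀ l, ∀ r ∈ R, ((Z l).sum fun i a => a * r i) = 0) ∧
      T = ∑ l ∈ s, c l • (Z l).mapRange (Int.cast : ℤ → ℝ) (Int.cast_zero) := by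
  classical
  let β := Module.Basis.ofVectorSpace ℚ ℝ
  have hQ : ∀ l, ∃ (N : ℕ) (Z : ι →₀ ℤ), 0 < N ∧ ∀ i, (Z i : ℚ) = N * β.coord l (T i) := by
    intro l
    obtain ⟨N, Z, h1, h2⟩ := exists_int (T.mapRange (β.coord l) (map_zero _))
    exact ⟨N, Z, h1, fun i => by rw [h2, Finsupp.mapRange_apply]⟩
  choose N Z hN hZ using hQ
  refine ⟨_, T.support.biUnion fun i => (β.repr (T i)).support, fun l => (N l : ℝ)⁻¹ * β l, Z, ?_, ?_⟩
  · intro l r hr
    have h1 := congrArg (β.coord l) (hT r hr)
    rw [map_zero, Finsupp.sum, map_sum] at h1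
    have h2 : ∀ i, β.coord l (T i * (r i : ℝ)) = β.coord l (T i) * r i := by
      intro i
      have : T i * (r i : ℝ) = (r i : ℚ) • T i := by
        rw [Rat.smul_def]; push_cast; ring
      rw [this, map_smul, smul_eq_mul, mul_comm]
    simp only [h2] at h1
    have h3 : (((Z l).sum fun i a => a * r i : ℤ) : ℚ) = 0 := by
      have hsub : (Z l).support ⊆ T.support := by
        intro i hi
        rw [Finsupp.mem_support_iff] at hi ⊢
        intro h
        apply hi
        have h4 := hZ l i
        rw [h, map_zero, mul_zero] at h4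
        exact_mod_cast h4
      rw [Finsupp.sum_of_support_subset _ hsub (fun i a => a * r i) (fun i _ => zero_mul _)]
      push_cast
      calc ∑ i ∈ T.support, ((Z l) i : ℚ) * r i = ∑ i ∈ T.support, N l * (β.coord l (T i) * r i) :=
            Finset.sum_congr rfl fun i _ => by rw [hZ]; ring
        _ = N l * ∑ i ∈ T.support, β.coord l (T i) * r i := by rw [Finset.mul_sum]
        _ = 0 := by rw [h1, mul_zero]
    exact_mod_cast h3
  · ext i
    rw [Finsupp.finsetSum_apply]
    have h1 : ∀ l, ((fun l => (N l : ℝ)⁻¹ * β l) l • (Z l).mapRange (Int.cast : ℤ → ℝ) Int.cast_zero) i =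
        (β.coord l (T i)) • β l := by
      intro l
      rw [Finsupp.smul_apply, Finsupp.mapRange_apply, smul_eq_mul]
      have h2 : ((Z l i : ℤ) : ℝ) = ((N l : ℚ) * β.coord l (T i) : ℚ) := by
        rw [← hZ]; push_cast; rfl
      have h3 : (N l : ℝ) ≠ 0 := by exact_mod_cast (hN l).ne'
      rw [h2, Rat.smul_def]
      push_cast
      field_simp
    simp only [h1]
    by_cases hi : i ∈ T.support
    · have h4 := β.linearCombination_repr (T i)
      rw [Finsupp.linearCombination_apply, Finsupp.sum_of_support_subset (s := T.support.biUnion fun i => (β.repr (T i)).support) _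
        (Finset.subset_biUnion_of_mem (fun i => (β.repr (T i)).support) hi) (fun i a => a • β i)
        (fun i _ => zero_smul _ _)] at h4
      exact h4.symm
    · rw [Finsupp.notMem_support_iff.1 hi]
      simp
end K465.RatRel
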