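import Groth.Agent.Surf.K465.AmpReal
import Groth.Agent.Surf.K465.RatRel
import Groth.Agent.Surf.K455.Pos

/-!
# Numerically trivial real divisors on a surface (K465)

* `isNumEquivZero_of_degOn`, `degOn_eq_zero`: numerical triviality and degrees on integral curves given by ideals.
* `isAmpleRDiv_add` (relative to: ample ⊗ numerically trivial is ample): an ample real divisor plus a numerically
  trivial one is ample.
-/

set_option autoImplicit false
universe u
open CategoryTheory CategoryTheory.Limits AlgebraicGeometry Opposite TopologicalSpace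

namespace K465.NumTriv

open Groth.Agent.Grpsch.PicGrp Groth.Agent K465.ClP K465.LinHodge K465.Eff
open K464.Base K464.Curves K465.AmpReal

section

variable {k : Type u} [Field k] {X : Scheme.{u}} [X.Over (Spec (CommRingCat.of k))]
  [IsProper (X ↘ Spec (CommRingCat.of k))] [Smooth (X ↘ Spec (CommRingCat.of k))] [IsIntegral X]

/-- The degree of `L` on a closed curve in terms of the ideal of the curve. -/
theorem curveDeg_eq (hdim : topologicalKrullDim X = 2) {Y : Scheme.{u}} (i : Y ⟶ X) [IsClosedImmersion i]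
    (hY : IsIntegral Y) (hY1 : topologicalKrullDim Y = 1) {L : X.Modules} (hL : PicF.IsInvertible L) :
    IsCurve i.ker ∧ Pic13.curveDeg k (i ≫ (X ↘ Spec (CommRingCat.of k))) ((Scheme.Modules.pullback i).obj L) =
      degOn k X i.ker (mk L hL) := by
  have hd : topologicalKrullDim X ≤ (2 : ℕ) := by rw [hdim]; rfl
  have e : Y ≅ i.ker.subscheme := asIso i.toImage
  have : Nonempty i.ker.subscheme := ⟨e.hom (genericPoint Y)⟩
  have hCi : IsIntegral i.ker.subscheme := isIntegral_of_isOpenImmersion e.inv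
  have hCd : topologicalKrullDim (i.ker.support : Set X) = 1 := by
    rw [← dim_sub X i.ker, ← hY1]
    exact (IsHomeomorph.topologicalKrullDim_eq _ e.hom.homeomorph.isHomeomorph).symm
  have hC : IsCurve i.ker := ⟨hCi, hCd⟩
  refine ⟨hC, ?_⟩
  have hE : BlowUp.IsEffCartierIdeal i.ker := isEff_of_smooth k hdim hC
  letI : Y.Over (Spec (CommRingCat.of k)) := ⟨i ≫ (X ↘ (Spec (CommRingCat.of k)))⟩
  have hpY : IsProper (Y ↘ Spec (CommRingCat.of k)) :=
    inferInstanceAs (IsProper (i ≫ (X ↘ (Spec (CommRingCat.of k)))))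
  have h1 := K455.Pos.intNum_eq_on k hd i rfl hL
  rw [intNum_eq_dot k X hd (Groth.Agent.Dix.IdealModCartier.isInvertible_idealMod hE) hL,
    K455.Pos.intNum_one_eq] at h1
  have h2 : degOn k X i.ker (mk L hL) = - dot k X (ic i.ker hE) (mk L hL) := degOn_eq_neg_dot k X hE _
  rw [h2]
  change dot k X (ic i.ker hE) (mk L hL) = _ at h1
  rw [h1]
  have hY2 : topologicalKrullDim Y ≤ (2 : ℕ) := by rw [hY1]; exact_mod_cast one_le_two
  have hY1' : topologicalKrullDim Y ≤ (1 : ℕ) := by rw [hY1]; rfl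
  have h3 : Curv2.euler k Y (CohB1.tensorMod ((Scheme.Modules.pullback i).obj L) (Coh.structureModule Y)) =
      Curv2.euler k Y ((Scheme.Modules.pullback i).obj L) :=
    K464.Base.euler_congr k Y (Groth.Agent.Ega2.Tens.runit _)
  rw [Groth.Agent.Fga.IntAdd.eulerCharLE_eq k Y 2 hY2, Groth.Agent.Fga.IntAdd.eulerCharLE_eq k Y 2 hY2, h3]
  change FGA.eulerCharLE k Y ((Scheme.Modules.pullback i).obj L) 1 - FGA.eulerCharLE k Y (Coh.structureModule Y) 1 = _
  rw [Groth.Agent.Fga.IntAdd.eulerCharLE_eq k Y 1 hY1', Groth.Agent.Fga.IntAdd.eulerCharLE_eq k Y 1 hY1']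
  ring

theorem isNumEquivZero_of_degOn (hdim : topologicalKrullDim X = 2) {L : X.Modules} (hL : PicF.IsInvertible L)
    (h : ∀ C : X.IdealSheafData, IsCurve C → degOn k X C (mk L hL) = 0) : Pic13.IsNumEquivZero k X L := by
  intro Y i _ hY hY1
  obtain ⟨hC, h1⟩ := curveDeg_eq (k := k) hdim i hY hY1 hL
  rw [h1]
  exact h _ hC

end

section

variable {k : Type u} [Field k] {X : Scheme.{u}} [X.Over (Spec (CommRingCat.of k))] [PicGrp.Law X]

/-- Ampleness is stable under integral powers of numerically trivial modules. -/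
def NumAmp (k : Type u) [Field k] (X : Scheme.{u}) [X.Over (Spec (CommRingCat.of k))] : Prop :=
  ∀ (L M : X.Modules) (_ : CohB1.IsAmple L) (_ : PicF.IsInvertible M), Pic13.IsNumEquivZero k X M →
    ∀ (L'' : X.Modules), Nonempty (L'' ≅ CohB1.tensorMod M L) → CohB1.IsAmple L''

theorem numEquivZero_iff_num (hdim : topologicalKrullDim X = 2)
    [IsProper (X ↘ Spec (CommRingCat.of k))] [Smooth (X ↘ Spec (CommRingCat.of k))] [IsIntegral X]
    {a : Pic X} : (∀ C : X.IdealSheafData, IsCurve C → degOn k X C a = 0) →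
      ∀ n : ℤ, ∀ C : X.IdealSheafData, IsCurve C → degOn k X C (a ^ n) = 0 := by
  intro h n C hC
  rw [degOn_zpow k hC, h C hC, mul_zero]

variable [IsProper (X ↘ Spec (CommRingCat.of k))] [Smooth (X ↘ Spec (CommRingCat.of k))] [IsIntegral X]
  {B : NumR.N1R k X →ₗ[ℝ] NumR.N1R k X →ₗ[ℝ] ℝ}

/-- Ample times a power of a numerically trivial class. -/
theorem exists_ample (hA : NumAmp k X) (hdim : topologicalKrullDim X = 2) {L : X.Modules} (hL : CohB1.IsAmple L)
    {m : Pic X} (hm : ∀ C : X.IdealSheafData, IsCurve C → degOn k X C m = 0) (n : ℤ) :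
    ∃ (L'' : X.Modules) (h : PicF.IsInvertible L''), CohB1.IsAmple L'' ∧ mk L'' h = mk L hL.1 * m ^ n := by
  obtain ⟨M, hM, h⟩ := exists_mk (m ^ n)
  have h1 : Pic13.IsNumEquivZero k X M := isNumEquivZero_of_degOn hdim hM fun C hC => by
    rw [← h, degOn_zpow k hC, hm C hC, mul_zero]
  have hI := Groth.Agent.Fdesc.LocGen.isInvertible_tensorMod hM hL.1
  refine ⟨CohB1.tensorMod M L, hI, hA L M hL hM h1 _ ⟨Iso.refl _⟩, ?_⟩
  rw [h, mul_comm, mk_mul_mk]

/-- The real class of a curve against an integral divisor is an integer. -/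
theorem exists_int (hdim : topologicalKrullDim X = 2) (hB : NumR.IsIntForm₂ k X B) (C : NumR.Curve X)
    (E : NumR.CDiv X) : ∃ n : ℤ, B (NumR.curveCl k X C.1 C.2.2.2) (NumR.divClR k X (NumR.CDiv.toR X E)) = n := by
  rw [NumR.divClR_toR]
  obtain ⟨M, hM, h⟩ := PicGrp.exists_eq_cls (NumR.divCl X E).toMul
  have h1 : NumR.toN1R k X (NumR.toN1 k X (NumR.divCl X E)) = NumR.clR k X M hM := by
    have : NumR.divCl X E = Additive.ofMul (PicGrp.cls M hM) := by rw [← h]; rfl
    rw [this]; rfl
  rw [h1, NumR.curveCl, map_neg, LinearMap.neg_apply, hB]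
  exact ⟨- FGA.intNum k X 2 ![ClSub.idealMod C.1, M] (Coh.structureModule X), by push_cast; ring⟩

/-- The form of the class of a real divisor against any class. -/
theorem divClR_sum (T : NumR.CDivR X) (v : NumR.N1R k X) :
    B (NumR.divClR k X T) v = T.sum fun C a => a * B (NumR.curveCl k X C.1 C.2.2.2) v := by
  rw [NumR.divClR, Finsupp.linearCombination_apply, Finsupp.sum, Finsupp.sum, map_sum, LinearMap.sum_apply]
  refine Finset.sum_congr rfl fun C _ => ?_
  rw [map_smul, LinearMap.smul_apply, smul_eq_mul]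

omit [PicGrp.Law X] in
theorem toR_eq (Z : NumR.CDiv X) : NumR.CDiv.toR X Z = Z.mapRange (Int.cast : ℤ → ℝ) Int.cast_zero := rfl

/-- The Picard class of a numerically trivial integral divisor. -/
theorem exists_pic (hdim : topologicalKrullDim X = 2) (hB : NumR.IsIntForm₂ k X B) (Z : NumR.CDiv X)
    (hZ : ∀ E : NumR.CDiv X, B (NumR.divClR k X (NumR.CDiv.toR X Z)) (NumR.divClR k X (NumR.CDiv.toR X E)) = 0) :
    ∃ m : Pic X, Additive.ofMul (toSet X m) = NumR.divCl X Z ∧
      ∀ C : X.IdealSheafData, IsCurve C → degOn k X C m = 0 := by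
  obtain ⟨M, hM, h⟩ := PicGrp.exists_eq_cls (NumR.divCl X Z).toMul
  have h1 : NumR.divCl X Z = Additive.ofMul (PicGrp.cls M hM) := by rw [← h]; rfl
  refine ⟨mk M hM, by rw [h1]; rfl, fun C hC => ?_⟩
  have hE : BlowUp.IsEffCartierIdeal C := isEff_of_smooth k hdim hC
  have hI := Groth.Agent.Dix.IdealModCartier.isInvertible_idealMod hE
  have h2 := hZ (Finsupp.single ⟨C, hC.integral, hC.dim, hI⟩ 1)
  rw [NumR.divClR_toR, h1] at h2
  have h3 : NumR.divClR k X (NumR.CDiv.toR X (Finsupp.single ⟨C, hC.integral, hC.dim, hI⟩ 1)) =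
      NumR.curveCl k X C hI := by
    rw [toR_eq, Finsupp.mapRange_single, NumR.divClR, Finsupp.linearCombination_single]
    simp
  rw [h3] at h2
  change B (clP k X (Additive.ofMul (mk M hM))) _ = 0 at h2
  rw [hB_curve hdim hB _ hE hI] at h2
  exact_mod_cast h2

/-- **An ample real divisor plus a multiple of a numerically trivial integral divisor is ample.** -/
theorem add_smul (hA : NumAmp k X) (hdim : topologicalKrullDim X = 2) (hB : NumR.IsIntForm₂ k X B)
    {D : NumR.CDivR X} (hD : NumR.IsAmpleRDiv X D) (Z : NumR.CDiv X)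
    (hZ : ∀ E : NumR.CDiv X, B (NumR.divClR k X (NumR.CDiv.toR X Z)) (NumR.divClR k X (NumR.CDiv.toR X E)) = 0)
    (b : ℝ) : NumR.IsAmpleRDiv X (D + b • NumR.CDiv.toR X Z) := by
  obtain ⟨n, E, t, hn, ht, hE, rfl⟩ := hD
  obtain ⟨m, hm, hm0⟩ := exists_pic hdim hB Z hZ
  -- distribute `b Z` evenly
  have hs : 0 < ∑ i, t i := by
    have : Nonempty (Fin n) := ⟨⟨0, hn⟩⟩
    exact Finset.sum_pos (fun i _ => ht i) Finset.univ_nonempty
  set β : ℝ := b / ∑ i, t i with hβ
  set a : ℤ := ⌈β⌉ - 1 with ha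
  set c : ℤ := ⌊β⌋ + 1 with hc
  have haβ : (a : ℝ) < β := by rw [ha]; push_cast; linarith [Int.ceil_lt_add_one β]
  have hcβ : β < (c : ℝ) := by rw [hc]; push_cast; exact Int.lt_floor_add_one β
  set v : ℝ := (c - β) / (c - a) with hv
  have hca : (0 : ℝ) < c - a := by linarith
  have hv0 : 0 < v := div_pos (by linarith) hca
  have hv1 : 0 < 1 - v := by
    rw [hv, one_sub_div hca.ne']
    exact div_pos (by linarith) hca
  have hvβ : v * a + (1 - v) * c = β := by
    rw [hv]; field_simp; ring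
  refine ⟨n + n, Fin.append (fun i => E i + a • Z) (fun i => E i + c • Z), Fin.append (fun i => v * t i)
    (fun i => (1 - v) * t i), by omega, ?_, ?_, ?_⟩
  · intro i
    refine Fin.addCases (fun i => ?_) (fun i => ?_) i
    · rw [Fin.append_left]; exact mul_pos hv0 (ht i)
    · rw [Fin.append_right]; exact mul_pos hv1 (ht i)
  · have key : ∀ (i : Fin n) (z : ℤ), ∃ (L : X.Modules) (hL : PicF.IsInvertible L), CohB1.IsAmple L ∧
        Additive.ofMul (PicGrp.cls L hL) = NumR.divCl X (E i + z • Z) := by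
      intro i z
      obtain ⟨L, hL, hLA, h⟩ := hE i
      obtain ⟨L'', h1, h2, h3⟩ := exists_ample hA hdim hLA hm0 z
      refine ⟨L'', h1, h2, ?_⟩
      have h4 := congrArg (toSet X) h3
      rw [map_mul, map_zpow, toSet_mk, toSet_mk] at h4
      rw [map_add, map_zsmul, ← h, ← hm, h4]
      rfl
    intro i
    refine Fin.addCases (fun i => ?_) (fun i => ?_) i
    · rw [Fin.append_left]; exact key i a
    · rw [Fin.append_right]; exact key i c
  · rw [Fin.sum_univ_add]
    simp only [Fin.append_left, Fin.append_right, map_add, map_zsmul, smul_add]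
    rw [← Finset.sum_add_distrib]
    have h5 : ∀ i : Fin n, (v * t i) • NumR.CDiv.toR X (E i) + (v * t i) • a • NumR.CDiv.toR X Z +
        (((1 - v) * t i) • NumR.CDiv.toR X (E i) + ((1 - v) * t i) • c • NumR.CDiv.toR X Z) =
        t i • NumR.CDiv.toR X (E i) + (t i * β) • NumR.CDiv.toR X Z := by
      intro i
      rw [← Int.cast_smul_eq_zsmul ℝ a, ← Int.cast_smul_eq_zsmul ℝ c]
      rw [← hvβ]
      module
    simp only [h5]
    rw [Finset.sum_add_distrib, ← Finset.sum_smul, ← Finset.sum_mul]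
    congr 2
    rw [hβ]
    field_simp

/-- **Ampleness of real divisors is a numerical property.** -/
theorem main (hA : NumAmp k X) (hdim : topologicalKrullDim X = 2) (hB : NumR.IsIntForm₂ k X B)
    (D D' : NumR.CDivR X) (hD : NumR.IsAmpleRDiv X D) (h : NumR.IsNumTrivialRDiv k X B (D' - D)) :
    NumR.IsAmpleRDiv X D' := by
  classical
  set R : Set (NumR.Curve X → ℤ) := {r | ∃ E : NumR.CDiv X, ∀ C : NumR.Curve X,
    B (NumR.curveCl k X C.1 C.2.2.2) (NumR.divClR k X (NumR.CDiv.toR X E)) = r C} with hR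
  obtain ⟨κ, s, c, Z, hZ, hT⟩ := K465.RatRel.exists_decomp (D' - D) R (by
    rintro r ⟨E, hE⟩
    have h1 := h E
    rw [divClR_sum] at h1
    simpa only [hE] using h1)
  have hZ' : ∀ l, ∀ E : NumR.CDiv X,
      B (NumR.divClR k X (NumR.CDiv.toR X (Z l))) (NumR.divClR k X (NumR.CDiv.toR X E)) = 0 := by
    intro l E
    choose r hr using fun C => exists_int hdim hB C E
    have h1 := hZ l r ⟨E, hr⟩
    rw [divClR_sum, toR_eq, Finsupp.sum_mapRange_index (fun _ => zero_mul _)]
    simp only [hr]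
    have h2 : (((Z l).sum fun C a => a * r C : ℤ) : ℝ) = 0 := by rw [h1]; simp
    rw [← h2, Finsupp.sum, Finsupp.sum]
    push_cast
    rfl
  have h1 : D' = D + ∑ l ∈ s, c l • NumR.CDiv.toR X (Z l) := by
    have : D' = D + (D' - D) := by abel
    rw [this, hT]
    rfl
  rw [h1]
  clear h1 hT
  induction s using Finset.induction_on with
  | empty => simpa using hD
  | insert l s hl ih =>
    rw [Finset.sum_insert hl, add_comm (c l • _), ← add_assoc]
    exact add_smul hA hdim hB ih (Z l) (hZ' l) (c l)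

end

end K465.NumTriv
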