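import Groth.Agent.Surf.K465.NumTriv
import Groth.Agent.S1658

/-!
# Numerical classes on a smooth projective surface (K465)

* `q k X : Additive (Pic X) →+ NumR.N1 k X`, surjective; `q_eq_zero_iff`: the kernel consists of the classes of
  intersection number zero with everything.
-/

set_option autoImplicit false
universe u
open CategoryTheory CategoryTheory.Limits AlgebraicGeometry Opposite TopologicalSpace

namespace K465.NumPic

open Groth.Agent.Grpsch.PicGrp Groth.Agent K465.ClP K465.LinHodge K465.Eff K465.NumTriv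
open K464.Base K464.Curves K465.AmpReal

section

variable {k : Type u} [Field k] {X : Scheme.{u}} [X.Over (Spec (CommRingCat.of k))]
  [IsProper (X ↘ Spec (CommRingCat.of k))] [Smooth (X ↘ Spec (CommRingCat.of k))] [IsIntegral X]

/-- The degree on curves vanishes for numerically trivial modules. -/
theorem degOn_eq_zero (hdim : topologicalKrullDim X = 2) {L : X.Modules} (hL : PicF.IsInvertible L)
    (h : Pic13.IsNumEquivZero k X L) {C : X.IdealSheafData} (hC : IsCurve C) : degOn k X C (mk L hL) = 0 := by
  have h1 := hC.integral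
  have h2 : topologicalKrullDim C.subscheme = 1 := (dim_sub X C).trans hC.dim
  have h3 := h C.subscheme C.subschemeι h1 h2
  obtain ⟨-, h4⟩ := curveDeg_eq (k := k) hdim C.subschemeι h1 h2 hL
  rw [h3, ker_subschemeι] at h4
  exact h4.symm

/-- A class of degree zero on all curves has intersection number zero with everything. -/
theorem dot_eq_zero (hdim : topologicalKrullDim X = 2) (hproj : ∃ H : X.Modules, CohB1.IsAmple H) {a : Pic X}
    (ha : ∀ C : X.IdealSheafData, IsCurve C → degOn k X C a = 0) (b : Pic X) : dot k X a b = 0 := by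
  have hd : topologicalKrullDim X ≤ (2 : ℕ) := by rw [hdim]; rfl
  have : IsNoetherian X := CurvesB.CurveRR.isNoetherian_of_proper k X
  have key : ∀ (F : X.IdealSheafData) (hF : BlowUp.IsEffCartierIdeal F), dot k X (ic F hF) a = 0 := by
    intro F hF
    have h1 : 0 ≤ degOn k X F a := K464.Comp.degOn_nonneg_of_forall k hdim (fun C hC => (ha C hC).ge) hF
    have h2 : 0 ≤ degOn k X F a⁻¹ := K464.Comp.degOn_nonneg_of_forall k hdim
      (fun C hC => by rw [degOn_inv k hC, ha C hC, neg_zero]) hF
    rw [degOn_eq_neg_dot k X hF] at h1 h2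
    rw [dot_inv_right k X hd] at h2
    omega
  obtain ⟨H, hH⟩ := hproj
  obtain ⟨N, hN, rfl⟩ := exists_mk b
  obtain ⟨D, D', hD, hD', -, -, h1⟩ := S1658.result X H hH N hN ∅ Set.finite_empty
  have h2 : mk N hN * ic D hD = ic D' hD' := by
    rw [ic, ic, mk_mul_mk, mk_eq_iff]
    exact h1
  have h3 : mk N hN = ic D' hD' * (ic D hD)⁻¹ := by rw [← h2, mul_inv_cancel_right]
  rw [h3, dot_comm, dot_mul_left k X hd, dot_inv_left k X hd, key, key]
  simp

variable [PicGrp.Law X]

variable (k X) in
/-- The numerical class. -/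
noncomputable def q : Additive (Pic X) →+ NumR.N1 k X := (NumR.toN1 k X).comp (toSet X).toAdditive

omit [IsProper (X ↘ Spec (CommRingCat.of k))] [Smooth (X ↘ Spec (CommRingCat.of k))] [IsIntegral X] in
theorem q_mk {L : X.Modules} (hL : PicF.IsInvertible L) : q k X (Additive.ofMul (mk L hL)) = NumR.cl k X L hL := rfl

omit [IsProper (X ↘ Spec (CommRingCat.of k))] [Smooth (X ↘ Spec (CommRingCat.of k))] [IsIntegral X] in
theorem q_surjective : Function.Surjective (q k X) := by
  intro x
  obtain ⟨L, hL, rfl⟩ := NumR.exists_eq_cl x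
  exact ⟨_, q_mk hL⟩

theorem q_eq_zero_iff (hdim : topologicalKrullDim X = 2) (hproj : ∃ H : X.Modules, CohB1.IsAmple H) (a : Pic X) :
    q k X (Additive.ofMul a) = 0 ↔ ∀ b, dot k X a b = 0 := by
  have hd : topologicalKrullDim X ≤ (2 : ℕ) := by rw [hdim]; rfl
  constructor
  · intro h
    have h1 : toSet X a ∈ PicGrp.subCl (Y := X) (Pic13.IsNumEquivZero k X) :=
      (QuotientGroup.eq_one_iff _).mp h
    let K : Subgroup (Pic X) :=
      { carrier := {a | ∀ b, dot k X a b = 0}
        mul_mem' := fun {a a'} ha ha' b => by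
          rw [dot_mul_left k X hd, show dot k X a b = 0 from ha b, show dot k X a' b = 0 from ha' b, add_zero]
        one_mem' := fun b => dot_one_left k X b
        inv_mem' := fun {a} ha b => by rw [dot_inv_left k X hd, show dot k X a b = 0 from ha b, neg_zero] }
    have h2 : PicGrp.subCl (Y := X) (Pic13.IsNumEquivZero k X) ≤ K.map (toSet X) := by
      refine (Subgroup.closure_le _).mpr ?_
      rintro _ ⟨L, hL, hnum, rfl⟩
      exact ⟨mk L hL, fun b => dot_eq_zero hdim hproj (fun C hC => degOn_eq_zero hdim hL hnum hC) b, toSet_mk hL⟩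
    obtain ⟨a', ha', h3⟩ := h2 h1
    rw [← toSet_injective X h3]
    exact ha'
  · intro h
    obtain ⟨L, hL, rfl⟩ := exists_mk a
    rw [q_mk]
    refine NumR.cl_eq_zero hL (isNumEquivZero_of_degOn hdim hL fun C hC => ?_)
    have hE : BlowUp.IsEffCartierIdeal C := isEff_of_smooth k hdim hC
    rw [degOn_eq_neg_dot k X hE, dot_comm, h, neg_zero]

end

end K465.NumPic
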