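import Groth.Agent.Variety.K424.NakMain
import Groth.Agent.Surf.K465.NumPic
import Groth.Agent.VarietyB.UnitStalk
import Groth.Agent.VarietyA.StalkCrit
import Groth.Agent.Pic13.H946.Main

/-!
# The Nakai-Moishezon criterion on a smooth proper surface, in terms of `dot` and `degOn` (K465)

* `nak : K465.AmpReal.Nak k X`;
* `numAmp`: ample ⊗ numerically trivial is ample.
-/

set_option autoImplicit false
universe u
open CategoryTheory CategoryTheory.Limits AlgebraicGeometry Opposite TopologicalSpace

namespace K465.NakSurf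

open Groth.Agent.Grpsch.PicGrp Groth.Agent K465.NumTriv K465.NumPic K464.Base K464.Curves K465.AmpReal
open K909.InterML K909.Kleiman

section

variable (k : Type u) [Field k] {X : Scheme.{u}} [X.Over (Spec (CommRingCat.of k))]
  [IsProper (X ↘ Spec (CommRingCat.of k))] [Smooth (X ↘ Spec (CommRingCat.of k))] [IsIntegral X]

theorem inter_curve (hdim : topologicalKrullDim X = 2) {V : Scheme.{u}} (i : V ⟶ X) [IsClosedImmersion i]
    [IsIntegral V] (hV : topologicalKrullDim V = 1) {L : X.Modules} (hL : PicF.IsInvertible L) :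
    inter k X 2 (OZ i) (fun _ : Fin 1 => mk L hL) = degOn k X i.ker (mk L hL) := by
  letI : V.Over (Spec (CommRingCat.of k)) := ⟨i ≫ (X ↘ (Spec (CommRingCat.of k)))⟩
  have hpV : IsProper (V ↘ Spec (CommRingCat.of k)) :=
    inferInstanceAs (IsProper (i ≫ (X ↘ (Spec (CommRingCat.of k)))))
  have hV2 : topologicalKrullDim V ≤ (2 : ℕ) := by rw [hV]; exact_mod_cast one_le_two
  have hV1 : topologicalKrullDim V ≤ (1 : ℕ) := by rw [hV]; rfl
  rw [inter_push k i rfl 2 _ _]
  have h1 := inter_one k V 2 hV2 ((Scheme.Modules.pullback i).obj L)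
    (Groth.Agent.Fdesc.LocGen.isInvertible_pullback i hL) hV1
  refine h1.trans ?_
  obtain ⟨-, h2⟩ := curveDeg_eq (k := k) hdim i inferInstance hV hL
  rw [← h2]
  change _ = FGA.eulerCharLE k V ((Scheme.Modules.pullback i).obj L) 1 - FGA.eulerCharLE k V (Coh.structureModule V) 1
  rw [Groth.Agent.Fga.IntAdd.eulerCharLE_eq k V 2 hV2, Groth.Agent.Fga.IntAdd.eulerCharLE_eq k V 2 hV2,
    Groth.Agent.Fga.IntAdd.eulerCharLE_eq k V 1 hV1, Groth.Agent.Fga.IntAdd.eulerCharLE_eq k V 1 hV1]

omit [Smooth (X ↘ Spec (CommRingCat.of k))] [IsIntegral X] in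
theorem inter_two (hdim : topologicalKrullDim X = 2) {L : X.Modules} (hL : PicF.IsInvertible L) :
    inter k X 2 (Coh.structureModule X) (fun _ : Fin 2 => mk L hL) = dot k X (mk L hL) (mk L hL) := by
  have hd : topologicalKrullDim X ≤ (2 : ℕ) := by rw [hdim]; rfl
  obtain ⟨L', hL', e⟩ := exists_inverse hL
  rw [inter_mk k X 2 (Coh.structureModule X) (fun _ => L) (fun _ => L') (fun _ => hL) (fun _ => hL') (fun _ => e)]
  have h1 : (fun _ => L' : Fin 2 → X.Modules) = ![L', L'] := by funext i; fin_cases i <;> rfl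
  rw [h1, intNum_eq_dot k X hd hL' hL']
  have h2 : mk L' hL' = (mk L hL)⁻¹ := by
    apply eq_inv_of_mul_eq_one_right
    rw [mk_mul_mk, mk_eq_one_iff]
    exact e
  rw [h2, dot_inv_inv k X hd]

omit [IsProper (X ↘ Spec (CommRingCat.of k))] [Smooth (X ↘ Spec (CommRingCat.of k))] [IsIntegral X]
  [X.Over (Spec (CommRingCat.of k))] in
theorem isIso_unitToPush {Y : Scheme.{u}} (f : Y ⟶ X) [IsIso f] : IsIso (ClSub.unitToPush f) := by
  refine Groth.Agent.VarietyA.StalkCrit.isIso_of_stalks _ fun x => ?_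
  refine Groth.Agent.VarietyB.UnitStalk.stalkLin_bijective_of_app (ClSub.unitToPush f) ⊤ (fun V _ => ?_) trivial
  exact ConcreteCategory.bijective_of_isIso (f.app V)

/-- **The Nakai-Moishezon criterion on a smooth proper surface.** -/
theorem nak (hdim : topologicalKrullDim X = 2) : Nak k X := by
  intro L hL h1 h2
  have hd : topologicalKrullDim X ≤ (2 : ℕ) := by rw [hdim]; rfl
  refine K424.NakMain.nak k X 2 hd L hL ?_
  intro V i _ _ s hs hV
  have hs2 : s ≤ 2 := by
    have := (dim_le_of_closed i).trans hd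
    rw [hV] at this
    exact_mod_cast this
  obtain rfl | rfl : s = 1 ∨ s = 2 := by omega
  · have hV' : topologicalKrullDim V = 1 := by rw [hV]; rfl
    rw [inter_curve k hdim i hV' hL]
    exact h2 _ (curveDeg_eq (k := k) hdim i inferInstance hV' hL).1
  · have hr : Set.range i = Set.univ := by
      by_contra hr
      have h3 := Groth.Agent.Pic13.H946.Main.dim_lt_of_range_ne (n := 2)
        (lt_of_le_of_lt hd (by exact_mod_cast Nat.lt_succ_self 2)) i hr
      rw [hV] at h3
      exact absurd h3 (lt_irrefl _)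
    have : Surjective i := ⟨Set.range_eq_univ.1 hr⟩
    have hiso : IsIso i := isIso_of_isClosedImmersion_of_surjective i
    have := isIso_unitToPush i
    have e : OZ i ≅ Coh.structureModule X := (asIso (ClSub.unitToPush i)).symm
    rw [inter_iso k X 2 (OZ i) e, inter_two k hdim hL]
    exact h1

/-- Ample ⊗ numerically trivial is ample. -/
theorem numAmp (hdim : topologicalKrullDim X = 2) (hproj : ∃ H : X.Modules, CohB1.IsAmple H) : NumAmp k X := by
  intro L M hL hM hnum L'' ⟨e⟩
  have hd : topologicalKrullDim X ≤ (2 : ℕ) := by rw [hdim]; rfl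
  have hI : PicF.IsInvertible (CohB1.tensorMod M L) := Groth.Agent.Fdesc.LocGen.isInvertible_tensorMod hM hL.1
  have h0 : ∀ C : X.IdealSheafData, IsCurve C → degOn k X C (mk M hM) = 0 := fun C hC =>
    degOn_eq_zero hdim hM hnum hC
  have h1 : ∀ b, dot k X (mk M hM) b = 0 := dot_eq_zero hdim hproj h0
  have h2 : CohB1.IsAmple (CohB1.tensorMod M L) := by
    refine nak k hdim _ hI ?_ ?_
    · rw [← mk_mul_mk hM hL.1, dot_mul_left k X hd, h1, dot_mul_right k X hd, dot_comm, h1, zero_add, zero_add]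
      have := K465.Hodge2.ip_ample_pos k hd hdim hL hL
      rw [K465.Ip.ip_mk, intNum_eq_dot k X hd hL.1 hL.1] at this
      exact this
    · intro C hC
      rw [← mk_mul_mk hM hL.1, degOn_mul k hC, h0 C hC, zero_add]
      exact degOn_pos_of_ample k hC hL.1 hL
  exact Groth.Agent.S2329.isAmple_of_iso e.symm h2

end

end K465.NakSurf
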