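import Groth.Prelude.Def_NumR
import Groth.Agent.Grpsch.PicGrp

/-!
# The class map `Pic X → N¹(X)_ℝ`

`clP k X : Additive (Pic X) →+ NumR.N1R k X` with `clP (ofMul (mk L hL)) = NumR.clR k X L hL`, and the usual
rules for `NumR.clR` (tensor products, powers, inverses). `S k X` is the subgroup of integral classes; it spans.
-/

set_option autoImplicit false
universe u
open CategoryTheory CategoryTheory.Limits AlgebraicGeometry

namespace K465.ClP

open Groth.Agent.Grpsch.PicGrp

/-- The comparison of the two models of the Picard group. -/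
noncomputable def toSet (X : Scheme.{u}) [PicGrp.Law X] : Pic X →* PicLoc.PicSet X where
  toFun := Quotient.lift (s := isoSetoid X) (fun L => PicGrp.cls L.1 L.2)
    (fun _ _ h => (PicGrp.cls_eq_cls_iff _ _).mpr h)
  map_one' := PicGrp.cls_structureModule_eq_one
  map_mul' a b := by
    induction a using ind with | _ L hL => ?_
    induction b using ind with | _ M hM => ?_
    apply Subtype.ext
    exact (PicGrp.cls_mul_cls_val hL hM).symm

theorem toSet_mk {X : Scheme.{u}} [PicGrp.Law X] {L : X.Modules} (hL : PicF.IsInvertible L) :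
    toSet X (mk L hL) = PicGrp.cls L hL := rfl

theorem toSet_injective (X : Scheme.{u}) [PicGrp.Law X] : Function.Injective (toSet X) := by
  intro a b h
  induction a using ind with | _ L hL => ?_
  induction b using ind with | _ M hM => ?_
  rw [toSet_mk, toSet_mk, PicGrp.cls_eq_cls_iff] at h
  exact (mk_eq_iff hL hM).mpr h

variable (k : Type u) [Field k] (X : Scheme.{u}) [X.Over (Spec (CommRingCat.of k))] [PicGrp.Law X]

/-- The class of an element of the Picard group in `N¹(X)_ℝ`. -/
noncomputable def clP : Additive (Pic X) →+ NumR.N1R k X :=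
  (NumR.toN1R k X).comp ((NumR.toN1 k X).comp (toSet X).toAdditive)

variable {k X}

theorem clP_mk {L : X.Modules} (hL : PicF.IsInvertible L) :
    clP k X (Additive.ofMul (mk L hL)) = NumR.clR k X L hL := rfl

theorem clR_congr {L M : X.Modules} (hL : PicF.IsInvertible L) (hM : PicF.IsInvertible M) (e : Nonempty (L ≅ M)) :
    NumR.clR k X L hL = NumR.clR k X M hM := by
  rw [← clP_mk, ← clP_mk, (mk_eq_iff hL hM).mpr e]

theorem clR_tensor {L M : X.Modules} (hL : PicF.IsInvertible L) (hM : PicF.IsInvertible M)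
    (h : PicF.IsInvertible (CohB1.tensorMod L M)) :
    NumR.clR k X (CohB1.tensorMod L M) h = NumR.clR k X L hL + NumR.clR k X M hM := by
  rw [← clP_mk, ← clP_mk, ← clP_mk, ← map_add, ← ofMul_mul, mk_mul_mk]

theorem clR_tensorPow {L : X.Modules} (hL : PicF.IsInvertible L) (n : ℕ)
    (h : PicF.IsInvertible (CohB1.tensorPow L n)) :
    NumR.clR k X (CohB1.tensorPow L n) h = n • NumR.clR k X L hL := by
  rw [← clP_mk, ← clP_mk, ← map_nsmul, ← ofMul_pow, ← mk_tensorPow]

theorem clR_structureModule (h : PicF.IsInvertible (Coh.structureModule X)) :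
    NumR.clR k X (Coh.structureModule X) h = 0 := by
  rw [← clP_mk]
  exact map_zero _

theorem clR_inverse {L M : X.Modules} (hL : PicF.IsInvertible L) (hM : PicF.IsInvertible M)
    (e : Nonempty (CohB1.tensorMod L M ≅ Coh.structureModule X)) :
    NumR.clR k X M hM = - NumR.clR k X L hL := by
  rw [← clP_mk, ← clP_mk]
  have h1 : mk L hL * mk M hM = 1 := by
    rw [mk_mul_mk]; exact (mk_eq_one_iff _).mpr e
  rw [← map_neg, ← ofMul_inv, inv_eq_of_mul_eq_one_right h1]

variable (k X)

/-- The subgroup of integral classes in `N¹(X)_ℝ`. -/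
noncomputable def S : AddSubgroup (NumR.N1R k X) := (clP k X).range

variable {k X}

theorem mem_S_iff {x : NumR.N1R k X} :
    x ∈ S k X ↔ ∃ (L : X.Modules) (hL : PicF.IsInvertible L), x = NumR.clR k X L hL := by
  constructor
  · rintro ⟨a, rfl⟩
    obtain ⟨L, hL, h⟩ := exists_mk a.toMul
    exact ⟨L, hL, congrArg (clP k X) (congrArg Additive.ofMul h)⟩
  · rintro ⟨L, hL, rfl⟩
    exact ⟨Additive.ofMul (mk L hL), rfl⟩

theorem clR_mem_S {L : X.Modules} (hL : PicF.IsInvertible L) : NumR.clR k X L hL ∈ S k X :=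
  mem_S_iff.mpr ⟨L, hL, rfl⟩

theorem span_S : Submodule.span ℝ (S k X : Set (NumR.N1R k X)) = ⊤ := by
  rw [← NumR.span_clR (k := k) (X := X)]
  congr 1
  ext x
  exact mem_S_iff

end K465.ClP
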