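import Groth.Agent.Dix.ExcFactor
import Groth.Agent.CurvesB.DimPts
import Groth.Agent.S1535

/-!
# Factorization of a proper birational morphism through the blow-up of a fundamental point

* `isSurf`: a smooth integral surface of finite type over a field satisfies the standing assumptions of `Dix.ExcPts`.
* `isBir`: a proper morphism of integral schemes that is an isomorphism over a nonempty open subset is birational.
* `exists_big`: a closed point over no neighbourhood of which `f` is an isomorphism has two points above it.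
-/

set_option autoImplicit false
universe u
open CategoryTheory CategoryTheory.Limits AlgebraicGeometry TopologicalSpace

namespace K465.BlowFactor

open Groth.Agent.Dix Groth.Agent.Dix.ExcPts

theorem isNoetherian (k : Type u) [Field k] (X : Scheme.{u}) [X.Over (Spec (CommRingCat.of k))]
    [LocallyOfFiniteType (X ↘ (Spec (CommRingCat.of k)))] [QuasiCompact (X ↘ (Spec (CommRingCat.of k)))] :
    IsNoetherian X := by
  have h2 : IsLocallyNoetherian X := LocallyOfFiniteType.isLocallyNoetherian (X ↘ (Spec (CommRingCat.of k)))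
  have h3 : CompactSpace X := QuasiCompact.compactSpace_of_compactSpace (X ↘ (Spec (CommRingCat.of k)))
  exact { }

theorem isSurf (k : Type u) [Field k] (X : Scheme.{u}) [X.Over (Spec (CommRingCat.of k))] [IsIntegral X]
    [LocallyOfFiniteType (X ↘ (Spec (CommRingCat.of k)))] [QuasiCompact (X ↘ (Spec (CommRingCat.of k)))]
    [Smooth (X ↘ (Spec (CommRingCat.of k)))] (hdim : topologicalKrullDim X = 2) : IsSurf X := by
  refine ⟨inferInstance, isNoetherian k X, fun x => Groth.Agent.S1535.result k X x, fun x => ?_⟩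
  have h1 : (Order.coheight x : WithBot ℕ∞) ≤ Order.krullDim X := Order.coheight_le_krullDim x
  rw [← Groth.Agent.CurvesB.DimPts.krullDim_eq, hdim] at h1
  exact (WithBot.coe_le_coe (a := Order.coheight x) (b := 2)).mp h1

theorem isBir {X Y : Scheme.{u}} [IsIntegral X] [IsIntegral Y] (f : X ⟶ Y) [IsProper f]
    (hbir : ∃ U : Y.Opens, (U : Set Y).Nonempty ∧ IsIso (f ∣_ U)) : IsBir f := by
  obtain ⟨U, hU, hiso⟩ := hbir
  have hgU : genericPoint Y ∈ U := by
    obtain ⟨u, hu⟩ := hU
    exact (genericPoint_specializes u).mem_open U.2 hu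
  have hsurj : ∃ x, f x = genericPoint Y := by
    have h1 : Function.Surjective (f ∣_ U) := (f ∣_ U).surjective
    obtain ⟨p, hp⟩ := h1 ⟨genericPoint Y, hgU⟩
    refine ⟨p.1, ?_⟩
    have := congrArg Subtype.val hp
    rwa [morphismRestrict_base_coe] at this
  obtain ⟨x, hx⟩ := hsurj
  have hgen : f (genericPoint X) = genericPoint Y := by
    have h1 : f (genericPoint X) ⤳ f x := (genericPoint_specializes x).map f.continuous
    rw [hx] at h1
    exact h1.antisymm (genericPoint_specializes _) |>.eq
  exact ⟨inferInstance, hgen, BirIso.isIso_stalkMap f U hiso _ (by rw [hgen]; exact hgU)⟩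

/-- If no two points lie over `y`, then `f` is an isomorphism over a neighbourhood of `y`. -/
theorem exists_big {X Y : Scheme.{u}} [IsIntegral X] [IsIntegral Y] (hX : IsSurf X) (hY : IsSurf Y) (f : X ⟶ Y)
    (hf : IsBir f) (y : Y) (hP : ∀ V : Y.Opens, y ∈ V → ¬ IsIso (f ∣_ V)) :
    ∃ x x', x ≠ x' ∧ f x = y ∧ f x' = y := by
  have := hf.proper
  by_contra hcon
  push Not at hcon
  have hTfin : (f '' excPts f).Finite := (excPts_finite hX hY f hf).image _
  have hTcl : IsClosed (f '' excPts f) := by
    have : f '' excPts f = ⋃ z ∈ f '' excPts f, {z} := (Set.biUnion_of_singleton _).symm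
    rw [this]
    refine hTfin.isClosed_biUnion fun z hz => ?_
    obtain ⟨e, he, rfl⟩ := hz
    exact isClosed_of_big hY f hf _ (big_of_mem hX hY f hf e he.2)
  have hyT : y ∉ f '' excPts f := by
    rintro ⟨e, he, hey⟩
    obtain ⟨a, b, hab, ha, hb⟩ := big_of_mem hX hY f hf e he.2
    exact hcon a b hab (ha.trans hey) (hb.trans hey)
  let V : Y.Opens := ⟨(f '' excPts f)ᶜ, hTcl.isOpen_compl⟩
  refine hP V hyT ?_
  have hsmall : ∀ a b, f a ∈ V → f a = f b → a = b := by
    intro a b ha hab
    by_contra hne
    obtain ⟨ξ, hξ, hξa⟩ := exists_excPt_of_big hX hY f hf (f a) ⟨a, b, hne, rfl, hab.symm⟩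
    exact ha ⟨ξ, hξ, hξa⟩
  have hstalk : ∀ a, f a ∈ V → IsIso (f.stalkMap a) := by
    intro a ha
    by_contra hne
    obtain ⟨p, q, hpq, hp, hq⟩ := big_of_mem hX hY f hf a hne
    exact hpq (hsmall p q (by rw [hp]; exact ha) (hp.trans hq.symm))
  rw [isIso_iff_isIso_stalkMap, TopCat.isIso_iff_isHomeomorph]
  constructor
  · rw [isHomeomorph_iff_continuous_isClosedMap_bijective]
    refine ⟨(f ∣_ V).continuous, (f ∣_ V).isClosedMap, ?_, ?_⟩
    · intro p q hab
      have h1 : ((f ∣_ V) p).1 = ((f ∣_ V) q).1 := congrArg Subtype.val hab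
      rw [morphismRestrict_base_coe, morphismRestrict_base_coe] at h1
      exact Subtype.ext (hsmall _ _ p.2 h1)
    · rintro ⟨z, hz⟩
      obtain ⟨x, rfl⟩ := surjective f hf z
      let p : (f ⁻¹ᵁ V).toScheme := ⟨x, hz⟩
      refine ⟨p, Subtype.ext ?_⟩
      exact morphismRestrict_base_coe f V p
  · rintro ⟨a, ha⟩
    exact ((MorphismProperty.isomorphisms CommRingCat).arrow_mk_iso_iff
      (morphismRestrictStalkMap f V ⟨a, ha⟩)).mpr (hstalk a ha)

end K465.BlowFactor
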