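import Mathlib.LinearAlgebra.BilinearMap
import Mathlib.LinearAlgebra.Finsupp.LinearCombination
import Mathlib.Data.Real.Basic
import Mathlib.Algebra.BigOperators.Ring.Finset
import Mathlib.Tactic

/-!
# Real Hodge index from the integral one, and light-cone algebra

Abstract setting: a real vector space `V`, a symmetric bilinear form `B`, a subgroup `S` of `V` spanning `V` on which `B`
takes integer values, `h ∈ S` with `B h h > 0`, and the integral Hodge index property: `x ∈ S`, `B x h = 0`,
`0 ≤ B x x` imply `x = 0`.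

* `neg_of_orth`: for every real vector `v ≠ 0` with `B v h = 0` one has `B v v < 0`.
* `pos_of_pos`, `eq_zero_of_orth`, `convex`: algebra of the light cone.
-/

set_option autoImplicit false

namespace K465.LinHodge

variable {V : Type*} [AddCommGroup V] [Module ℝ V] (B : V →ₗ[ℝ] V →ₗ[ℝ] ℝ)

section integral

variable (S : AddSubgroup V) (h : V)

/-- The hypotheses of the integral Hodge index theorem. -/
structure IntHodge : Prop where
  symm : ∀ x y, B x y = B y x
  int : ∀ x ∈ S, ∀ y ∈ S, ∃ n : ℤ, B x y = n
  mem : h ∈ S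
  pos : 0 < B h h
  hodge : ∀ x ∈ S, B x h = 0 → 0 ≤ B x x → x = 0

variable {B S h}

/-- A finite orthogonal system in `S` containing `h`. -/
structure Orth (B : V →ₗ[ℝ] V →ₗ[ℝ] ℝ) (S : AddSubgroup V) (h : V) (O : Finset V) : Prop where
  mem : h ∈ O
  sub : ∀ e ∈ O, e ∈ S
  orth : ∀ e ∈ O, ∀ f ∈ O, e ≠ f → B e f = 0
  neg : ∀ e ∈ O, e ≠ h → B e e < 0

theorem Orth.ne_zero (H : IntHodge B S h) {O : Finset V} (hO : Orth B S h O) : ∀ e ∈ O, B e e ≠ 0 := by
  intro e he
  by_cases h1 : e = h
  · subst h1; exact H.pos.ne'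
  · exact (hO.neg e he h1).ne

/-- Extending an orthogonal system so that a new integral vector lies in the span. -/
theorem extend (H : IntHodge B S h) {O : Finset V} (hO : Orth B S h O) {x : V} (hx : x ∈ S) :
    ∃ O' : Finset V, O ⊆ O' ∧ Orth B S h O' ∧ x ∈ Submodule.span ℝ (O' : Set V) := by
  classical
  choose q hq using fun (e : V) (f : {f : V // f ∈ S ∧ e ∈ S}) => H.int e f.2.2 f.1 f.2.1
  -- integers
  let N : V → ℤ := fun e => if he : e ∈ S then q e ⟨e, he, he⟩ else 1
  let c : V → ℤ := fun e => if he : e ∈ S then q x ⟨e, he, hx⟩ else 0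
  have hN : ∀ e ∈ O, (N e : ℝ) = B e e := by
    intro e he
    have := hO.sub e he
    simp only [N, this, dif_pos]
    exact (hq e ⟨e, this, this⟩).symm
  have hc : ∀ e ∈ O, (c e : ℝ) = B x e := by
    intro e he
    have := hO.sub e he
    simp only [c, this, dif_pos]
    exact (hq x ⟨e, this, hx⟩).symm
  let P : ℤ := ∏ e ∈ O, N e
  have hP : (P : ℝ) ≠ 0 := by
    rw [Int.cast_prod]
    rw [Finset.prod_ne_zero_iff]
    intro e he
    rw [hN e he]
    exact hO.ne_zero H e he
  let y : V := P • x - ∑ e ∈ O, ((∏ f ∈ O.erase e, N f) * c e) • e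
  have hyS : y ∈ S := by
    refine S.sub_mem (S.zsmul_mem hx _) (S.sum_mem fun e he => S.zsmul_mem (hO.sub e he) _)
  have hPe : ∀ e ∈ O, (P : ℝ) = (∏ f ∈ O.erase e, (N f : ℝ)) * B e e := by
    intro e he
    have : P = (∏ f ∈ O.erase e, N f) * N e := (Finset.prod_erase_mul _ _ he).symm
    rw [this]
    push_cast
    rw [hN e he]
  have hyo : ∀ e ∈ O, B y e = 0 := by
    intro e he
    simp only [y, map_sub, LinearMap.sub_apply, map_sum, LinearMap.sum_apply, map_zsmul,
      LinearMap.smul_apply, zsmul_eq_mul]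
    rw [Finset.sum_eq_single e]
    · have := hPe e he
      push_cast
      rw [this, hc e he]
      ring
    · intro f hf hfe
      rw [hO.orth f hf e he hfe, mul_zero]
    · intro h'
      exact absurd he h'
  have hxspan : ∀ {O' : Finset V}, O ⊆ O' → y ∈ Submodule.span ℝ (O' : Set V) →
      x ∈ Submodule.span ℝ (O' : Set V) := by
    intro O' hOO' hy
    have hsum : (P : ℝ) • x ∈ Submodule.span ℝ (O' : Set V) := by
      have e1 : (P : ℝ) • x = y + ∑ e ∈ O, ((∏ f ∈ O.erase e, N f) * c e) • e := by
        simp only [y, Int.cast_smul_eq_zsmul]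
        abel
      rw [e1]
      refine Submodule.add_mem _ hy (Submodule.sum_mem _ fun e he => ?_)
      rw [← Int.cast_smul_eq_zsmul ℝ]
      exact Submodule.smul_mem _ _ (Submodule.subset_span (hOO' he))
    have := Submodule.smul_mem _ (P : ℝ)⁻¹ hsum
    rwa [smul_smul, inv_mul_cancel₀ hP, one_smul] at this
  by_cases hyy : 0 ≤ B y y
  · refine ⟨O, subset_rfl, hO, hxspan subset_rfl ?_⟩
    rw [H.hodge y hyS (hyo h hO.mem) hyy]
    exact Submodule.zero_mem _
  · push Not at hyy
    have hyO : y ∉ O := fun h' => by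
      have := hyo y h'
      exact absurd this hyy.ne
    refine ⟨insert y O, Finset.subset_insert _ _, ⟨Finset.mem_insert_of_mem hO.mem, ?_, ?_, ?_⟩,
      hxspan (Finset.subset_insert _ _) (Submodule.subset_span (by simp))⟩
    · intro e he
      rcases Finset.mem_insert.mp he with rfl | he
      · exact hyS
      · exact hO.sub e he
    · intro e he f hf hef
      rcases Finset.mem_insert.mp he with rfl | he <;> rcases Finset.mem_insert.mp hf with rfl | hf
      · exact absurd rfl hef
      · exact hyo f hf
      · rw [H.symm]; exact hyo e he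
      · exact hO.orth e he f hf hef
    · intro e he heh
      rcases Finset.mem_insert.mp he with rfl | he
      · exact hyy
      · exact hO.neg e he heh

theorem exists_orth (H : IntHodge B S h) (T : Finset V) (hT : ∀ x ∈ T, x ∈ S) :
    ∃ O : Finset V, Orth B S h O ∧ ∀ x ∈ T, x ∈ Submodule.span ℝ (O : Set V) := by
  classical
  induction T using Finset.induction_on with
  | empty =>
    refine ⟨{h}, ⟨Finset.mem_singleton_self h, ?_, ?_, ?_⟩, by simp⟩
    · intro e he
      rw [Finset.mem_singleton.mp he]; exact H.mem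
    · intro e he f hf hef
      rw [Finset.mem_singleton.mp he, Finset.mem_singleton.mp hf] at hef
      exact absurd rfl hef
    · intro e he heh
      exact absurd (Finset.mem_singleton.mp he) heh
  | insert x T hx ih =>
    obtain ⟨O, hO, hOT⟩ := ih fun y hy => hT y (Finset.mem_insert_of_mem hy)
    obtain ⟨O', hOO', hO', hx'⟩ := extend H hO (hT x (Finset.mem_insert_self _ _))
    refine ⟨O', hO', fun y hy => ?_⟩
    rcases Finset.mem_insert.mp hy with rfl | hy
    · exact hx'
    · exact Submodule.span_mono (by exact_mod_cast hOO') (hOT y hy)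

/-- **Real Hodge index** from the integral one. -/
theorem neg_of_orth (H : IntHodge B S h) (hS : Submodule.span ℝ (S : Set V) = ⊤) (v : V) (hv : B v h = 0)
    (hv0 : v ≠ 0) : B v v < 0 := by
  classical
  have hvmem : v ∈ Submodule.span ℝ (S : Set V) := hS ▸ Submodule.mem_top
  obtain ⟨T, hTS, hvT⟩ := Submodule.mem_span_finite_of_mem_span hvmem
  obtain ⟨O, hO, hTO⟩ := exists_orth H T (fun x hx => hTS hx)
  have hvO : v ∈ Submodule.span ℝ (O : Set V) := (Submodule.span_le.mpr fun x hx => hTO x hx) hvT
  rw [Submodule.mem_span_finset] at hvO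
  obtain ⟨a, -, ha⟩ := hvO
  have hpair : ∀ f ∈ O, B v f = a f * B f f := by
    intro f hf
    rw [← ha]
    simp only [map_sum, LinearMap.sum_apply, map_smul, LinearMap.smul_apply, smul_eq_mul]
    rw [Finset.sum_eq_single f]
    · intro e he hef
      rw [hO.orth e he f hf hef, mul_zero]
    · intro h'
      exact absurd hf h'
  have hah : a h = 0 := by
    have := hpair h hO.mem
    rw [hv] at this
    rcases mul_eq_zero.mp this.symm with h1 | h1
    · exact h1
    · exact absurd h1 H.pos.ne'
  have hvv : B v v = ∑ f ∈ O, a f ^ 2 * B f f := by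
    have e1 : B v v = B v (∑ f ∈ O, a f • f) := by rw [ha]
    rw [e1, map_sum]
    refine Finset.sum_congr rfl fun f hf => ?_
    rw [map_smul, smul_eq_mul, hpair f hf]
    ring
  have hle : ∀ f ∈ O, a f ^ 2 * B f f ≤ 0 := by
    intro f hf
    by_cases hfh : f = h
    · subst hfh; rw [hah]; simp
    · exact mul_nonpos_of_nonneg_of_nonpos (sq_nonneg _) (hO.neg f hf hfh).le
  rw [hvv]
  refine lt_of_le_of_ne (Finset.sum_nonpos hle) fun h0 => hv0 ?_
  rw [Finset.sum_eq_zero_iff_of_nonpos hle] at h0
  rw [← ha]
  refine Finset.sum_eq_zero fun f hf => ?_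
  have := h0 f hf
  rcases mul_eq_zero.mp this with h1 | h1
  · rw [pow_eq_zero_iff (two_ne_zero)] at h1
    rw [h1, zero_smul]
  · exact absurd h1 (hO.ne_zero H f hf)

end integral

/-! ### Light cone algebra -/

section cone

variable (h : V)

/-- Real Hodge index data. -/
structure Lor : Prop where
  symm : ∀ x y, B x y = B y x
  pos : 0 < B h h
  neg : ∀ x, B x h = 0 → x ≠ 0 → B x x < 0

variable {B h}

theorem Lor.neg' (H : Lor B h) {x : V} (hx : B x h = 0) : B x x ≤ 0 := by
  by_cases h0 : x = 0
  · subst h0; simp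
  · exact (H.neg x hx h0).le

/-- Two vectors in the light cone on the side of `h` pair positively, if one of them is in the interior. -/
theorem Lor.pos_of_pos (H : Lor B h) {x y : V} (hx : 0 < B x x) (hxh : 0 < B x h) (hy : 0 ≤ B y y)
    (hyh : 0 < B y h) : 0 < B x y := by
  have hz : B (B x h • y - B y h • x) h = 0 := by
    simp only [map_sub, map_smul, LinearMap.sub_apply, LinearMap.smul_apply, smul_eq_mul]
    ring
  have h1 := H.neg' hz
  simp only [map_sub, map_smul, LinearMap.sub_apply, LinearMap.smul_apply, smul_eq_mul] at h1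
  rw [H.symm y x] at h1
  have h2 : 0 < (B y h) ^ 2 * B x x := by positivity
  have h3 : 0 ≤ (B x h) ^ 2 * B y y := by positivity
  by_contra hn
  push Not at hn
  have h4 : B x h * B y h * B x y ≤ 0 := mul_nonpos_of_nonneg_of_nonpos (by positivity) hn
  nlinarith

theorem Lor.eq_zero_of_orth (H : Lor B h) {x y : V} (hx : 0 < B x x) (hxh : 0 < B x h) (hy : 0 ≤ B y y)
    (hxy : B x y = 0) : y = 0 := by
  rcases lt_trichotomy (B y h) 0 with h1 | h1 | h1
  · have := H.pos_of_pos hx hxh (y := -y) (by simpa using hy) (by simpa using h1)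
    simp [hxy] at this
  · by_contra h0
    exact absurd (H.neg y h1 h0) (not_lt.mpr hy)
  · have := H.pos_of_pos hx hxh hy h1
    rw [hxy] at this
    exact absurd this (lt_irrefl _)

theorem Lor.add_mem (H : Lor B h) {x y : V} (hx : 0 < B x x) (hxh : 0 < B x h) (hy : 0 < B y y)
    (hyh : 0 < B y h) : 0 < B (x + y) (x + y) ∧ 0 < B (x + y) h := by
  have h1 := H.pos_of_pos hx hxh hy.le hyh
  simp only [map_add, LinearMap.add_apply]
  rw [H.symm y x]
  constructor <;> linarith

theorem smul_mem {x : V} (hx : 0 < B x x) (hxh : 0 < B x h) {c : ℝ} (hc : 0 < c) :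
    0 < B (c • x) (c • x) ∧ 0 < B (c • x) h := by
  simp only [map_smul, LinearMap.smul_apply, smul_eq_mul]
  constructor <;> positivity

/-- The interior of the light cone is the set of vectors pairing positively ... : a vector pairing nonnegatively with the
open positive cone has nonnegative square. -/
theorem Lor.nonneg_of_dual (H : Lor B h) {x : V} (hx : ∀ y, 0 < B y y → 0 < B y h → 0 ≤ B x y) :
    0 ≤ B x x := by
  by_contra hn
  push Not at hn
  have hxh : 0 ≤ B x h := hx h H.pos H.pos
  -- choose `t` with `0 < B (x + t h) (x + t h)` and `B x (x + t h) < 0`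
  set a := B h h with ha
  set b := B x h with hb
  set c := B x x with hc
  have hapos : 0 < a := H.pos
  -- P t = c + 2 b t + a t ^ 2
  have key : ∃ t : ℝ, 0 < t ∧ 0 < c + 2 * b * t + a * t ^ 2 ∧ c + b * t < 0 := by
    rcases hxh.eq_or_lt with h0 | hbpos
    · obtain ⟨t, ht0, ht⟩ : ∃ t : ℝ, 0 < t ∧ -c < a * t ^ 2 := by
        refine ⟨1 + (-c) / a, by have : 0 < -c / a := div_pos (by linarith) hapos; linarith, ?_⟩
        have h5 : 0 < -c / a := div_pos (by linarith) hapos
        have h6 : a * (-c / a) = -c := by field_simp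
        nlinarith
      refine ⟨t, ht0, ?_, ?_⟩ <;> rw [← h0] <;> nlinarith
    · -- t slightly smaller than -c / b
      have ht0 : 0 < -c / b := div_pos (by linarith) hbpos
      have hbt : b * (-c / b) = -c := by field_simp
      -- P (-c/b) = -c + a (c/b)^2 > 0
      set t0 := -c / b with ht0'
      -- choose t = t0 * (1 - s), s small
      refine ⟨t0 * (1 - 1/4), by positivity, ?_, ?_⟩
      · have : 2 * b * (t0 * (1 - 1/4)) = - (3/2) * c := by
          have : 2 * b * (t0 * (1 - 1/4)) = (3/2) * (b * t0) := by ring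
          rw [this, hbt]; ring
        rw [this]
        have : 0 < a * (t0 * (1 - 1/4)) ^ 2 := by positivity
        linarith
      · have : b * (t0 * (1 - 1/4)) = (3/4) * (b * t0) := by ring
        rw [this, hbt]; linarith
  obtain ⟨t, ht, h1, h2⟩ := key
  have h3 := hx (x + t • h) (by
    simp only [map_add, LinearMap.add_apply, map_smul, LinearMap.smul_apply, smul_eq_mul]
    rw [H.symm h x, ← ha, ← hb, ← hc]
    nlinarith) (by
    simp only [map_add, LinearMap.add_apply, map_smul, LinearMap.smul_apply, smul_eq_mul]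
    rw [← ha, ← hb]
    positivity)
  simp only [map_add, map_smul, smul_eq_mul] at h3
  rw [← hb, ← hc] at h3
  linarith

end cone

end K465.LinHodge
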