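import Groth.Agent.Surf.K465.ClP
import Groth.Agent.Surf.K465.LinHodge
import Groth.Agent.Fga.PicMon
import Groth.Agent.S4290
import Groth.Agent.Surf.K465.Hodge2

/-!
# The Hodge index theorem on `N¹(X)_ℝ`

`intHodge`: the intersection form on `N¹(X)_ℝ` of a projective integral surface over an algebraically closed field
satisfies the hypotheses of the integral Hodge index theorem of `LinHodge`; `lor`: the real Hodge index theorem.
-/

set_option autoImplicit false
universe u
open CategoryTheory CategoryTheory.Limits AlgebraicGeometry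

namespace K465.NumHodge

open Groth.Agent.Grpsch.PicGrp Groth.Agent.Fga.PicMon K465.ClP K465.LinHodge

section

variable {k : Type u} [Field k] {X : Scheme.{u}} [X.Over (Spec (CommRingCat.of k))] [PicGrp.Law X]

/-- The intersection form is symmetric. -/
theorem symm {B : NumR.N1R k X →ₗ[ℝ] NumR.N1R k X →ₗ[ℝ] ℝ} (hB : NumR.IsIntForm₂ k X B) (x y : NumR.N1R k X) :
    B x y = B y x := by
  have h : B = B.flip := by
    refine LinearMap.ext_on NumR.span_clR ?_
    rintro _ ⟨L, hL, rfl⟩
    refine LinearMap.ext_on NumR.span_clR ?_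
    rintro _ ⟨M, hM, rfl⟩
    rw [LinearMap.flip_apply, hB, hB]
    have := intNum_perm k X 2 ![L, M] (Equiv.swap 0 1) (Coh.structureModule X)
    rw [← this]
    congr 2
    funext i
    fin_cases i <;> simp
  conv_lhs => rw [h]
  rfl

/-- Ample classes pair positively. -/
theorem zero_lt_of_ample [IsProper (X ↘ Spec (CommRingCat.of k))] [Nonempty X] (hdim : topologicalKrullDim X = 2)
    {B : NumR.N1R k X →ₗ[ℝ] NumR.N1R k X →ₗ[ℝ] ℝ} (hB : NumR.IsIntForm₂ k X B) {L M : X.Modules}
    (hL : CohB1.IsAmple L) (hM : CohB1.IsAmple M) : 0 < B (NumR.clR k X L hL.1) (NumR.clR k X M hM.1) := by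
  have hd : topologicalKrullDim X ≤ (2 : ℕ) := by rw [hdim]; rfl
  have h1 := K465.Hodge2.ip_ample_pos k hd hdim hL hM
  rw [K465.Ip.ip_mk] at h1
  rw [hB]
  exact_mod_cast h1

/-- The integral Hodge index property on `N¹(X)_ℝ`. -/
theorem intHodge [IsAlgClosed k] [IsProper (X ↘ Spec (CommRingCat.of k))] [IsIntegral X]
    (hdim : topologicalKrullDim X = 2)
    {B : NumR.N1R k X →ₗ[ℝ] NumR.N1R k X →ₗ[ℝ] ℝ} (hB : NumR.IsIntForm₂ k X B) {H : X.Modules}
    (hH : CohB1.IsAmple H) : IntHodge B (S k X) (NumR.clR k X H hH.1) where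
  symm := symm hB
  int := by
    intro x hx y hy
    obtain ⟨L, hL, rfl⟩ := mem_S_iff.mp hx
    obtain ⟨M, hM, rfl⟩ := mem_S_iff.mp hy
    exact ⟨_, hB L M hL hM⟩
  mem := clR_mem_S _
  pos := zero_lt_of_ample hdim hB hH hH
  hodge := by
    intro x hx h1 h2
    obtain ⟨L, hL, rfl⟩ := mem_S_iff.mp hx
    obtain ⟨L', hL', e⟩ := exists_inverse hL
    obtain ⟨H', hH', f⟩ := exists_inverse hH.1
    have hd : topologicalKrullDim X = ((0 + 2 : ℕ) : WithBot ℕ∞) := by rw [hdim]; rfl
    have e1 := hB L' H' hL' hH'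
    rw [clR_inverse hL hL' e, clR_inverse hH.1 hH' f, map_neg, map_neg, LinearMap.neg_apply, neg_neg, h1] at e1
    have e2 := hB L' L' hL' hL'
    rw [clR_inverse hL hL' e, map_neg, map_neg, LinearMap.neg_apply, neg_neg] at e2
    have horth : FGA.intNum k X (0 + 2) (Matrix.vecCons L' (fun _ : Fin (0 + 1) => H')) (Coh.structureModule X) = 0 := by
      have : (Matrix.vecCons L' (fun _ : Fin (0 + 1) => H') : Fin 2 → X.Modules) = ![L', H'] := by
        funext i; fin_cases i <;> rfl
      change FGA.intNum k X 2 (Matrix.vecCons L' (fun _ : Fin (0 + 1) => H')) _ = 0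
      rw [this]
      exact_mod_cast e1.symm
    have hsq : 0 ≤ FGA.intNum k X (0 + 2) (Matrix.vecCons L' (Matrix.vecCons L' (fun _ : Fin 0 => H')))
        (Coh.structureModule X) := by
      have : (Matrix.vecCons L' (Matrix.vecCons L' (fun _ : Fin 0 => H')) : Fin 2 → X.Modules) = ![L', L'] := by
        funext i; fin_cases i <;> rfl
      change 0 ≤ FGA.intNum k X 2 (Matrix.vecCons L' (Matrix.vecCons L' (fun _ : Fin 0 => H'))) _
      rw [this]
      rw [e2] at h2
      exact_mod_cast h2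
    have hnum := Groth.Agent.S4290.result k X 0 hd H H' L L' hH hL f e horth hsq
    rw [NumR.clR_def, NumR.cl_eq_zero hL hnum, map_zero]

/-- **The real Hodge index theorem** on `N¹(X)_ℝ`. -/
theorem lor [IsAlgClosed k] [IsProper (X ↘ Spec (CommRingCat.of k))] [IsIntegral X]
    (hdim : topologicalKrullDim X = 2)
    {B : NumR.N1R k X →ₗ[ℝ] NumR.N1R k X →ₗ[ℝ] ℝ} (hB : NumR.IsIntForm₂ k X B) {H : X.Modules}
    (hH : CohB1.IsAmple H) : Lor B (NumR.clR k X H hH.1) where
  symm := symm hB
  pos := zero_lt_of_ample hdim hB hH hH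
  neg x hx hx0 := neg_of_orth (intHodge hdim hB hH) span_S x hx hx0

end

end K465.NumHodge
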