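import Groth.Agent.Surf.K465.Eff

/-!
# Nef classes on a surface (K465)

* `eff_of_pos`: a class `q` in the positive cone with `n q` integral has a positive multiple which is a sum of
  classes of curves.
* `pos_hull`: every class in the positive cone is a positive real combination of sums of classes of curves.
* `nef_dual`: nef classes pair nonnegatively with the positive cone; `nef_sq`: nef classes have nonnegative square.
-/

set_option autoImplicit false
universe u
open CategoryTheory CategoryTheory.Limits AlgebraicGeometry Opposite TopologicalSpace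

namespace K465.Nef

open Groth.Agent.Grpsch.PicGrp Groth.Agent K465.ClP K465.LinHodge K465.Eff K465.Cone

section

variable {k : Type u} [Field k] {X : Scheme.{u}} [X.Over (Spec (CommRingCat.of k))] [PicGrp.Law X]
  [IsAlgClosed k] [IsProper (X ↘ Spec (CommRingCat.of k))] [IsIntegral X]
  {B : NumR.N1R k X →ₗ[ℝ] NumR.N1R k X →ₗ[ℝ] ℝ}

/-- Integral classes in the positive cone: some power has a nonzero section. -/
theorem exists_section_of_pos (hdim : topologicalKrullDim X = 2) (hB : NumR.IsIntForm₂ k X B) {H : X.Modules}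
    (hH : CohB1.IsAmple H) {L : X.Modules} (hL : PicF.IsInvertible L)
    (h1 : 0 < B (NumR.clR k X L hL) (NumR.clR k X L hL)) (h2 : 0 < B (NumR.clR k X L hL) (NumR.clR k X H hH.1)) :
    ∃ (N : ℕ), ∀ j : ℕ, N ≤ j → (∃ t : Coh.structureModule X ⟶ CohB1.tensorPow L j, t ≠ 0) := by
  have hd : topologicalKrullDim X ≤ (2 : ℕ) := by rw [hdim]; rfl
  rw [hB] at h1 h2
  obtain ⟨N, K, h⟩ := K465.Hodge2.exists_sections k hd hdim hH hL
    (by rw [K465.Ip.ip_mk]; exact_mod_cast h1) (by rw [K465.Ip.ip_mk]; exact (by exact_mod_cast h2.le))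
  exact ⟨N, fun j hj => (h j hj).1⟩

/-- A rational class in the positive cone has a positive multiple which is a sum of classes of curves. -/
theorem eff_of_pos [Smooth (X ↘ Spec (CommRingCat.of k))] (hdim : topologicalKrullDim X = 2)
    (hB : NumR.IsIntForm₂ k X B) {H : X.Modules} (hH : CohB1.IsAmple H) {q : NumR.N1R k X} (hq : q ∈ Qs (S k X))
    (h1 : 0 < B q q) (h2 : 0 < B q (NumR.clR k X H hH.1)) :
    ∃ n : ℕ, 0 < n ∧ n • q ∈ AddSubmonoid.closure (Cur k X) := by
  obtain ⟨n, hn, hnq⟩ := hq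
  obtain ⟨L, hL, hLq⟩ := mem_S_iff.mp hnq
  have hn0 : (0 : ℝ) < n := by exact_mod_cast hn
  have e1 : (n • q : NumR.N1R k X) = (n : ℝ) • q := (Nat.cast_smul_eq_nsmul ℝ n q).symm
  rw [e1] at hLq
  obtain ⟨p1, p2⟩ := smul_mem (B := B) h1 h2 hn0
  rw [hLq] at p1 p2
  obtain ⟨N, hN⟩ := exists_section_of_pos hdim hB hH hL p1 p2
  obtain ⟨t, ht⟩ := hN (N + 1) (Nat.le_succ N)
  have hLj := Groth.Agent.Fdesc.LocGen.isInvertible_tensorPow hL (N + 1)
  refine ⟨(N + 1) * n, by positivity, ?_⟩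
  have h3 := clR_mem_of_section (k := k) hdim hLj t ht
  rw [clR_tensorPow hL (N + 1), ← hLq, ← e1] at h3
  rwa [mul_smul]

/-- Every class in the positive cone lies in the cone spanned by the classes of curves. -/
theorem mem_hull [Smooth (X ↘ Spec (CommRingCat.of k))] [Module.Finite ℝ (NumR.N1R k X)]
    (hdim : topologicalKrullDim X = 2)
    (hB : NumR.IsIntForm₂ k X B) {H : X.Modules} (hH : CohB1.IsAmple H) {y : NumR.N1R k X}
    (h1 : 0 < B y y) (h2 : 0 < B y (NumR.clR k X H hH.1)) :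
    y ∈ convexHull ℝ {v : NumR.N1R k X | ∃ n : ℕ, 0 < n ∧ n • v ∈ AddSubmonoid.closure (Cur k X)} := by
  have hU : {x : NumR.N1R k X | 0 < B x x ∧ 0 < B x (NumR.clR k X H hH.1)} ∈ nhds y :=
    (isOpen_pos B _).mem_nhds ⟨h1, h2⟩
  refine convexHull_mono ?_ (mem_convexHull_rat (S k X) span_S hU)
  rintro q ⟨⟨hq1, hq2⟩, hq⟩
  exact eff_of_pos hdim hB hH hq hq1 hq2

/-- Nef classes pair nonnegatively with the positive cone. -/
theorem nef_dual [Smooth (X ↘ Spec (CommRingCat.of k))] [Module.Finite ℝ (NumR.N1R k X)]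
    (hdim : topologicalKrullDim X = 2)
    (hB : NumR.IsIntForm₂ k X B) {H : X.Modules} (hH : CohB1.IsAmple H) {x : NumR.N1R k X}
    (hx : x ∈ NumR.nefCone₂ k X B) {y : NumR.N1R k X} (h1 : 0 < B y y) (h2 : 0 < B y (NumR.clR k X H hH.1)) :
    0 ≤ B x y := by
  have hc : Convex ℝ {v : NumR.N1R k X | 0 ≤ B x v} := by
    intro v hv w hw a b ha hb _
    change 0 ≤ B x (a • v + b • w)
    have hv : 0 ≤ B x v := hv
    have hw : 0 ≤ B x w := hw
    rw [map_add, map_smul, map_smul, smul_eq_mul, smul_eq_mul]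
    positivity
  refine convexHull_min ?_ hc (mem_hull hdim hB hH h1 h2)
  rintro v ⟨n, hn, hv⟩
  have h3 := nonneg_of_mem_closure hx hv
  rw [map_nsmul, nsmul_eq_mul] at h3
  have hn0 : (0 : ℝ) < n := by exact_mod_cast hn
  exact nonneg_of_mul_nonneg_right h3 hn0

/-- Nef classes have nonnegative square. -/
theorem nef_sq [Smooth (X ↘ Spec (CommRingCat.of k))] [Module.Finite ℝ (NumR.N1R k X)]
    (hdim : topologicalKrullDim X = 2)
    (hB : NumR.IsIntForm₂ k X B) {H : X.Modules} (hH : CohB1.IsAmple H) {x : NumR.N1R k X}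
    (hx : x ∈ NumR.nefCone₂ k X B) : 0 ≤ B x x :=
  (K465.NumHodge.lor hdim hB hH).nonneg_of_dual fun _ h1 h2 => nef_dual hdim hB hH hx h1 h2

end

end K465.Nef
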