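import Groth.Agent.Surf.K465.Walls

/-!
# Walls of curves: the negative definite families are the faces of the nef cone (K465)

`iff_negDef` (relative to the Nakai-Moishezon criterion `Nak`).
-/

set_option autoImplicit false
universe u
open CategoryTheory CategoryTheory.Limits AlgebraicGeometry Opposite TopologicalSpace

namespace K465.WallsX

open Groth.Agent.Grpsch.PicGrp Groth.Agent K465.ClP K465.LinHodge K465.Eff K465.Cone K465.AmpCone K465.Nef
open K464.Base K464.Curves K465.AmpReal K464.NegDef

section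

variable {k : Type u} [Field k] {X : Scheme.{u}} [X.Over (Spec (CommRingCat.of k))] [PicGrp.Law X]
  [IsProper (X ↘ Spec (CommRingCat.of k))] [IsAlgClosed k] [Smooth (X ↘ Spec (CommRingCat.of k))] [IsIntegral X]
  [Module.Finite ℝ (NumR.N1R k X)]
  {B : NumR.N1R k X →ₗ[ℝ] NumR.N1R k X →ₗ[ℝ] ℝ}

theorem iff_negDef (hN : Nak k X) (hdim : topologicalKrullDim X = 2) (hB : NumR.IsIntForm₂ k X B)
    {H : X.Modules} (hH : CohB1.IsAmple H) (r : ℕ) (C : Fin r → X.IdealSheafData) (hC : Function.Injective C)
    (hCi : ∀ i, IsIntegral (C i).subscheme) (hCd : ∀ i, topologicalKrullDim ((C i).support : Set X) = 1)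
    (hCinv : ∀ i, PicF.IsInvertible (ClSub.idealMod (C i))) :
    (∃ x : NumR.N1R k X, x ∈ closure (NumR.ampleCone k X : Set (NumR.N1R k X)) ∧ x ∈ NumR.posCone k X B H hH.1 ∧
        ∀ i, x ∈ NumR.wall k X B (C i) (hCinv i)) ↔
      IsNegDef fun i j => FGA.intNum k X 2 ![(ClSub.idealMod (C i)), (ClSub.idealMod (C j))] (Coh.structureModule X) := by
  have hl := K465.NumHodge.lor hdim hB hH
  have hd : topologicalKrullDim X ≤ (2 : ℕ) := by rw [hdim]; rfl
  set c : Fin r → NumR.N1R k X := fun i => NumR.curveCl k X (C i) (hCinv i) with hc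
  set G : Fin r → Fin r → ℤ := fun i j =>
    FGA.intNum k X 2 ![(ClSub.idealMod (C i)), (ClSub.idealMod (C j))] (Coh.structureModule X) with hGdef
  have hG : ∀ i j, B (c i) (c j) = G i j := by
    intro i j
    simp only [hc]
    rw [NumR.curveCl, NumR.curveCl, map_neg, map_neg, LinearMap.neg_apply, neg_neg, hB]
  have hcur : ∀ i, c i ∈ Cur k X := fun i => ⟨C i, hCi i, hCd i, hCinv i, rfl⟩
  have hE : ∀ i, BlowUp.IsEffCartierIdeal (C i) := fun i => (Groth.Agent.S8914.result (C i)).1 (hCinv i)
  have hCu : ∀ i, IsCurve (C i) := fun i => ⟨hCi i, hCd i⟩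
  have hoff : ∀ i j, i ≠ j → 0 ≤ G i j := by
    intro i j hij
    have h1 := dot_ic_ic_nonneg k (hCu i) (hE i) (hE j) (gp_notMem (hCu i) (hCu j) (fun h => hij (hC h)))
    have h2 : G i j = dot k X (ic (C i) (hE i)) (ic (C j) (hE j)) :=
      intNum_eq_dot k X hd (hCinv i) (hCinv j)
    rw [h2]
    exact h1
  have hh : ∀ i, 0 < B (NumR.clR k X H hH.1) (c i) := fun i => ample_pos_curve hdim hB (hcur i) (mem_of_ample hH)
  constructor
  · rintro ⟨x, -, ⟨h1, h2⟩, h3⟩
    exact K465.Walls.negDef_of_orth hl hG hoff hh h1 h2 h3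
  · intro hneg
    classical
    have ht : ∀ j, ∃ t : ℤ, B (NumR.clR k X H hH.1) (c j) = t := by
      intro j
      refine ⟨- FGA.intNum k X 2 ![H, ClSub.idealMod (C j)] (Coh.structureModule X), ?_⟩
      simp only [hc]
      rw [NumR.curveCl, map_neg, hB]
      push_cast
      ring
    choose t ht using ht
    obtain ⟨N, s, hN0, hs⟩ := exists_orthogonal hneg t
    have hs0 : ∀ i, 0 ≤ s i := by
      refine nonneg_of_row_nonpos hoff hneg s fun j => ?_
      rw [hs]
      have h1 : 0 < t j := by
        have := hh j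
        rw [ht] at this
        exact_mod_cast this
      have h2 : (0 : ℤ) < N := by exact_mod_cast hN0
      have := mul_pos h2 h1
      omega
    have hNr : (0 : ℝ) < N := by exact_mod_cast hN0
    have hsr : ∀ i, (0 : ℝ) ≤ s i := fun i => by exact_mod_cast hs0 i
    set h := NumR.clR k X H hH.1 with hhdef
    set x : NumR.N1R k X := (N : ℝ) • h + ∑ i, (s i : ℝ) • c i with hx
    have hBx : ∀ v, B x v = N * B h v + ∑ i, (s i : ℝ) * B (c i) v := by
      intro v
      simp only [hx, map_add, map_smul, map_sum, LinearMap.add_apply, LinearMap.smul_apply, LinearMap.sum_apply,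
        smul_eq_mul]
    have hxc : ∀ j, B x (c j) = 0 := by
      intro j
      rw [hBx, ht]
      have h1 : ∑ i, (s i : ℝ) * B (c i) (c j) = ((∑ i, s i * G i j : ℤ) : ℝ) := by
        push_cast
        exact Finset.sum_congr rfl fun i _ => by rw [hG]
      rw [h1, hs]
      push_cast
      ring
    have hxnef : x ∈ NumR.nefCone₂ k X B := by
      rw [mem_nefCone₂_iff]
      intro v hv
      by_cases hvj : ∃ j, v = c j
      · obtain ⟨j, rfl⟩ := hvj
        rw [hxc]
      · rw [hBx]
        have h1 : 0 < B h v := ample_pos_curve hdim hB hv (mem_of_ample hH)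
        have h2 : 0 ≤ ∑ i, (s i : ℝ) * B (c i) v := by
          refine Finset.sum_nonneg fun i _ => mul_nonneg (hsr i) ?_
          exact cur_nonneg hdim hB (hcur i) hv (fun h => hvj ⟨i, h.symm⟩)
        positivity
    have hxh : 0 < B x h := by
      rw [hBx]
      have h1 := hl.pos
      have h2 : 0 ≤ ∑ i, (s i : ℝ) * B (c i) h := by
        refine Finset.sum_nonneg fun i _ => mul_nonneg (hsr i) ?_
        rw [hl.symm]
        exact (hh i).le
      positivity
    have hxx : 0 < B x x := by
      have h1 : B x x = N * B x h := by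
        have h2 : B x ((N : ℝ) • h + ∑ i, (s i : ℝ) • c i) = N * B x h := by
          rw [map_add, map_smul, map_sum, smul_eq_mul]
          simp only [map_smul, hxc, smul_zero, Finset.sum_const_zero, add_zero]
        exact h2
      rw [h1]
      positivity
    have h4 : x ∈ closure (NumR.ampleCone k X : Set (NumR.N1R k X)) ∩ NumR.posCone k X B H hH.1 := by
      rw [closure_inter_eq hN hdim hB hH]
      exact ⟨hxx, hxnef⟩
    exact ⟨x, h4.1, h4.2, fun i => hxc i⟩

end

end K465.WallsX
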