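import Groth.Agent.Surf.K465.AmpReal
import Groth.Agent.Surf.K464.NegDef

/-!
# Walls of curves and negative definite families (K465)

* `linearIndependent_cons`: a family with integral negative definite Gram matrix is independent together with any
  vector of positive square.
* `negDef_of_orth`: curves orthogonal to a class in the positive cone span a negative definite lattice.
* `exists_wall_point`: for a negative definite family of curves there is a class of positive square, nef and
  orthogonal to all of them.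
-/

set_option autoImplicit false
universe u
open CategoryTheory CategoryTheory.Limits AlgebraicGeometry Opposite TopologicalSpace

namespace K465.Walls

open K465.LinHodge K464.NegDef

section lin

variable {V : Type*} [AddCommGroup V] [Module ℝ V] {B : V →ₗ[ℝ] V →ₗ[ℝ] ℝ} {r : ℕ} {c : Fin r → V}
  {G : Fin r → Fin r → ℤ}

theorem quad_eq (hG : ∀ i j, B (c i) (c j) = G i j) (a : Fin r → ℝ) :
    B (∑ i, a i • c i) (∑ i, a i • c i) = ∑ i, ∑ j, a i * a j * G i j := by
  simp only [map_sum, map_smul, LinearMap.sum_apply, LinearMap.smul_apply, smul_eq_mul, hG]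
  rw [Finset.sum_comm]
  refine Finset.sum_congr rfl fun i _ => ?_
  rw [Finset.mul_sum]
  exact Finset.sum_congr rfl fun j _ => by ring

theorem row_eq (hG : ∀ i j, B (c i) (c j) = G i j) (a : Fin r → ℝ) (j : Fin r) :
    B (∑ i, a i • c i) (c j) = ∑ i, a i * G i j := by
  simp only [map_sum, map_smul, LinearMap.sum_apply, LinearMap.smul_apply, smul_eq_mul, hG]

/-- A nonzero rational multiple. -/
theorem exists_int_vector (f : (Fin r → ℝ) → ℝ) (hf : ∀ (t : ℝ) (a : Fin r → ℝ), f (t • a) = t ^ 2 * f a)
    (hc : Continuous f) {a : Fin r → ℝ} (ha : 0 < f a) : ∃ b : Fin r → ℤ, 0 < f (fun i => (b i : ℝ)) := by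
  have hopen : IsOpen {x : Fin r → ℝ | 0 < f x} := isOpen_lt continuous_const hc
  have hdense : DenseRange (fun (q : Fin r → ℚ) (i : Fin r) => (q i : ℝ)) :=
    DenseRange.piMap (f := fun _ => ((↑) : ℚ → ℝ)) fun _ => Rat.denseRange_cast
  obtain ⟨q, hq⟩ := hdense.exists_mem_open hopen ⟨a, ha⟩
  set N : ℕ := ∏ i, (q i).den with hN
  have hN0 : 0 < N := Finset.prod_pos fun i _ => (q i).den_pos
  have hint : ∀ i, ∃ z : ℤ, (z : ℝ) = N * q i := by
    intro i
    obtain ⟨m, hm⟩ : (q i).den ∣ N := Finset.dvd_prod_of_mem _ (Finset.mem_univ i)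
    refine ⟨m * (q i).num, ?_⟩
    have h1 : (q i : ℝ) * (q i).den = (q i).num := by exact_mod_cast Rat.mul_den_eq_num (q i)
    rw [hm]
    push_cast
    rw [← h1]
    ring
  choose b hb using hint
  refine ⟨b, ?_⟩
  have h2 : (fun i => (b i : ℝ)) = (N : ℝ) • fun i => (q i : ℝ) := by
    funext i
    rw [hb, Pi.smul_apply, smul_eq_mul]
  rw [h2, hf]
  have : (0 : ℝ) < N := by exact_mod_cast hN0
  have hq' : 0 < f fun i => (q i : ℝ) := hq
  positivity

theorem linearIndependent_of_negDef (hG : ∀ i j, B (c i) (c j) = G i j) (hneg : IsNegDef G) :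
    LinearIndependent ℝ c := by
  classical
  rw [Fintype.linearIndependent_iff]
  intro a ha
  let M : Matrix (Fin r) (Fin r) ℤ := Matrix.of G
  have hdet : M.det ≠ 0 := by
    intro h
    obtain ⟨v, hv, hv0⟩ := Matrix.exists_vecMul_eq_zero_iff.2 h
    have h1 := hneg v hv
    rw [sum_eq_sum_row] at h1
    have h2 : ∀ j, ∑ i, v i * G i j = 0 := fun j => by
      have := congrFun hv0 j
      simpa [Matrix.vecMul, dotProduct, M] using this
    simp only [h2, mul_zero, Finset.sum_const_zero, lt_irrefl] at h1
  let M' : Matrix (Fin r) (Fin r) ℝ := M.map (Int.cast : ℤ → ℝ)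
  have hdet' : M'.det ≠ 0 := by
    have : M'.det = ((M.det : ℤ) : ℝ) := by
      have := (Int.castRingHom ℝ).map_det M
      simp only [RingHom.mapMatrix_apply] at this
      exact this.symm
    rw [this]
    exact_mod_cast hdet
  have h3 : Matrix.vecMul a M' = 0 := by
    funext j
    have h4 := row_eq hG a j
    rw [ha, map_zero, LinearMap.zero_apply] at h4
    simpa [Matrix.vecMul, dotProduct, M', M] using h4.symm
  have h5 : a = 0 := by
    by_contra hne
    exact hdet' (Matrix.exists_vecMul_eq_zero_iff.1 ⟨a, hne, h3⟩)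
  intro i
  rw [h5]; rfl

theorem linearIndependent_cons (hG : ∀ i j, B (c i) (c j) = G i j) (hneg : IsNegDef G) {h : V} (hh : 0 < B h h) :
    LinearIndependent ℝ (Fin.cons h c : Fin (r + 1) → V) := by
  rw [linearIndependent_finCons]
  refine ⟨linearIndependent_of_negDef hG hneg, fun hmem => ?_⟩
  obtain ⟨a, ha⟩ := (Submodule.mem_span_range_iff_exists_fun ℝ).1 hmem
  rw [← ha, quad_eq hG] at hh
  obtain ⟨b, hb⟩ := exists_int_vector (fun a : Fin r → ℝ => ∑ i, ∑ j, a i * a j * (G i j : ℝ))
    (fun t a => by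
      simp only [Pi.smul_apply, smul_eq_mul, Finset.mul_sum]
      exact Finset.sum_congr rfl fun i _ => Finset.sum_congr rfl fun j _ => by ring)
    (by fun_prop) hh
  have hb0 : b ≠ 0 := by
    rintro rfl
    simp at hb
  have h1 := hneg b hb0
  have h2 : (0 : ℝ) < ((∑ i, ∑ j, b i * b j * G i j : ℤ) : ℝ) := by
    push_cast
    exact hb
  have h3 : (0 : ℤ) < ∑ i, ∑ j, b i * b j * G i j := by exact_mod_cast h2
  exact absurd h3 (not_lt.2 h1.le)

/-- A family of vectors with nonnegative mutual products, orthogonal to a vector of the positive cone and pairing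
positively with `h`, has negative definite Gram matrix. -/
theorem negDef_of_orth {h : V} (H : Lor B h) (hG : ∀ i j, B (c i) (c j) = G i j)
    (hoff : ∀ i j, i ≠ j → 0 ≤ G i j) (hh : ∀ i, 0 < B h (c i)) {x : V} (h1 : 0 < B x x) (h2 : 0 < B x h)
    (h3 : ∀ i, B x (c i) = 0) : IsNegDef G := by
  intro a ha
  by_contra hcon
  push Not at hcon
  have horth : ∀ a : Fin r → ℝ, B x (∑ i, a i • c i) = 0 := fun a => by
    simp only [map_sum, map_smul, h3, smul_zero, Finset.sum_const_zero]
  have hv : ∑ i, (a i : ℝ) • c i = 0 := by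
    refine H.eq_zero_of_orth h1 h2 ?_ (horth _)
    rw [quad_eq hG]
    exact_mod_cast hcon
  set p : Fin r → ℝ := fun i => max (a i : ℝ) 0 with hp
  set m : Fin r → ℝ := fun i => max (-(a i : ℝ)) 0 with hm
  have hpm : ∀ i, (a i : ℝ) = p i - m i := by
    intro i
    simp only [hp, hm]
    rcases le_total (a i : ℝ) 0 with h | h
    · rw [max_eq_right h, max_eq_left (by linarith)]; ring
    · rw [max_eq_left h, max_eq_right (by linarith)]; ring
  have hp0 : ∀ i, 0 ≤ p i := fun i => le_max_right _ _
  have hm0 : ∀ i, 0 ≤ m i := fun i => le_max_right _ _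
  have hpm0 : ∀ i, p i * m i = 0 := by
    intro i
    simp only [hp, hm]
    rcases le_total (a i : ℝ) 0 with h | h
    · rw [max_eq_right h, zero_mul]
    · rw [max_eq_right (a := -(a i : ℝ)) (by linarith), mul_zero]
  have heq : ∑ i, p i • c i = ∑ i, m i • c i := by
    rw [← sub_eq_zero, ← Finset.sum_sub_distrib, ← hv]
    exact Finset.sum_congr rfl fun i _ => by rw [hpm i, sub_smul]
  have hzero : ∑ i, p i • c i = 0 := by
    refine H.eq_zero_of_orth h1 h2 ?_ (horth _)
    nth_rewrite 2 [heq]
    simp only [map_sum, map_smul, LinearMap.sum_apply, LinearMap.smul_apply, smul_eq_mul, hG]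
    refine Finset.sum_nonneg fun i _ => ?_
    rw [Finset.mul_sum]
    refine Finset.sum_nonneg fun j _ => ?_
    by_cases hij : j = i
    · subst hij
      rw [← mul_assoc, mul_comm (m j), hpm0, zero_mul]
    · have : (0 : ℝ) ≤ G j i := by exact_mod_cast hoff j i hij
      have := hp0 j
      have := hm0 i
      positivity
  have key : ∀ q : Fin r → ℝ, (∀ i, 0 ≤ q i) → ∑ i, q i • c i = 0 → ∀ i, q i = 0 := by
    intro q hq hs i
    have h4 : ∑ i, q i * B h (c i) = 0 := by
      have := congrArg (B h) hs
      simpa only [map_sum, map_smul, smul_eq_mul, map_zero] using this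
    have h5 := (Finset.sum_eq_zero_iff_of_nonneg fun i _ => mul_nonneg (hq i) (hh i).le).1 h4 i (Finset.mem_univ i)
    exact (mul_eq_zero.1 h5).resolve_right (hh i).ne'
  apply ha
  funext i
  have h6 := key p hp0 hzero i
  have h7 := key m hm0 (heq ▸ hzero) i
  have h8 := hpm i
  rw [h6, h7, sub_zero] at h8
  exact_mod_cast h8

end lin

end K465.Walls
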