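import Groth.Agent.Surf.K465.PsefAbs
import Groth.Agent.Surf.K465.AmpCone
import Groth.Agent.Pic13.H956.Irred
import Groth.Agent.S14812
import Groth.Agent.VarietyA.TwistExist
import Groth.Agent.EtpbcA.CdFinDim
import Groth.Agent.S2329
import Groth.Agent.S2327

/-!
# Intersection numbers with ample classes on effective and numerically trivial classes (K465)
-/

set_option autoImplicit false
universe u
open CategoryTheory CategoryTheory.Limits AlgebraicGeometry Opposite TopologicalSpace

namespace K465.PsefInt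

open Groth.Agent Groth.Agent.Grpsch.PicGrp Groth.Agent.Fga Groth.Agent.Fga.PicMon Groth.Agent.Fga.RegSec Groth.Agent.Fga.IntAdd

section rep

variable {X : Scheme.{u}}

/-- A representative of the inverse class. -/
noncomputable def ri (a : Pic X) : X.Modules := (exists_mk a⁻¹).choose

theorem ri_inv (a : Pic X) : PicF.IsInvertible (ri a) := (exists_mk a⁻¹).choose_spec.choose

theorem mk_ri (a : Pic X) : mk (ri a) (ri_inv a) = a⁻¹ := (exists_mk a⁻¹).choose_spec.choose_spec.symm

theorem ri_mul (a b : Pic X) : Nonempty (ri (a * b) ≅ CohB1.tensorMod (ri a) (ri b)) := by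
  rw [← mk_eq_iff (ri_inv _) (Fdesc.LocGen.isInvertible_tensorMod (ri_inv a) (ri_inv b)), ← mk_mul_mk (ri_inv a) (ri_inv b), mk_ri, mk_ri,
    mk_ri, mul_inv]

theorem ri_mk {L L' : X.Modules} (hL : PicF.IsInvertible L) (hL' : PicF.IsInvertible L')
    (e : Nonempty (CohB1.tensorMod L L' ≅ Coh.structureModule X)) : Nonempty (ri (mk L hL) ≅ L') := by
  rw [← mk_eq_iff (ri_inv _) hL', mk_ri]
  have h1 : mk L hL * mk L' hL' = 1 := by
    rw [mk_mul_mk]; exact (mk_eq_one_iff _).mpr e
  exact inv_eq_of_mul_eq_one_right h1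

theorem ri_one : Nonempty (ri (1 : Pic X) ≅ Coh.structureModule X) := by
  rw [← mk_eq_one_iff (ri_inv _), mk_ri, inv_one]

theorem tensor_ri {L : X.Modules} (hL : PicF.IsInvertible L) :
    Nonempty (CohB1.tensorMod L (ri (mk L hL)) ≅ Coh.structureModule X) := by
  rw [← mk_eq_one_iff (Fdesc.LocGen.isInvertible_tensorMod hL (ri_inv _)), ← mk_mul_mk hL (ri_inv _), mk_ri,
    mul_inv_cancel]

end rep

section

variable (k : Type u) [Field k] (X : Scheme.{u}) [X.Over (Spec (CommRingCat.of k))]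
  [IsProper (X ↘ Spec (CommRingCat.of k))]

theorem cons_inv {r : ℕ} {A : X.Modules} (hA : PicF.IsInvertible A) {M : Fin r → X.Modules}
    (hM : ∀ i, PicF.IsInvertible (M i)) (i : Fin (r + 1)) : PicF.IsInvertible ((Fin.cons A M : Fin (r + 1) → X.Modules) i) := by
  induction i using Fin.cases with
  | zero => exact hA
  | succ i => exact hM i

theorem cons_congr {r : ℕ} {A B : X.Modules} (e : Nonempty (A ≅ B)) (M : Fin r → X.Modules) (d : ℕ) (F : X.Modules) :
    FGA.intNum k X d (Fin.cons A M : Fin (r + 1) → X.Modules) F =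
      FGA.intNum k X d (Fin.cons B M : Fin (r + 1) → X.Modules) F := by
  refine intNum_congr k X d _ _ (fun i => ?_) F
  induction i using Fin.cases with
  | zero => exact e
  | succ i => exact ⟨Iso.refl _⟩

omit [X.Over (Spec (CommRingCat.of k))] [IsProper (X ↘ Spec (CommRingCat.of k))] in
theorem succ_le_of_lt {n : ℕ} {x : WithBot ℕ∞} (h : (n : WithBot ℕ∞) < x) : ((n + 1 : ℕ) : WithBot ℕ∞) ≤ x := by
  induction x using WithBot.recBotCoe with
  | bot => exact absurd h (not_lt_bot)
  | coe m =>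
    have h1 : (n : ℕ∞) < m := by exact_mod_cast h
    have h2 : ((n + 1 : ℕ) : ℕ∞) ≤ m := by
      push_cast
      exact Order.add_one_le_of_lt h1
    exact_mod_cast h2

theorem dim_unit (n : ℕ) (hd : topologicalKrullDim X ≤ n) :
    topologicalKrullDim (CohB1.support (Coh.structureModule X)) ≤ n := by
  rw [Pic13.H956.Numbers.support_unit, (Homeomorph.Set.univ X).isHomeomorph.topologicalKrullDim_eq]
  exact hd

/-- The additive function `a ↦ (a · M₁ ⋯ M_r)` on a scheme of dimension `≤ r + 1`. -/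
noncomputable def fM {r : ℕ} (hd : topologicalKrullDim X ≤ (r + 1 : ℕ)) (M : Fin r → X.Modules)
    (hM : ∀ i, PicF.IsInvertible (M i)) : Additive (Pic X) →+ ℤ :=
  AddMonoidHom.mk' (fun a => FGA.intNum k X (r + 1) (Fin.cons (ri a.toMul) M : Fin (r + 1) → X.Modules)
    (Coh.structureModule X)) (by
      intro a b
      rw [toMul_add, cons_congr k X (ri_mul _ _) M]
      exact S3232.result k X (r + 1) hd M hM _ _ (ri_inv _) (ri_inv _) _ (CurvesC.UnitCoh.isCoh_unit X)
        (dim_unit X _ hd))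

theorem fM_mk {r : ℕ} (hd : topologicalKrullDim X ≤ (r + 1 : ℕ)) (M : Fin r → X.Modules)
    (hM : ∀ i, PicF.IsInvertible (M i)) {L L' : X.Modules} (hL : PicF.IsInvertible L) (hL' : PicF.IsInvertible L')
    (e : Nonempty (CohB1.tensorMod L L' ≅ Coh.structureModule X)) :
    fM k X hd M hM (Additive.ofMul (mk L hL)) =
      FGA.intNum k X (r + 1) (Fin.cons L' M : Fin (r + 1) → X.Modules) (Coh.structureModule X) :=
  cons_congr k X (ri_mk hL hL' e) M _ _

theorem num_inv {L L' : X.Modules} (hL : PicF.IsInvertible L) (hL' : PicF.IsInvertible L')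
    (e : Nonempty (CohB1.tensorMod L L' ≅ Coh.structureModule X)) (h : Pic13.IsNumEquivZero k X L) (F : X.Modules)
    (hF : Coh.IsCoh F) (d : ℕ) (hd : topologicalKrullDim X ≤ d) :
    FGA.eulerCharLE k X (CohB1.tensorMod L' F) d = FGA.eulerCharLE k X F d := by
  have h1 := (S14812.result k X L hL).mp h (CohB1.tensorMod L' F)
    (Sga67.CohBasic.isCoh_of_iso (Ega2.Tens.swap _ _) (TwistCoh.isCoh_tensor hF hL')) d hd
  rw [← h1]
  obtain ⟨e'⟩ := (mc_eq_iff (CohB1.tensorMod (CohB1.tensorMod L' F) L) F).mp (by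
    rw [mc_tensor, mc_tensor]
    have h2 : mc L * mc L' = 1 := by rw [← mc_tensor, ← mc_one]; exact (mc_eq_iff _ _).2 e
    rw [mul_comm, ← mul_assoc, h2, one_mul])
  rw [euler_iso k X e' d]

theorem intNum_num {r : ℕ} (M : Fin r → X.Modules) (hM : ∀ i, PicF.IsInvertible (M i)) {L L' : X.Modules}
    (hL : PicF.IsInvertible L) (hL' : PicF.IsInvertible L')
    (e : Nonempty (CohB1.tensorMod L L' ≅ Coh.structureModule X)) (h : Pic13.IsNumEquivZero k X L) (d : ℕ)
    (hd : topologicalKrullDim X ≤ d) (F : X.Modules) (hF : Coh.IsCoh F) :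
    FGA.intNum k X d M (CohB1.tensorMod L' F) = FGA.intNum k X d M F := by
  induction r generalizing F with
  | zero => rw [intNum_zero, intNum_zero, num_inv k X hL hL' e h F hF d hd]
  | succ r ih =>
    have hcons : M = Fin.cons (M 0) (fun i => M i.succ) := by
      funext i
      induction i using Fin.cases with
      | zero => rfl
      | succ i => rfl
    rw [hcons, intNum_cons, intNum_cons, ih _ (fun i => hM _) F hF]
    congr 1
    obtain ⟨e'⟩ := (mc_eq_iff (CohB1.tensorMod (M 0) (CohB1.tensorMod L' F))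
      (CohB1.tensorMod L' (CohB1.tensorMod (M 0) F))).mp (by
      rw [mc_tensor, mc_tensor, mc_tensor, mc_tensor, ← mul_assoc, ← mul_assoc, mul_comm (mc L')])
    rw [intNum_iso k X d _ e', ih _ (fun i => hM _) _
      (Sga67.CohBasic.isCoh_of_iso (Ega2.Tens.swap _ _) (TwistCoh.isCoh_tensor hF (hM 0)))]

theorem fM_num {r : ℕ} (hd : topologicalKrullDim X ≤ (r + 1 : ℕ)) (M : Fin r → X.Modules)
    (hM : ∀ i, PicF.IsInvertible (M i)) {L : X.Modules} (hL : PicF.IsInvertible L) (h : Pic13.IsNumEquivZero k X L) :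
    fM k X hd M hM (Additive.ofMul (mk L hL)) = 0 := by
  rw [fM_mk k X hd M hM hL (ri_inv (mk L hL)) (tensor_ri hL), intNum_cons,
    intNum_num k X M hM hL (ri_inv (mk L hL)) (tensor_ri hL) h (r + 1) hd _ (CurvesC.UnitCoh.isCoh_unit X), sub_self]

/-- Nonnegativity on effective classes. -/
theorem fM_nonneg [IsIntegral X] {r : ℕ} (hd : topologicalKrullDim X ≤ (r + 1 : ℕ)) (A M : Fin r → X.Modules)
    (hA : ∀ i, CohB1.IsAmple (A i)) (hAM : ∀ i, Nonempty (CohB1.tensorMod (A i) (M i) ≅ Coh.structureModule X))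
    (hM : ∀ i, PicF.IsInvertible (M i)) {L : X.Modules} (hL : PicF.IsInvertible L) (s : Coh.structureModule X ⟶ L)
    (hs : s ≠ 0) : 0 ≤ fM k X hd M hM (Additive.ofMul (mk L hL)) := by
  have := IntAdd.isNoetherian k X
  set P := ri (mk L hL) with hP
  have hPi : PicF.IsInvertible P := ri_inv _
  have hPL : mc P * mc L = 1 := by
    rw [mul_comm, ← mc_tensor, ← mc_one]; exact (mc_eq_iff _ _).2 (tensor_ri hL)
  rw [fM_mk k X hd M hM hL hPi (tensor_ri hL)]
  have hO : Coh.IsCoh (Coh.structureModule X) := CurvesC.UnitCoh.isCoh_unit X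
  have hmono : Mono (mulS s (Coh.structureModule X)) :=
    HodgeSec.mono_mulS hL Fdesc.LocGen.isInvertible_structureModule s hs
  obtain ⟨hcoh, hcut⟩ := Pic13.H956.Numbers.intNum_cut k X (r + 1) hd hL hPi hPL s _ hO hmono M hM
  rw [hcut]
  set G := CohB1.tensorMod P (cokernel (mulS s (Coh.structureModule X))) with hG
  have hsupp : CohB1.support G = (CohB1.genLocus L s : Set X)ᶜ := by
    rw [hG, PosMain.support_tensor X hPi hL hPL, support_cokernel_mulS s _ hL hO.2,
      Pic13.H956.Numbers.support_unit, Set.compl_eq_univ_sdiff]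
  have hne : CohB1.support G ≠ Set.univ := by
    rw [hsupp]
    intro h
    rw [Set.compl_univ_iff] at h
    exact (VarietyA.TwistExist.genLocus_nonempty hL s hs).ne_empty h
  have hcl : IsClosed (CohB1.support G) := by rw [hsupp]; exact (CohB1.genLocus L s).isOpen.isClosed_compl
  have hle : topologicalKrullDim (CohB1.support G) ≤ r := by
    by_contra hcon
    rw [not_le] at hcon
    have h1 : ((r + 1 : ℕ) : WithBot ℕ∞) ≤ topologicalKrullDim (CohB1.support G) := succ_le_of_lt hcon
    have h2 := (DimLt.exists_ltSeries_succ hcl hne h1).trans hd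
    have h3 : r + 1 + 1 ≤ r + 1 := by exact_mod_cast h2
    omega
  rcases hle.eq_or_lt with h | h
  · exact (S3233.result k X (r + 1) hd A M hA hAM G hcoh h).le
  · exact (S3231.result k X (r + 1) hd M hM G hcoh h).ge

end

section main

variable {k : Type u} [Field k] {X : Scheme.{u}} [X.Over (Spec (CommRingCat.of k))]
  [IsProper (X ↘ Spec (CommRingCat.of k))] [IsIntegral X]

/-- Dimension `≥ 2`: the Hodge index theorem. -/
theorem num_of_two {n : ℕ} (hdim : topologicalKrullDim X = ((n + 2 : ℕ) : WithBot ℕ∞)) {H : X.Modules} (hH : CohB1.IsAmple H)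
    {L : X.Modules} (hL : PicF.IsInvertible L)
    (h : ∀ (A M : Fin (n + 1) → X.Modules) (hM : ∀ i, PicF.IsInvertible (M i)), (∀ i, CohB1.IsAmple (A i)) →
      (∀ i, Nonempty (CohB1.tensorMod (A i) (M i) ≅ Coh.structureModule X)) →
      fM k X hdim.le M hM (Additive.ofMul (mk L hL)) = 0) : Pic13.IsNumEquivZero k X L := by
  have := IntAdd.isNoetherian k X
  have : X.IsSeparated := K465.AmpCone.isSeparated_of_over k X (X ↘ Spec (CommRingCat.of k))
  set L' := ri (mk L hL) with hL'
  have hL'i : PicF.IsInvertible L' := ri_inv _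
  have eL : Nonempty (CohB1.tensorMod L L' ≅ Coh.structureModule X) := tensor_ri hL
  set H' := ri (mk H hH.1) with hH'
  have hH'i : PicF.IsInvertible H' := ri_inv _
  have eH : Nonempty (CohB1.tensorMod H H' ≅ Coh.structureModule X) := tensor_ri hH.1
  -- general entry
  have key : ∀ (A A' : X.Modules), CohB1.IsAmple A → PicF.IsInvertible A' →
      Nonempty (CohB1.tensorMod A A' ≅ Coh.structureModule X) →
      FGA.intNum k X (n + 2) (Fin.cons L' (Fin.cons A' (fun _ => H') : Fin (n + 1) → X.Modules) : Fin (n + 2) → X.Modules)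
        (Coh.structureModule X) = 0 := by
    intro A A' hA hA' e
    have h1 := h (Fin.cons A (fun _ => H)) (Fin.cons A' (fun _ => H'))
      (cons_inv X hA' (fun _ => hH'i))
      (fun i => by
        induction i using Fin.cases with
        | zero => exact hA
        | succ i => exact hH)
      (fun i => by
        induction i using Fin.cases with
        | zero => exact e
        | succ i => exact eH)
    rw [fM_mk k X _ _ _ hL hL'i eL] at h1
    exact h1
  have horth : FGA.intNum k X (n + 2) (Fin.cons L' (fun _ => H') : Fin (n + 2) → X.Modules) (Coh.structureModule X) = 0 := by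
    have h1 := key H H' hH hH'i eH
    rwa [Pic13.H956.Main.cons_const] at h1
  -- the square
  obtain ⟨m, hm0, hm⟩ := S2329.result X H L hH hL
  have hB : CohB1.IsAmple (CohB1.tensorPow H m) :=
    (S2327.result X H hH.1 m hm0).mp hH
  have hA : CohB1.IsAmple (CohB1.tensorMod (CohB1.tensorPow H m) L) := (hm m le_rfl).1
  have hBi := hB.1
  have hAi := hA.1
  set B' := ri (mk _ hBi) with hB'
  have hB'i : PicF.IsInvertible B' := ri_inv _
  have h1 := key _ (ri (mk _ hAi)) hA (ri_inv _) (tensor_ri hAi)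
  have h2 := key _ B' hB hB'i (tensor_ri hBi)
  have e1 : Nonempty (ri (mk _ hAi) ≅ CohB1.tensorMod B' L') := by
    have e2 : mk _ hAi = mk _ hBi * mk L hL := (mk_mul_mk hBi hL).symm
    rw [e2]
    exact ri_mul _ _
  have h3 := Pic13.H956.Irred.curveDeg_eq_zero k X (n + 2) (by omega) L L' hL eL
  have h4 : FGA.intNum k X (n + 2) (Fin.cons L' (Fin.cons L' (fun _ => H') : Fin (n + 1) → X.Modules) : Fin (n + 2) → X.Modules)
        (Coh.structureModule X) = 0 := by
    rw [Pic13.H956.Main.intNum_swap, cons_congr k X e1] at h1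
    rw [S3232.result k X (n + 2) hdim.le (Fin.cons L' (fun _ => H')) (cons_inv X hL'i (fun _ => hH'i)) B' L' hB'i hL'i _
      (CurvesC.UnitCoh.isCoh_unit X) (dim_unit X _ hdim.le)] at h1
    rw [Pic13.H956.Main.intNum_swap] at h2
    rw [h2, zero_add] at h1
    exact h1
  intro Y ι _ hYi hY
  exact h3 Y ι hY (Pic13.H956.Main.hi n k X hdim H H' L L' hH hL eH eL horth h4.ge Y ι hY)

/-- Dimension one. -/
theorem num_of_one (hdim : topologicalKrullDim X = ((0 + 1 : ℕ) : WithBot ℕ∞)) {L : X.Modules} (hL : PicF.IsInvertible L)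
    (h : fM k X hdim.le Fin.elim0 (fun i => i.elim0) (Additive.ofMul (mk L hL)) = 0) : Pic13.IsNumEquivZero k X L := by
  intro Y ι _ hYi hY
  refine Pic13.H956.Irred.curveDeg_eq_zero k X 1 le_rfl L (ri (mk L hL)) hL (tensor_ri hL) Y ι hY ?_
  rw [fM_mk k X _ _ _ hL (ri_inv _) (tensor_ri hL)] at h
  have hr : Set.range ι = Set.univ := by
    by_contra hne
    have hcl : IsClosed (Set.range ι) := ι.isClosedEmbedding.isClosed_range
    have h1 : topologicalKrullDim (Set.range ι) = 1 := by
      rw [← hY]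
      exact (IsHomeomorph.topologicalKrullDim_eq _ ι.isEmbedding.toHomeomorph.isHomeomorph).symm
    have h2 := Groth.Agent.Fga.DimLt.exists_ltSeries_succ (n := 1) hcl hne (by rw [h1]; rfl)
    rw [hdim] at h2
    have h3 : 1 + 1 ≤ 0 + 1 := by exact_mod_cast h2
    omega
  have hsurj : Surjective ι := ⟨Set.range_eq_univ.mp hr⟩
  have hiso : IsIso ι := isIso_of_isClosedImmersion_of_surjective ι
  have e : Nonempty ((Coh.push ι).obj (Coh.structureModule Y) ≅ Coh.structureModule X) := by
    have : IsIso (ClSub.unitToPush ι) := by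
      rw [Scheme.Modules.Hom.isIso_iff_isIso_app]
      intro U
      have h : IsIso (ι.app U) := inferInstance
      have h2 : IsIso ((forget₂ CommRingCat RingCat ⋙ forget₂ RingCat Ab).map (ι.app U)) := inferInstance
      exact h2
    exact ⟨(@asIso _ _ _ _ (ClSub.unitToPush ι) this).symm⟩
  obtain ⟨e⟩ := e
  rw [intNum_iso k X 1 _ e]
  convert h using 2
  funext i
  fin_cases i
  rfl

/-- Dimension zero. -/
theorem num_of_zero (hdim : topologicalKrullDim X = 0) {L : X.Modules} : Pic13.IsNumEquivZero k X L := by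
  intro Y ι _ hYi hY
  exfalso
  have h1 : topologicalKrullDim Y ≤ topologicalKrullDim X := ι.isClosedEmbedding.isInducing.topologicalKrullDim_le
  rw [hY, hdim] at h1
  have h2 : (1 : ℕ) ≤ 0 := by exact_mod_cast h1
  omega

omit [X.Over (Spec (CommRingCat.of k))] [IsProper (X ↘ Spec (CommRingCat.of k))] in
theorem exists_dim_eq (n : ℕ) (h : topologicalKrullDim X ≤ n) : ∃ d : ℕ, topologicalKrullDim X = d := by
  have h0 : (0 : WithBot ℕ∞) ≤ topologicalKrullDim X := by
    have : Nonempty (TopologicalSpace.IrreducibleCloseds X) :=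
      ⟨⟨closure {genericPoint X}, isIrreducible_singleton.closure, isClosed_closure⟩⟩
    exact Order.krullDim_nonneg
  obtain ⟨m, hm⟩ : ∃ m : ℕ∞, topologicalKrullDim X = m :=
    ⟨(topologicalKrullDim X).unbot (fun h1 => by rw [h1] at h0; simp at h0), by simp⟩
  rw [hm] at h
  have h' : m ≤ (n : ℕ∞) := by exact_mod_cast h
  obtain ⟨d, rfl⟩ := ENat.ne_top_iff_exists.1 (ne_top_of_le_ne_top (ENat.natCast_ne_top n) h')
  exact ⟨d, hm⟩

variable [PicGrp.Law X]

/-- **The pseudo-effective cone is pointed.** -/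
theorem eq_zero {H : X.Modules} (hH : CohB1.IsAmple H) {v : NumR.N1R k X}
    (hv : v ∈ NumR.psefCone k X) (hv' : -v ∈ NumR.psefCone k X) : v = 0 := by
  obtain ⟨N, hN⟩ := EtpbcA.CdFinDim.exists_dim_le (X ↘ Spec (CommRingCat.of k))
  obtain ⟨d, hd⟩ := exists_dim_eq N hN
  rcases d with _ | _ | n
  · refine K465.PsefAbs.eq_zero (k := k) (X := X) ∅ (fun f hf => absurd hf (Set.notMem_empty f))
      (fun f hf => absurd hf (Set.notMem_empty f)) (fun L hL _ => num_of_zero hd) hv hv'
  · refine K465.PsefAbs.eq_zero (k := k) (X := X) {fM k X hd.le Fin.elim0 (fun i => i.elim0)} ?_ ?_ ?_ hv hv'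
    · rintro f rfl L hL hnum
      exact fM_num k X hd.le _ _ hL hnum
    · rintro f rfl L hL ⟨s, hs⟩
      exact fM_nonneg k X hd.le Fin.elim0 Fin.elim0 (fun i => i.elim0) (fun i => i.elim0) (fun i => i.elim0) hL s hs
    · intro L hL h
      exact num_of_one hd hL (h _ rfl)
  · refine K465.PsefAbs.eq_zero (k := k) (X := X)
      {f | ∃ (A M : Fin (n + 1) → X.Modules) (hM : ∀ i, PicF.IsInvertible (M i)), (∀ i, CohB1.IsAmple (A i)) ∧
        (∀ i, Nonempty (CohB1.tensorMod (A i) (M i) ≅ Coh.structureModule X)) ∧ f = fM k X hd.le M hM} ?_ ?_ ?_ hv hv'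
    · rintro f ⟨A, M, hM, hA, hAM, rfl⟩ L hL hnum
      exact fM_num k X hd.le M hM hL hnum
    · rintro f ⟨A, M, hM, hA, hAM, rfl⟩ L hL ⟨s, hs⟩
      exact fM_nonneg k X hd.le A M hA hAM hM hL s hs
    · intro L hL h
      exact num_of_two hd hH hL (fun A M hM hA hAM => h _ ⟨A, M, hM, hA, hAM, rfl⟩)

end main

end K465.PsefInt
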