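import Groth.Agent.Surf.K465.RNum
import Groth.Agent.Models.H38.SecDiv
import Groth.Agent.CurvesB.HZero

/-!
# Divisors of sections of `I ⊗ M`

`exists_divisor_le`: a nonzero section of `I ⊗ M` has a divisor `C ≤ I`.
-/

set_option autoImplicit false
universe u
open CategoryTheory CategoryTheory.Limits AlgebraicGeometry Opposite TopologicalSpace

namespace K465.RDiv

open Groth.Agent.Fdesc.LocGen Groth.Agent.Picfga.LineHom Groth.Agent.Dix.IdealModSec
open Groth.Agent.Dix.IdealModCartier Groth.Agent.Divis.EffCartier Groth.Agent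

open Groth.Agent.CurvesB.RankOne Groth.Agent.CurvesB.InvEmb

variable {X : Scheme.{u}}

section phi

variable (I : X.IdealSheafData) (M : X.Modules)

/-- The map `I ⊗ M ⟶ M`. -/
noncomputable def phi : CohB1.tensorMod (ClSub.idealMod I) M ⟶ M :=
  Ega2.Tens.lift (fun U => LinearMap.mk₂ Γ(X, U) (fun (i : Γ(ClSub.idealMod I, U)) (m : Γ(M, U)) => val I i • m)
    (fun i i' m => by
      rw [Groth.Agent.Pic13.H945.IdealPull.val_add, add_smul])
    (fun c i m => by rw [val_smul, mul_smul])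
    (fun i m m' => smul_add _ _ _)
    (fun c i m => by rw [smul_comm]))
    (by
      intro U V j i m
      change res M j.le (val I i • m) = val I (res _ j.le i) • res M j.le m
      rw [res_smul, val_res])

theorem phi_tmul {U : X.Opens} (i : Γ(ClSub.idealMod I, U)) (m : Γ(M, U)) :
    (phi I M).app U (Ega2.Tens.tmul i m) = val I i • m := Ega2.Tens.lift_tmul _ _ _ _ _

end phi

variable [IsIntegral X]

theorem mem_nonZeroDivisors_of_ne {M : X.Modules} (hM : PicF.IsInvertible M) (s : Γ(M, ⊤)) (hs : s ≠ 0)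
    (U : X.affineOpens) (e : Γ(M, U.1)) (a : Γ(X, U.1)) (_ : IsGen e)
    (hr : res M le_top s = a • e) : a ∈ nonZeroDivisors Γ(X, U.1) := by
  by_cases hU : ((U.1 : X.Opens) : Set X).Nonempty
  · have : Nonempty U.1 := hU.to_subtype
    rw [mem_nonZeroDivisors_iff_ne_zero]
    rintro rfl
    rw [zero_smul] at hr
    exact hs ((locEmb_of_isInvertible hM).eq_zero (le_top (a := U.1)) hU s hr)
  · have h0 : Subsingleton Γ(X, U.1) := by
      have h1 : U.1 = ⊥ := by
        ext x
        exact ⟨fun hx => (hU ⟨x, hx⟩).elim, fun hx => hx.elim⟩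
      rw [h1]
      infer_instance
    rw [mem_nonZeroDivisors_iff]
    exact ⟨fun _ _ => Subsingleton.elim _ _, fun _ _ => Subsingleton.elim _ _⟩

theorem exists_divisor_le {M : X.Modules} (hM : PicF.IsInvertible M) (I : X.IdealSheafData)
    (h : Nontrivial (Coh.HH X (CohB1.tensorMod (ClSub.idealMod I) M) 0)) :
    ∃ C : X.IdealSheafData, BlowUp.IsEffCartierIdeal C ∧ C ≤ I ∧ ClSub.IsInverseOf M (ClSub.idealMod C) := by
  obtain ⟨x, hx⟩ := exists_ne (0 : Coh.HH X (CohB1.tensorMod (ClSub.idealMod I) M) 0)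
  let σ : Γ(CohB1.tensorMod (ClSub.idealMod I) M, ⊤) := CurvesB.HZero.equivAdd _ x
  have hσ : σ ≠ 0 := (map_ne_zero_iff _ (CurvesB.HZero.equivAdd _).injective).2 hx
  let s : Γ(M, ⊤) := (phi I M).app ⊤ σ
  -- local form
  have hloc : ∀ (U : X.Opens) (e : Γ(M, U)), IsGen e → ∃ t : Γ(ClSub.idealMod I, U),
      res _ le_top σ = Ega2.Tens.tmul t e ∧ res M le_top s = val I t • e := by
    intro U e he
    obtain ⟨t, ht⟩ := Ega2.TensGen.exists_eq_tmul he (res _ (le_top (a := U)) σ)
    refine ⟨t, ht, ?_⟩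
    rw [← phi_tmul]
    have h1 : res M (le_top (a := U)) s = (phi I M).app U (res _ le_top σ) := (app_res (phi I M) le_top σ).symm
    rw [h1, ht]
    rfl
  have hs : s ≠ 0 := by
    intro h0
    apply hσ
    refine Ega2.Tens.eq_of_locally_eq _ _ _ fun y _ => ?_
    obtain ⟨U, e, hy, he⟩ := (isInvertible_iff M).1 hM y
    obtain ⟨t, ht, hst⟩ := hloc U e he
    refine ⟨U, homOfLE le_top, hy, ?_⟩
    rw [h0, map_zero] at hst
    have h1 : val I t = 0 := he.ext (by rw [← hst, zero_smul])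
    have h2 : t = 0 := val_injective I (by rw [h1, Groth.Agent.Pic13.H945.IdealPull.val_zero])
    change res _ (le_top (a := U)) σ = res _ (le_top (a := U)) 0
    rw [ht, h2, map_zero]
    exact Ega2.Tens.zero_tmul e
  obtain ⟨C, hC, hinv, hid⟩ := Models.H38.SecDiv.exists_divisor hM s
    (fun U e a he hr => mem_nonZeroDivisors_of_ne hM s hs U e a he hr)
  refine ⟨C, hC, ?_, hinv⟩
  have h0 : ∀ y : X, ∃ (U : X.affineOpens) (e : Γ(M, U.1)), y ∈ U.1 ∧ IsGen e := by
    intro y
    obtain ⟨V, e, hx, he⟩ := (isInvertible_iff M).1 hM y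
    obtain ⟨W, hxW, hW⟩ := exists_affine_mem_le V y hx
    exact ⟨W, _, hxW, he.res hW⟩
  choose U e hyU he using h0
  refine Scheme.IdealSheafData.le_of_iSup_eq_top U (top_le_iff.mp fun y _ ↦ by simpa using ⟨y, hyU y⟩) fun y => ?_
  obtain ⟨t, -, ht⟩ := hloc (U y).1 (e y) (he y)
  rw [hid (U y) (e y) (val I t) (he y) ht, Ideal.span_singleton_le_iff_mem]
  exact val_mem I (U y) t

end K465.RDiv
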