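import Groth.Agent.Surf.K465.RMain
import Groth.Agent.Surf.K465.RDiv
import Groth.Agent.Surf.K460.DelPezzo
import Groth.Agent.Surf.K458.Hodge

/-!
# The anticanonical module of a del Pezzo surface separates length two subschemes (degree at least three)
-/

set_option autoImplicit false
universe u
open CategoryTheory CategoryTheory.Limits AlgebraicGeometry Opposite TopologicalSpace

namespace K465.RDel

open Groth.Agent.Grpsch.PicGrp Groth.Agent.Dix.IdealModCartier Groth.Agent Groth.Agent.Divis.EffCartier K464.Base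
open K464.Curves Groth.Agent.Dix.TwistClosed490 K464.Cohom K465.RSeq K465.RNum K464.Comp K465.RMain
open Groth.Agent.Surf.K460.DelPezzo Groth.Agent.Surf.K460.SurfKit

section sec

variable (k : Type u) [Field k] {X : Scheme.{u}} [X.Over (Spec (CommRingCat.of k))]
  [IsProper (X ↘ Spec (CommRingCat.of k))]

theorem finrank_quot {I : X.IdealSheafData} (hI : Z0 I) {L : X.Modules} (hL : PicF.IsInvertible L) :
    (Module.finrank k (Coh.HH X (CohB1.tensorMod (ClSub.quotMod I) L) 0) : ℤ) = len k I := by
  have h1 := VarietyA.EulerAdd.euler_eq_sum k (CohB1.tensorMod (ClSub.quotMod I) L) 1 (fun i hi =>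
    subsingleton_HH_gt k (d := 0) I (by exact_mod_cast hI) hL i (by omega))
  rw [Finset.sum_range_one, euler_quot_twist k hI hL] at h1
  rw [h1]
  ring

/-- A module with more sections than the length of `Z` has a nonzero section vanishing on `Z`. -/
theorem nontrivial_of_lt {I : X.IdealSheafData} (hI : Z0 I) {L : X.Modules} (hL : PicF.IsInvertible L)
    (h : len k I < Module.finrank k (Coh.HH X L 0)) :
    Nontrivial (Coh.HH X (CohB1.tensorMod (ClSub.idealMod I) L) 0) := by
  by_contra hcon
  rw [not_nontrivial_iff_subsingleton] at hcon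
  have hS := CurvesB.TwistIdeal.seq_shortExact hL I
  have h1 : Subsingleton (Coh.HH X (CurvesB.TwistIdeal.seq L I).X₁ 0) :=
    hh_congr (CurvesB.TwistIdeal.iso₁ L I).symm 0 hcon
  have h2 : Function.Injective (VarietyA.EulerLES.mapA k (CurvesB.TwistIdeal.seq L I).g 0) := by
    rw [injective_iff_map_eq_zero]
    intro x hx
    obtain ⟨y, rfl⟩ := (VarietyA.EulerLES.exactA₂ k _ hS 0 x).1 hx
    rw [@Subsingleton.elim _ h1 y 0, map_zero]
  have : Module.Finite k (Coh.HH X (CurvesB.TwistIdeal.seq L I).X₃ 0) :=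
    finite_HH k (CurvesB.TwistIdeal.isCoh_X₃ hL I) 0
  have h3 := LinearMap.finrank_le_finrank_of_injective h2
  rw [finrank_congr k (CurvesB.TwistIdeal.iso₂ L I), finrank_congr k (CurvesB.TwistIdeal.iso₃ L I)] at h3
  have h4 := finrank_quot k hI hL
  have h5 : (Module.finrank k (Coh.HH X L 0) : ℤ) ≤ len k I := by
    rw [← h4]; exact_mod_cast h3
  linarith

end sec

variable {k : Type u} [Field k] [IsAlgClosed k] {X : Scheme.{u}} [X.Over (Spec (CommRingCat.of k))]
  {W D : X.Modules} (P : DP k X W D)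
  [IsIntegral X] [IsProper (X ↘ Spec (CommRingCat.of k))] [Smooth (X ↘ Spec (CommRingCat.of k))]

include P in
theorem exists_div (hK : Kod k X) {I : X.IdealSheafData} (hI : Z0 I)
    (hlen : len k I ≤ dot k X (mk W P.hWi) (mk W P.hWi)) :
    ∃ (C : X.IdealSheafData) (hC : BlowUp.IsEffCartierIdeal C), C ≤ I ∧ ic C hC = mk W P.hWi := by
  have h1 := (P.h0_anticanonical hK).1
  rw [← P.mk_D, h_mk] at h1
  obtain ⟨C, hC, hCI, hinv⟩ := RDiv.exists_divisor_le P.hamp.1 I (nontrivial_of_lt k hI P.hamp.1 (by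
    rw [h1]; linarith))
  refine ⟨C, hC, hCI, ?_⟩
  rw [← inv_inj, ← mk_eq_ic_inv hinv P.hamp.1 hC, P.mk_D]

include P in
/-- The numerical condition. -/
theorem three_le (hd : 3 ≤ dot k X (mk W P.hWi) (mk W P.hWi)) {C : X.IdealSheafData}
    (hC : BlowUp.IsEffCartierIdeal C) (hCw : ic C hC = mk W P.hWi) {B : X.IdealSheafData}
    (hB : BlowUp.IsEffCartierIdeal B) (hle : C ≤ B) (hBt : B ≠ ⊤) :
    3 ≤ degOn k X B (mk D P.hamp.1 * (mk W P.hWi)⁻¹ * ic B hB) := by
  have : IsNoetherian X := CurvesB.CurveRR.isNoetherian_of_proper k X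
  have hrel := P.relDim
  have hd2 : topologicalKrullDim X ≤ (2 : ℕ) := P.hdim.le
  obtain ⟨B', hB', hmul⟩ := Divis.ColonIdeal.exists_mul_eq hB hC hle
  set w := mk W P.hWi with hw
  set b := ic B hB with hb
  have h1 : degOn k X B (mk D P.hamp.1 * w⁻¹ * b) = 2 * dot k X b w - dot k X b b := by
    rw [degOn_eq_neg_dot k X hB, ← hb, P.mk_D, ← hw, dot_mul_right k X hd2, dot_mul_right k X hd2,
      dot_inv_right k X hd2]
    ring
  rw [h1]
  have hbb : b * ic B' hB' = w := by
    rw [hb, ← ic_mul hB hB', ← hCw]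
    exact ic_congr _ _ hmul
  by_cases hB't : B' = ⊤
  · subst hB't
    rw [ic_congr hB' isEff_top rfl, ic_top, mul_one] at hbb
    rw [hbb]
    linarith
  · -- positivity of `-K . B`
    have h2 : 0 < dot k X b w := by
      have h3 := degOn_pos_of_ample_eff k P.hdim P.hamp.1 P.hamp hB hBt
      rw [degOn_eq_neg_dot k X hB, P.mk_D, dot_inv_right k X hd2] at h3
      rw [hb, hw]
      linarith
    -- numerical connectedness
    have h3 : 0 < dot k X b (ic B' hB') := by
      have hCB : mk (ClSub.idealMod (B * B')) (isInvertible_idealMod (isEff_mul hB hB')) = w := by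
        rw [← hCw]; exact ic_congr (isEff_mul hB hB') hC hmul
      have hip : ∀ {A A' : X.IdealSheafData} (hA : BlowUp.IsEffCartierIdeal A) (hA' : BlowUp.IsEffCartierIdeal A'),
          K458.Ip.ip k X (ClSub.idealMod A) (ClSub.idealMod A') = dot k X (ic A hA) (ic A' hA') := fun hA hA' =>
        intNum_eq_dot k X hd2 (isInvertible_idealMod hA) (isInvertible_idealMod hA')
      have h4 := K458.Hodge.numConn k P.hdim hB hB' hBt hB't (by
        rw [hip (isEff_mul hB hB') (isEff_mul hB hB')]
        change 0 < dot k X (mk (ClSub.idealMod (B * B')) _) (mk (ClSub.idealMod (B * B')) _)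
        rw [hCB]
        linarith) (by
        intro G hG
        have h5 := degOn_pos_of_ample k (C := G) ⟨hG.int, hG.dim⟩ P.hamp.1 P.hamp
        rw [degOn_eq_neg_dot k X hG.eff, P.mk_D, dot_inv_right k X hd2] at h5
        have h6 : ic (B * B') (isEff_mul hB hB') = w := hCB
        rw [hip (isEff_mul hB hB') hG.eff, h6, dot_comm]
        linarith)
      rwa [hip hB hB'] at h4
    have h4 : dot k X b w = dot k X b b + dot k X b (ic B' hB') := by
      rw [← hbb, dot_mul_right k X hd2]
    -- parity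
    have h5 := rr k P.hW P.hWi hd2 b
    rw [← hw] at h5
    have h6 : 2 ≤ dot k X b (ic B' hB') := by omega
    omega

include P in
/-- **Vanishing.** -/
theorem vanish (hK : Kod k X) (hd : 3 ≤ dot k X (mk W P.hWi) (mk W P.hWi)) {I : X.IdealSheafData} (hI : Z0 I)
    (hlen : len k I ≤ 2) : Subsingleton (Coh.HH X (CohB1.tensorMod (ClSub.idealMod I) D) 1) := by
  obtain ⟨C, hC, hCI, hCw⟩ := exists_div P hK hI (by linarith)
  refine main k P.hdim P.hW P.hWi I hI hC hCI P.hamp.1 ?_ ?_
  · have h1 := P.h1_one hK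
    have h2 : (1 : Pic X) = mk (CohB1.tensorMod (ClSub.idealMod C) D)
        (Fdesc.LocGen.isInvertible_tensorMod (isInvertible_idealMod hC) P.hamp.1) := by
      rw [← mk_mul_mk (isInvertible_idealMod hC) P.hamp.1]
      change 1 = ic C hC * mk D P.hamp.1
      rw [hCw, P.mk_D, mul_inv_cancel]
    rw [h2] at h1
    exact subsingleton_of_h_eq_zero k X _ h1
  · intro B hB hle hBt
    have h1 := three_le P hd hC hCw hB hle hBt
    have h2 := len_nonneg k (hI.mono (le_col I hB))
    linarith

end K465.RDel
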