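import Groth.Agent.Surf.K465.Nef

/-!
# Ample real classes on a surface, relative to the Nakai-Moishezon criterion (K465)

`Nak k X`: an invertible module of positive square and positive degree on every integral curve is ample.
* `add_mem`: nef + ample is ample.
* `mem_iff`: the ample cone is the set of classes of positive square and positive on all curves.
* `closure_eq`, `closure_inter_eq`.
-/

set_option autoImplicit false
universe u
open CategoryTheory CategoryTheory.Limits AlgebraicGeometry Opposite TopologicalSpace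

namespace K465.AmpReal

open Groth.Agent.Grpsch.PicGrp Groth.Agent K465.ClP K465.LinHodge K465.Eff K465.Cone K465.AmpCone K465.Nef
open K464.Base K464.Curves

/-- The Nakai-Moishezon criterion for the surface `X`. -/
def Nak (k : Type u) [Field k] (X : Scheme.{u}) [X.Over (Spec (CommRingCat.of k))] : Prop :=
  ∀ (L : X.Modules) (hL : PicF.IsInvertible L), 0 < dot k X (mk L hL) (mk L hL) →
    (∀ C : X.IdealSheafData, IsCurve C → 0 < degOn k X C (mk L hL)) → CohB1.IsAmple L

section

variable {k : Type u} [Field k] {X : Scheme.{u}} [X.Over (Spec (CommRingCat.of k))] [PicGrp.Law X]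
  [IsProper (X ↘ Spec (CommRingCat.of k))]
  {B : NumR.N1R k X →ₗ[ℝ] NumR.N1R k X →ₗ[ℝ] ℝ}

theorem hB_dot (hdim : topologicalKrullDim X = 2) (hB : NumR.IsIntForm₂ k X B) (a b : Pic X) :
    B (clP k X (Additive.ofMul a)) (clP k X (Additive.ofMul b)) = (dot k X a b : ℝ) := by
  have hd : topologicalKrullDim X ≤ (2 : ℕ) := by rw [hdim]; rfl
  obtain ⟨L, hL, rfl⟩ := exists_mk a
  obtain ⟨M, hM, rfl⟩ := exists_mk b
  rw [clP_mk, clP_mk, hB, intNum_eq_dot k X hd]

/-- The form against a curve class is the degree on the curve. -/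
theorem hB_curve (hdim : topologicalKrullDim X = 2) (hB : NumR.IsIntForm₂ k X B) (a : Pic X)
    {C : X.IdealSheafData} (hC : BlowUp.IsEffCartierIdeal C) (hI : PicF.IsInvertible (ClSub.idealMod C)) :
    B (clP k X (Additive.ofMul a)) (NumR.curveCl k X C hI) = (degOn k X C a : ℝ) := by
  rw [curveCl_eq hC hI, map_neg, hB_dot hdim hB, degOn_eq_neg_dot k X hC, dot_comm]
  push_cast
  ring

/-- Ample classes pair positively with curves. -/
theorem ample_pos_curve [Smooth (X ↘ Spec (CommRingCat.of k))]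
    [IsIntegral X] (hdim : topologicalKrullDim X = 2) (hB : NumR.IsIntForm₂ k X B) {v : NumR.N1R k X}
    (hv : v ∈ Cur k X) {y : NumR.N1R k X} (hy : y ∈ NumR.ampleCone k X) : 0 < B y v := by
  obtain ⟨I, h1, h2, hI, rfl⟩ := hv
  have hE : BlowUp.IsEffCartierIdeal I := (Groth.Agent.S8914.result I).1 hI
  have hC : IsCurve I := ⟨h1, h2⟩
  let P : ConvexCone ℝ (NumR.N1R k X) :=
    { carrier := {y | 0 < B y (NumR.curveCl k X I hI)}
      smul_mem' := fun c hc y hy => by
        simp only [Set.mem_setOf_eq, map_smul, LinearMap.smul_apply, smul_eq_mul] at hy ⊢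
        positivity
      add_mem' := fun y hy z hz => by
        simp only [Set.mem_setOf_eq, map_add, LinearMap.add_apply] at hy hz ⊢
        positivity }
  have : NumR.ampleCone k X ≤ P := by
    rw [ampleCone_eq]
    refine ConvexCone.hull_min ?_
    rintro _ ⟨L, hL, hA, rfl⟩
    change 0 < B (NumR.clR k X L hL) (NumR.curveCl k X I hI)
    rw [← clP_mk, hB_curve hdim hB _ hE hI]
    exact_mod_cast degOn_pos_of_ample k hC hL hA
  exact this hy

variable [IsAlgClosed k] [Smooth (X ↘ Spec (CommRingCat.of k))] [IsIntegral X]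

/-- A rational class of positive square, positive on curves, is ample. -/
theorem mem_of_rat (hN : Nak k X) (hdim : topologicalKrullDim X = 2) (hB : NumR.IsIntForm₂ k X B)
    {q : NumR.N1R k X} (hq : q ∈ Qs (S k X)) (h1 : 0 < B q q) (h2 : ∀ v ∈ Cur k X, 0 < B q v) :
    q ∈ NumR.ampleCone k X := by
  obtain ⟨n, hn, hnq⟩ := hq
  obtain ⟨L, hL, hLq⟩ := mem_S_iff.mp hnq
  have hn0 : (0 : ℝ) < n := by exact_mod_cast hn
  have e1 : (n • q : NumR.N1R k X) = (n : ℝ) • q := (Nat.cast_smul_eq_nsmul ℝ n q).symm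
  rw [e1, ← clP_mk] at hLq
  have hA : CohB1.IsAmple L := by
    refine hN L hL ?_ ?_
    · have h3 : 0 < B ((n : ℝ) • q) ((n : ℝ) • q) := by
        simp only [map_smul, LinearMap.smul_apply, smul_eq_mul]
        positivity
      rw [hLq, hB_dot hdim hB] at h3
      exact_mod_cast h3
    · intro C hC
      have hCe : BlowUp.IsEffCartierIdeal C := isEff_of_smooth k hdim hC
      have hI := Groth.Agent.Dix.IdealModCartier.isInvertible_idealMod hCe
      have h3 : 0 < B ((n : ℝ) • q) (NumR.curveCl k X C hI) := by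
        rw [map_smul, LinearMap.smul_apply, smul_eq_mul]
        exact mul_pos hn0 (h2 _ ⟨C, hC.integral, hC.dim, hI, rfl⟩)
      rw [hLq, hB_curve hdim hB _ hCe hI] at h3
      exact_mod_cast h3
  have h4 : (n : ℝ) • q ∈ NumR.ampleCone k X := by
    rw [hLq, clP_mk]
    exact mem_of_ample hA
  have h5 := (NumR.ampleCone k X).smul_mem (inv_pos.mpr hn0) h4
  rwa [smul_smul, inv_mul_cancel₀ hn0.ne', one_smul] at h5

variable [Module.Finite ℝ (NumR.N1R k X)]

/-- **Nef plus ample is ample.** -/
theorem add_mem (hN : Nak k X) (hdim : topologicalKrullDim X = 2) (hB : NumR.IsIntForm₂ k X B)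
    {x y : NumR.N1R k X} (hx : x ∈ NumR.nefCone₂ k X B) (hy : y ∈ NumR.ampleCone k X) :
    x + y ∈ NumR.ampleCone k X := by
  have hcp : CompactSpace X := QuasiCompact.compactSpace_of_compactSpace (X ↘ Spec (CommRingCat.of k))
  have hsep : X.IsSeparated := isSeparated_of_over k X (X ↘ Spec (CommRingCat.of k))
  obtain ⟨H, hH⟩ : ∃ H : X.Modules, CohB1.IsAmple H := by
    by_contra hne
    push Not at hne
    have : ampSet k X = ∅ := by
      ext v
      simp only [Set.mem_empty_iff_false, iff_false]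
      rintro ⟨L, hL, hA, -⟩
      exact hne L hA
    rw [ampleCone_eq, this] at hy
    have : ConvexCone.hull ℝ (∅ : Set (NumR.N1R k X)) ≤ ⊥ := ConvexCone.hull_min (by simp)
    exact this hy
  have hl := K465.NumHodge.lor hdim hB hH
  have hU : {z : NumR.N1R k X | z - x ∈ NumR.ampleCone k X} ∈ nhds (x + y) := by
    have hc : Continuous fun z : NumR.N1R k X => z - x := by
      have : IsTopologicalAddGroup (NumR.N1R k X) := IsModuleTopology.topologicalAddGroup ℝ _
      exact continuous_id.sub continuous_const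
    exact (isOpen_ampleCone.preimage hc).mem_nhds (by
      change x + y - x ∈ NumR.ampleCone k X
      rwa [add_sub_cancel_left])
  refine convexHull_min ?_ (NumR.ampleCone k X).convex (mem_convexHull_rat (S k X) span_S hU)
  rintro q ⟨hq1, hq⟩
  obtain ⟨u, rfl⟩ : ∃ u, q = x + u := ⟨q - x, by rw [add_sub_cancel]⟩
  have hu : u ∈ NumR.ampleCone k X := by
    change x + u - x ∈ NumR.ampleCone k X at hq1
    rwa [add_sub_cancel_left] at hq1
  have hu' := ampleCone_subset hdim hB hH hu
  refine mem_of_rat hN hdim hB hq ?_ ?_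
  · have h1 := nef_sq hdim hB hH hx
    have h2 := nef_dual hdim hB hH hx hu'.1 hu'.2
    have h3 := hu'.1
    simp only [map_add, LinearMap.add_apply]
    rw [hl.symm u x]
    linarith
  · intro v hv
    rw [map_add, LinearMap.add_apply]
    have h1 := (mem_nefCone₂_iff B x).1 hx v hv
    have h2 := ample_pos_curve hdim hB hv hu
    linarith

/-- Finite nonnegative combinations of curve classes. -/
def FinC (k : Type u) [Field k] (X : Scheme.{u}) [X.Over (Spec (CommRingCat.of k))] [PicGrp.Law X] :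
    Set (NumR.N1R k X) :=
  {v | ∃ (T : Finset (NumR.N1R k X)) (a : NumR.N1R k X → ℝ), (∀ w, 0 ≤ a w) ∧ (∀ w ∈ T, w ∈ Cur k X) ∧
      v = ∑ w ∈ T, a w • w}

omit [IsProper (X ↘ Spec (CommRingCat.of k))] [IsAlgClosed k] [Smooth (X ↘ Spec (CommRingCat.of k))] [IsIntegral X]
  [Module.Finite ℝ (NumR.N1R k X)] in
theorem FinC.add {v w : NumR.N1R k X} (hv : v ∈ FinC k X) (hw : w ∈ FinC k X) : v + w ∈ FinC k X := by
  classical
  obtain ⟨T, a, ha, hT, rfl⟩ := hv
  obtain ⟨T', a', ha', hT', rfl⟩ := hw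
  refine ⟨T ∪ T', fun w => (if w ∈ T then a w else 0) + (if w ∈ T' then a' w else 0), ?_, ?_, ?_⟩
  · intro w
    have := ha w
    have := ha' w
    positivity
  · intro w hw
    rcases Finset.mem_union.1 hw with h | h
    · exact hT w h
    · exact hT' w h
  · simp only [add_smul, Finset.sum_add_distrib, ite_smul, zero_smul]
    congr 1
    · rw [← Finset.sum_filter]
      congr 1
      ext w; simp
    · rw [← Finset.sum_filter]
      congr 1
      ext w; simp

omit [IsProper (X ↘ Spec (CommRingCat.of k))] [IsAlgClosed k] [Smooth (X ↘ Spec (CommRingCat.of k))] [IsIntegral X]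
  [Module.Finite ℝ (NumR.N1R k X)] in
theorem FinC.smul {v : NumR.N1R k X} (hv : v ∈ FinC k X) {c : ℝ} (hc : 0 ≤ c) : c • v ∈ FinC k X := by
  obtain ⟨T, a, ha, hT, rfl⟩ := hv
  refine ⟨T, fun w => c * a w, fun w => mul_nonneg hc (ha w), hT, ?_⟩
  rw [Finset.smul_sum]
  exact Finset.sum_congr rfl fun w _ => by rw [smul_smul]

omit [IsProper (X ↘ Spec (CommRingCat.of k))] [IsAlgClosed k] [Smooth (X ↘ Spec (CommRingCat.of k))] [IsIntegral X]
  [Module.Finite ℝ (NumR.N1R k X)] in
theorem FinC.of_closure {v : NumR.N1R k X} (hv : v ∈ AddSubmonoid.closure (Cur k X)) : v ∈ FinC k X := by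
  classical
  induction hv using AddSubmonoid.closure_induction with
  | mem v hv => exact ⟨{v}, fun _ => 1, fun _ => zero_le_one, by simpa using hv, by simp⟩
  | zero => exact ⟨∅, fun _ => 0, fun _ => le_rfl, by simp, by simp⟩
  | add v w _ _ h1 h2 => exact FinC.add h1 h2

/-- Classes in the positive cone are finite nonnegative combinations of curve classes. -/
theorem mem_fin_of_pos (hdim : topologicalKrullDim X = 2)
    (hB : NumR.IsIntForm₂ k X B) {H : X.Modules} (hH : CohB1.IsAmple H) {y : NumR.N1R k X}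
    (h1 : 0 < B y y) (h2 : 0 < B y (NumR.clR k X H hH.1)) : y ∈ FinC k X := by
  refine convexHull_min ?_ ?_ (mem_hull hdim hB hH h1 h2)
  · rintro v ⟨n, hn, hv⟩
    have hn0 : (0 : ℝ) < n := by exact_mod_cast hn
    have h3 := FinC.smul (FinC.of_closure hv) (inv_pos.mpr hn0).le
    rwa [← Nat.cast_smul_eq_nsmul ℝ n v, smul_smul, inv_mul_cancel₀ hn0.ne', one_smul] at h3
  · intro v hv w hw a b ha hb _
    exact FinC.add (FinC.smul hv ha) (FinC.smul hw hb)

omit [IsAlgClosed k] [Module.Finite ℝ (NumR.N1R k X)] in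
/-- Distinct curve classes pair nonnegatively. -/
theorem cur_nonneg (hdim : topologicalKrullDim X = 2) (hB : NumR.IsIntForm₂ k X B) {v w : NumR.N1R k X}
    (hv : v ∈ Cur k X) (hw : w ∈ Cur k X) (hne : v ≠ w) : 0 ≤ B v w := by
  obtain ⟨I, h1, h2, hI, rfl⟩ := hv
  obtain ⟨J, h3, h4, hJ, rfl⟩ := hw
  have hEI : BlowUp.IsEffCartierIdeal I := (Groth.Agent.S8914.result I).1 hI
  have hEJ : BlowUp.IsEffCartierIdeal J := (Groth.Agent.S8914.result J).1 hJ
  have hCI : IsCurve I := ⟨h1, h2⟩
  have hCJ : IsCurve J := ⟨h3, h4⟩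
  have hIJ : I ≠ J := by rintro rfl; exact hne rfl
  rw [curveCl_eq hEI hI, curveCl_eq hEJ hJ, map_neg, map_neg, LinearMap.neg_apply, neg_neg, hB_dot hdim hB]
  exact_mod_cast dot_ic_ic_nonneg k hCI hEI hEJ (gp_notMem hCI hCJ hIJ)

/-- **Characterization of the ample cone.** -/
theorem mem_of_pos (hN : Nak k X) (hdim : topologicalKrullDim X = 2) (hB : NumR.IsIntForm₂ k X B)
    {H : X.Modules} (hH : CohB1.IsAmple H) {x : NumR.N1R k X} (h1 : 0 < B x x) (h2 : ∀ v ∈ Cur k X, 0 < B x v) :
    x ∈ NumR.ampleCone k X := by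
  have hl := K465.NumHodge.lor hdim hB hH
  set h := NumR.clR k X H hH.1 with hh
  have hnef : x ∈ NumR.nefCone₂ k X B := (mem_nefCone₂_iff B x).2 fun v hv => (h2 v hv).le
  have hxh : 0 < B x h := by
    have h3 := nef_dual hdim hB hH hnef hl.pos hl.pos
    rcases h3.lt_or_eq with h4 | h4
    · exact h4
    · have := hl.neg' h4.symm
      linarith
  -- `x - ε h` is in the positive cone
  have hcont : Continuous fun t : ℝ => x - t • h := by
    have : IsTopologicalAddGroup (NumR.N1R k X) := IsModuleTopology.topologicalAddGroup ℝ _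
    exact continuous_const.sub (continuous_id.smul (continuous_const (y := h)))
  obtain ⟨ε, hε, hε1⟩ : ∃ ε : ℝ, 0 < ε ∧ (0 < B (x - ε • h) (x - ε • h) ∧ 0 < B (x - ε • h) h) := by
    have hopen := (isOpen_pos B h).preimage hcont
    have h0 : (0 : ℝ) ∈ (fun t : ℝ => x - t • h) ⁻¹' {x : NumR.N1R k X | 0 < B x x ∧ 0 < B x h} := by
      change 0 < B (x - (0 : ℝ) • h) (x - (0 : ℝ) • h) ∧ 0 < B (x - (0 : ℝ) • h) h
      rw [zero_smul, sub_zero]
      exact ⟨h1, hxh⟩
    obtain ⟨r, hr, hb⟩ := Metric.isOpen_iff.1 hopen 0 h0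
    refine ⟨r / 2, by positivity, hb ?_⟩
    rw [Metric.mem_ball, dist_zero_right, Real.norm_of_nonneg (by positivity)]
    linarith
  obtain ⟨T, a, ha, hT, hsum⟩ := mem_fin_of_pos hdim hB hH hε1.1 hε1.2
  -- a smaller `δ`
  obtain ⟨δ, hδ, hδε, hδT⟩ : ∃ δ : ℝ, 0 < δ ∧ δ ≤ ε ∧ ∀ v ∈ T, 0 ≤ B (x - δ • h) v := by
    have key : ∀ T' : Finset (NumR.N1R k X), (∀ w ∈ T', w ∈ Cur k X) →
        ∃ δ : ℝ, 0 < δ ∧ δ ≤ ε ∧ ∀ v ∈ T', 0 ≤ B (x - δ • h) v := by
      classical
      intro T' hT'
      induction T' using Finset.induction_on with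
      | empty => exact ⟨ε, hε, le_rfl, by simp⟩
      | insert v T' _ ih =>
        obtain ⟨δ, hδ, h3, h4⟩ := ih fun w hw => hT' w (Finset.mem_insert_of_mem hw)
        have hv := hT' v (Finset.mem_insert_self v T')
        have hxv := h2 v hv
        have hhv : 0 < B h v := ample_pos_curve hdim hB hv (mem_of_ample hH)
        refine ⟨min δ (B x v / B h v), lt_min hδ (div_pos hxv hhv), (min_le_left _ _).trans h3, ?_⟩
        intro w hw
        rcases Finset.mem_insert.1 hw with rfl | hw
        · rw [map_sub, map_smul, LinearMap.sub_apply, LinearMap.smul_apply, smul_eq_mul, sub_nonneg]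
          calc min δ (B x w / B h w) * B h w ≤ B x w / B h w * B h w :=
                mul_le_mul_of_nonneg_right (min_le_right _ _) hhv.le
            _ = B x w := div_mul_cancel₀ _ hhv.ne'
        · have h5 := h4 w hw
          have hhw : 0 < B h w := ample_pos_curve hdim hB (hT' w (Finset.mem_insert_of_mem hw)) (mem_of_ample hH)
          rw [map_sub, map_smul, LinearMap.sub_apply, LinearMap.smul_apply, smul_eq_mul, sub_nonneg] at h5 ⊢
          exact (mul_le_mul_of_nonneg_right (min_le_left _ _) hhw.le).trans h5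
    exact key T hT
  have hnef' : x - δ • h ∈ NumR.nefCone₂ k X B := by
    rw [mem_nefCone₂_iff]
    intro v hv
    by_cases hvT : v ∈ T
    · exact hδT v hvT
    · have h3 : 0 ≤ B (x - ε • h) v := by
        rw [hsum, map_sum, LinearMap.sum_apply]
        refine Finset.sum_nonneg fun w hw => ?_
        rw [map_smul, LinearMap.smul_apply, smul_eq_mul]
        exact mul_nonneg (ha w) (cur_nonneg hdim hB (hT w hw) hv (by rintro rfl; exact hvT hw))
      have hhv : 0 < B h v := ample_pos_curve hdim hB hv (mem_of_ample hH)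
      rw [map_sub, map_smul, LinearMap.sub_apply, LinearMap.smul_apply, smul_eq_mul, sub_nonneg] at h3 ⊢
      exact (mul_le_mul_of_nonneg_right hδε hhv.le).trans h3
  have h3 := add_mem hN hdim hB hnef' ((NumR.ampleCone k X).smul_mem hδ (mem_of_ample hH))
  rwa [sub_add_cancel] at h3

omit [Module.Finite ℝ (NumR.N1R k X)] [Smooth (X ↘ Spec (CommRingCat.of k))] in
theorem sq_pos_of_mem (hdim : topologicalKrullDim X = 2) (hB : NumR.IsIntForm₂ k X B)
    {H : X.Modules} (hH : CohB1.IsAmple H) {x : NumR.N1R k X} (hx : x ∈ NumR.ampleCone k X) : 0 < B x x :=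
  (ampleCone_subset hdim hB hH hx).1

omit [IsAlgClosed k] [Module.Finite ℝ (NumR.N1R k X)] in
theorem nef_of_mem (hdim : topologicalKrullDim X = 2) (hB : NumR.IsIntForm₂ k X B)
    {x : NumR.N1R k X} (hx : x ∈ NumR.ampleCone k X) : x ∈ NumR.nefCone₂ k X B :=
  (mem_nefCone₂_iff B x).2 fun _ hv => (ample_pos_curve hdim hB hv hx).le

theorem isClosed_nef : IsClosed {x : NumR.N1R k X | 0 ≤ B x x ∧ x ∈ NumR.nefCone₂ k X B} := by
  have : {x : NumR.N1R k X | 0 ≤ B x x ∧ x ∈ NumR.nefCone₂ k X B} =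
      {x : NumR.N1R k X | 0 ≤ B x x} ∩ ⋂ v ∈ Cur k X, {x : NumR.N1R k X | 0 ≤ B x v} := by
    ext x
    simp only [Set.mem_setOf_eq, Set.mem_inter_iff, Set.mem_iInter, mem_nefCone₂_iff]
  rw [this]
  exact (isClosed_le continuous_const (continuous_quad B)).inter
    (isClosed_biInter fun v _ => isClosed_le continuous_const (continuous_left B v))

/-- The closure of the ample cone. -/
theorem closure_eq (hN : Nak k X) (hdim : topologicalKrullDim X = 2) (hB : NumR.IsIntForm₂ k X B)
    {H : X.Modules} (hH : CohB1.IsAmple H) :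
    closure (NumR.ampleCone k X : Set (NumR.N1R k X)) = {x | 0 ≤ B x x ∧ x ∈ NumR.nefCone₂ k X B} := by
  apply Set.Subset.antisymm
  · refine closure_minimal ?_ isClosed_nef
    intro x hx
    exact ⟨(sq_pos_of_mem hdim hB hH hx).le, nef_of_mem hdim hB hx⟩
  · rintro x ⟨-, hx⟩
    set h := NumR.clR k X H hH.1 with hh
    have hcont : Continuous fun t : ℝ => x + t • h := continuous_const.add (continuous_id.smul (continuous_const (y := h)))
    have h1 : Filter.Tendsto (fun t : ℝ => x + t • h) (nhdsWithin 0 (Set.Ioi 0)) (nhds x) := by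
      have := (hcont.tendsto 0).mono_left (nhdsWithin_le_nhds (s := Set.Ioi (0 : ℝ)))
      simpa using this
    refine mem_closure_of_tendsto h1 ?_
    filter_upwards [self_mem_nhdsWithin] with t ht
    exact add_mem hN hdim hB hx ((NumR.ampleCone k X).smul_mem ht (mem_of_ample hH))

/-- The closure of the ample cone inside the positive cone. -/
theorem closure_inter_eq (hN : Nak k X) (hdim : topologicalKrullDim X = 2) (hB : NumR.IsIntForm₂ k X B)
    {H : X.Modules} (hH : CohB1.IsAmple H) :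
    closure (NumR.ampleCone k X : Set (NumR.N1R k X)) ∩ NumR.posCone k X B H hH.1 =
      {x | 0 < B x x ∧ x ∈ NumR.nefCone₂ k X B} := by
  have hl := K465.NumHodge.lor hdim hB hH
  rw [closure_eq hN hdim hB hH]
  ext x
  constructor
  · rintro ⟨⟨-, hx⟩, h1, -⟩
    exact ⟨h1, hx⟩
  · rintro ⟨h1, hx⟩
    refine ⟨⟨h1.le, hx⟩, h1, ?_⟩
    have h3 := nef_dual hdim hB hH hx hl.pos hl.pos
    rcases h3.lt_or_eq with h4 | h4
    · exact h4
    · have := hl.neg' h4.symm
      linarith

end

end K465.AmpReal
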