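import Groth.Agent.Pic13.H970.IntForm
import Groth.Agent.Fdesc.StructMod

/-!
# The intersection form on the Picard group of a proper surface

`ip k X hd : Additive (Pic X) →+ Additive (Pic X) →+ ℤ` for `X` proper over `k` with `dim X ≤ 2`;
`ip_mk`: its value on two invertible modules is `FGA.intNum k X 2 ![L, M] O`, also `= FGA.intNum k X 2 ![L', M'] O` for
inverse modules (`ip_mk_inv`).
-/

set_option autoImplicit false
universe u
open CategoryTheory CategoryTheory.Limits AlgebraicGeometry

namespace K465.Ip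

open Groth.Agent.Grpsch.PicGrp Groth.Agent.Pic13.H970.IntForm

variable (k : Type u) [Field k] (X : Scheme.{u}) [X.Over (Spec (CommRingCat.of k))]
  [IsProper (X ↘ Spec (CommRingCat.of k))] (hd : topologicalKrullDim X ≤ (2 : ℕ))

theorem isCoh_unit : Coh.IsCoh (Coh.structureModule X) := Groth.Agent.Fdesc.StructMod.isCoh_structureModule X

theorem dim_le {X : Scheme.{u}} (hd : topologicalKrullDim X ≤ (2 : ℕ)) (F : X.Modules) :
    topologicalKrullDim (CohB1.support F) ≤ ((0 + 2 : ℕ) : WithBot ℕ∞) :=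
  (topologicalKrullDim_subspace_le X _).trans (hd.trans (by norm_num))

/-- The intersection form. -/
noncomputable def ip : Additive (Pic X) →+ Additive (Pic X) →+ ℤ :=
  form k X 2 hd (Coh.structureModule X) (isCoh_unit X) (r := 0) (dim_le hd _) (fun i => i.elim0)

variable {X}

theorem ip_symm (a b : Additive (Pic X)) : ip k X hd a b = ip k X hd b a := form_symm _ _ _ _ _ _ _ _ _ _

theorem ip_eq (a b : Pic X) : ip k X hd (Additive.ofMul a) (Additive.ofMul b) =
    I k X 2 (Coh.structureModule X) (Fin.cons a (Fin.cons b (fun i : Fin 0 => i.elim0) : Fin 1 → Pic X) : Fin 2 → Pic X) := by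
  unfold ip
  rw [form_apply]
  exact I_cons_inv_inv k X 2 hd _ (isCoh_unit X) a b _ (dim_le hd _)

theorem ip_mk {L M : X.Modules} (hL : PicF.IsInvertible L) (hM : PicF.IsInvertible M) :
    ip k X hd (Additive.ofMul (mk L hL)) (Additive.ofMul (mk M hM)) =
      FGA.intNum k X 2 ![L, M] (Coh.structureModule X) := by
  have h : ∀ i, PicF.IsInvertible ((![L, M] : Fin 2 → X.Modules) i) := by
    intro i; fin_cases i <;> assumption
  rw [ip_eq, intNum_eq k X 2 _ ![L, M] h]
  congr 1
  funext i
  fin_cases i <;> rfl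

theorem ip_mk_inv {L M L' M' : X.Modules} (hL : PicF.IsInvertible L) (hM : PicF.IsInvertible M)
    (hLL' : Nonempty (CohB1.tensorMod L L' ≅ Coh.structureModule X))
    (hMM' : Nonempty (CohB1.tensorMod M M' ≅ Coh.structureModule X))
    (hL' : PicF.IsInvertible L') (hM' : PicF.IsInvertible M') :
    ip k X hd (Additive.ofMul (mk L hL)) (Additive.ofMul (mk M hM)) =
      FGA.intNum k X 2 ![L', M'] (Coh.structureModule X) := by
  have h1 : mk L' hL' = (mk L hL)⁻¹ :=
    (inv_eq_of_mul_eq_one_right (by rw [mk_mul_mk]; exact (mk_eq_one_iff _).mpr hLL')).symm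
  have h2 : mk M' hM' = (mk M hM)⁻¹ :=
    (inv_eq_of_mul_eq_one_right (by rw [mk_mul_mk]; exact (mk_eq_one_iff _).mpr hMM')).symm
  rw [← ip_mk k hd hL' hM', h1, h2, ofMul_inv, ofMul_inv, map_neg, map_neg, AddMonoidHom.neg_apply, neg_neg]

end K465.Ip
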