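import Mathlib.Topology.Algebra.Module.ModuleTopology
import Mathlib.Topology.Algebra.Module.FiniteDimension
import Mathlib.Topology.Instances.Real.Lemmas
import Mathlib.Analysis.Normed.Module.FiniteDimension
import Mathlib.LinearAlgebra.Dimension.Finite

/-!
# Intervals in a closed pointed cone are compact (K465)
-/

set_option autoImplicit false

open Topology Metric

namespace K465.Pointed

/-- In a proper normed space. -/
theorem isCompact_normed {F : Type*} [NormedAddCommGroup F] [NormedSpace ℝ F] [ProperSpace F] (K : Set F)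
    (hK : IsClosed K) (hsmul : ∀ c : ℝ, 0 < c → ∀ x ∈ K, c • x ∈ K) (hpt : ∀ x, x ∈ K → -x ∈ K → x = 0) (δ : F) :
    IsCompact {x | x ∈ K ∧ δ - x ∈ K} := by
  have hclosed : IsClosed {x | x ∈ K ∧ δ - x ∈ K} :=
    hK.inter (hK.preimage (continuous_const.sub continuous_id))
  rcases K.eq_empty_or_nonempty with hemp | hne
  · have : {x | x ∈ K ∧ δ - x ∈ K} = ∅ := by rw [hemp]; ext x; simp
    rw [this]; exact isCompact_empty
  have hcomp : IsCompact (K ∩ sphere (0 : F) 1) := (isCompact_sphere (0 : F) 1).inter_left hK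
  -- lower bound for the distance of `-u` to `K`
  obtain ⟨ε, hε, hb⟩ : ∃ ε : ℝ, 0 < ε ∧ ∀ u ∈ K ∩ sphere (0 : F) 1, ε ≤ infDist (-u) K := by
    rcases (K ∩ sphere (0 : F) 1).eq_empty_or_nonempty with h | h
    · exact ⟨1, one_pos, by rw [h]; simp⟩
    · obtain ⟨u, hu, hmin⟩ := hcomp.exists_isMinOn h (f := fun u => infDist (-u) K)
        ((continuous_infDist_pt K).comp continuous_neg).continuousOn
      refine ⟨infDist (-u) K, ?_, fun v hv => hmin hv⟩
      rcases (infDist_nonneg (x := -u) (s := K)).eq_or_lt with h0 | h0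
      · exfalso
        have h1 : -u ∈ K := (hK.mem_iff_infDist_zero hne).2 h0.symm
        have h2 := hpt u hu.1 h1
        have h3 := hu.2
        rw [h2] at h3
        simp at h3
      · exact h0
  refine isCompact_of_isClosed_isBounded hclosed ?_
  refine (isBounded_iff_forall_norm_le).2 ⟨‖δ‖ / ε, ?_⟩
  rintro x ⟨hx, hδ⟩
  rcases eq_or_ne x 0 with rfl | hx0
  · rw [norm_zero]; positivity
  have hn : 0 < ‖x‖ := norm_pos_iff.2 hx0
  have h1 : ‖x‖⁻¹ • x ∈ K ∩ sphere (0 : F) 1 := by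
    refine ⟨hsmul _ (inv_pos.2 hn) x hx, ?_⟩
    rw [mem_sphere_zero_iff_norm, norm_smul, norm_inv, norm_norm, inv_mul_cancel₀ hn.ne']
  have h2 := hb _ h1
  have h3 : ‖x‖⁻¹ • (δ - x) ∈ K := hsmul _ (inv_pos.2 hn) _ hδ
  have h4 : infDist (-(‖x‖⁻¹ • x)) K ≤ ‖x‖⁻¹ * ‖δ‖ := by
    refine (infDist_le_dist_of_mem h3).trans ?_
    rw [dist_eq_norm, smul_sub]
    have : -(‖x‖⁻¹ • x) - (‖x‖⁻¹ • δ - ‖x‖⁻¹ • x) = -(‖x‖⁻¹ • δ) := by abel
    rw [this, norm_neg, norm_smul, norm_inv, norm_norm]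
  have h5 : ε ≤ ‖x‖⁻¹ * ‖δ‖ := h2.trans h4
  rw [le_div_iff₀ hε]
  calc ‖x‖ * ε ≤ ‖x‖ * (‖x‖⁻¹ * ‖δ‖) := by gcongr
    _ = ‖δ‖ := by rw [← mul_assoc, mul_inv_cancel₀ hn.ne', one_mul]

/-- In a finite-dimensional space with the module topology. -/
theorem isCompact {E : Type*} [AddCommGroup E] [Module ℝ E] [TopologicalSpace E] [IsModuleTopology ℝ E]
    [Module.Finite ℝ E] (K : Set E)
    (hK : IsClosed K) (hsmul : ∀ c : ℝ, 0 < c → ∀ x ∈ K, c • x ∈ K) (hpt : ∀ x, x ∈ K → -x ∈ K → x = 0) (δ : E) :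
    IsCompact {x | x ∈ K ∧ δ - x ∈ K} := by
  have hadd : ContinuousAdd E := IsModuleTopology.toContinuousAdd ℝ E
  have hsm : ContinuousSMul ℝ E := IsModuleTopology.toContinuousSMul ℝ E
  let e : E ≃ₗ[ℝ] (Fin (Module.finrank ℝ E) → ℝ) := (Module.finBasis ℝ E).equivFun
  have he : Continuous e := IsModuleTopology.continuous_of_linearMap e.toLinearMap
  have he' : Continuous e.symm := IsModuleTopology.continuous_of_linearMap e.symm.toLinearMap
  have h := isCompact_normed (e.symm ⁻¹' K) (hK.preimage he')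
    (fun c hc x hx => by
      change e.symm (c • x) ∈ K
      rw [map_smul]
      exact hsmul c hc _ hx)
    (fun x hx hx' => by
      have h1 : e.symm x = 0 := hpt _ hx (by
        have h2 : e.symm (-x) ∈ K := hx'
        rwa [map_neg] at h2)
      exact e.symm.map_eq_zero_iff.1 h1) (e δ)
  have h2 := h.image he'
  convert h2 using 1
  ext x
  constructor
  · rintro ⟨h3, h4⟩
    refine ⟨e x, ⟨?_, ?_⟩, e.symm_apply_apply x⟩
    · change e.symm (e x) ∈ K
      rwa [e.symm_apply_apply]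
    · change e.symm (e δ - e x) ∈ K
      rwa [map_sub, e.symm_apply_apply, e.symm_apply_apply]
  · rintro ⟨y, ⟨h3, h4⟩, rfl⟩
    refine ⟨h3, ?_⟩
    have h5 : e.symm (e δ - y) ∈ K := h4
    rwa [map_sub, e.symm_apply_apply] at h5

end K465.Pointed
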