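import Groth.Agent.Surf.K465.ClP
import Groth.Agent.Surf.K465.RatRel
import Groth.Agent.Surf.K465.Pointed

/-!
# The pseudo-effective cone is pointed: abstract form (K465)
-/

set_option autoImplicit false
universe u
open CategoryTheory CategoryTheory.Limits AlgebraicGeometry Opposite TopologicalSpace
open scoped TensorProduct

namespace K465.PsefAbs

open Groth.Agent.Grpsch.PicGrp K465.ClP

variable {k : Type u} [Field k] {X : Scheme.{u}} [X.Over (Spec (CommRingCat.of k))] [PicGrp.Law X]

/-- An additive function on Picard classes which kills the numerically trivial ones extends to a real functional. -/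
theorem exists_functional (f : Additive (Pic X) →+ ℤ)
    (hf : ∀ (L : X.Modules) (hL : PicF.IsInvertible L), Pic13.IsNumEquivZero k X L → f (Additive.ofMul (mk L hL)) = 0) :
    ∃ φ : NumR.N1R k X →ₗ[ℝ] ℝ, ∀ a : Additive (Pic X), φ (clP k X a) = (f a : ℝ) := by
  let q : Additive (Pic X) →+ NumR.N1 k X := (NumR.toN1 k X).comp (toSet X).toAdditive
  have hq : Function.Surjective q := by
    intro x
    obtain ⟨L, hL, rfl⟩ := NumR.exists_eq_cl x
    exact ⟨Additive.ofMul (mk L hL), rfl⟩
  have hker : q.ker ≤ f.ker := by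
    intro a ha
    have h1 : toSet X a.toMul ∈ PicGrp.subCl (Y := X) (Pic13.IsNumEquivZero k X) :=
      (QuotientGroup.eq_one_iff _).mp ha
    let K : Subgroup (Pic X) :=
      { carrier := {a | f (Additive.ofMul a) = 0}
        mul_mem' := fun {a a'} (ha : f (Additive.ofMul a) = 0) (ha' : f (Additive.ofMul a') = 0) => by
          change f (Additive.ofMul (a * a')) = 0
          rw [ofMul_mul, map_add, ha, ha', add_zero]
        one_mem' := map_zero f
        inv_mem' := fun {a} (ha : f (Additive.ofMul a) = 0) => by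
          change f (Additive.ofMul a⁻¹) = 0
          rw [ofMul_inv, map_neg, ha, neg_zero] }
    have h2 : PicGrp.subCl (Y := X) (Pic13.IsNumEquivZero k X) ≤ K.map (toSet X) := by
      refine (Subgroup.closure_le _).mpr ?_
      rintro _ ⟨L, hL, hnum, rfl⟩
      exact ⟨mk L hL, hf L hL hnum, toSet_mk hL⟩
    obtain ⟨a', ha', h3⟩ := h2 h1
    have h4 := toSet_injective X h3
    have h5 : f (Additive.ofMul a') = 0 := ha'
    rw [h4] at h5
    exact h5
  let g : NumR.N1 k X →+ ℤ := AddMonoidHom.liftOfSurjective q hq ⟨f, hker⟩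
  have hg : ∀ a, g (q a) = f a := AddMonoidHom.liftOfRightInverse_comp_apply q _ _ ⟨f, hker⟩
  let φ : (ℝ ⊗[ℤ] NumR.N1 k X) →ₗ[ℝ] ℝ :=
    (TensorProduct.AlgebraTensorModule.rid ℤ ℝ ℝ).toLinearMap ∘ₗ (g.toIntLinearMap.baseChange ℝ)
  refine ⟨φ, fun a => ?_⟩
  have h1 : clP k X a = ((1 : ℝ) ⊗ₜ[ℤ] q a : ℝ ⊗[ℤ] NumR.N1 k X) := rfl
  rw [h1, ← hg]
  change (TensorProduct.AlgebraTensorModule.rid ℤ ℝ ℝ) ((g.toIntLinearMap.baseChange ℝ) ((1 : ℝ) ⊗ₜ[ℤ] q a)) = _
  rw [LinearMap.baseChange_tmul, TensorProduct.AlgebraTensorModule.rid_tmul]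
  simp

/-- The abstract criterion. -/
theorem eq_zero (Rs : Set (Additive (Pic X) →+ ℤ))
    (hnum : ∀ f ∈ Rs, ∀ (L : X.Modules) (hL : PicF.IsInvertible L), Pic13.IsNumEquivZero k X L →
      f (Additive.ofMul (mk L hL)) = 0)
    (heff : ∀ f ∈ Rs, ∀ (L : X.Modules) (hL : PicF.IsInvertible L), NumR.HasSection L →
      0 ≤ f (Additive.ofMul (mk L hL)))
    (htriv : ∀ (L : X.Modules) (hL : PicF.IsInvertible L), (∀ f ∈ Rs, f (Additive.ofMul (mk L hL)) = 0) →
      Pic13.IsNumEquivZero k X L)
    {v : NumR.N1R k X} (hv : v ∈ NumR.psefCone k X) (hv' : -v ∈ NumR.psefCone k X) : v = 0 := by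
  have key : ∀ f ∈ Rs, ∃ φ : NumR.N1R k X →ₗ[ℝ] ℝ, (∀ a : Additive (Pic X), φ (clP k X a) = (f a : ℝ)) ∧ φ v = 0 := by
    intro f hf
    obtain ⟨φ, hφ⟩ := exists_functional f (hnum f hf)
    have hpos : ∀ x ∈ NumR.psefCone k X, 0 ≤ φ x := by
      intro x hx
      have hcl : IsClosed {x : NumR.N1R k X | 0 ≤ φ x} :=
        isClosed_le continuous_const (IsModuleTopology.continuous_of_linearMap φ)
      have hle : (NumR.effCone k X : Set (NumR.N1R k X)) ⊆ {x | 0 ≤ φ x} := by
        let C : ConvexCone ℝ (NumR.N1R k X) :=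
          { carrier := {x | 0 ≤ φ x}
            smul_mem' := fun {c} hc x (hx : 0 ≤ φ x) => by
              change 0 ≤ φ (c • x)
              rw [map_smul, smul_eq_mul]
              positivity
            add_mem' := fun {x} (hx : 0 ≤ φ x) {y} (hy : 0 ≤ φ y) => by
              change 0 ≤ φ (x + y)
              rw [map_add]
              positivity }
        have h1 : NumR.effCone k X ≤ C := by
          refine ConvexCone.hull_min ?_
          rintro _ ⟨L, hL, hs, rfl⟩
          change 0 ≤ φ (NumR.clR k X L hL)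
          rw [← clP_mk, hφ]
          exact_mod_cast heff f hf L hL hs
        exact h1
      exact closure_minimal hle hcl hx
    refine ⟨φ, hφ, le_antisymm ?_ (hpos v hv)⟩
    have h2 := hpos _ hv'
    rw [map_neg] at h2
    linarith
  have hspan : v ∈ Submodule.span ℝ (Set.range (clP k X)) := by
    have h1 : Submodule.span ℝ (Set.range (clP k X)) = ⊤ := span_S
    rw [h1]; exact Submodule.mem_top
  obtain ⟨T, hT⟩ := Finsupp.mem_span_range_iff_exists_finsupp.mp hspan
  obtain ⟨κ, s, c, Z, hZ, hTZ⟩ := K465.RatRel.exists_decomp T {r | ∃ f ∈ Rs, r = fun a => f a} (by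
    rintro _ ⟨f, hf, rfl⟩
    obtain ⟨φ, hφ, h0⟩ := key f hf
    rw [← hT, Finsupp.sum, map_sum] at h0
    rw [Finsupp.sum, ← h0]
    refine Finset.sum_congr rfl fun a _ => ?_
    rw [map_smul, hφ, smul_eq_mul])
  have hx : ∀ l, clP k X ((Z l).sum fun a n => n • a) = 0 := by
    intro l
    obtain ⟨L, hL, h1⟩ := exists_mk (((Z l).sum fun a n => n • a : Additive (Pic X)).toMul)
    have h2 : ((Z l).sum fun a n => n • a : Additive (Pic X)) = Additive.ofMul (mk L hL) :=
      congrArg Additive.ofMul h1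
    rw [h2, clP_mk, NumR.clR_def, NumR.cl_eq_zero hL, map_zero]
    refine htriv L hL fun f hf => ?_
    rw [← h2, Finsupp.sum, map_sum]
    have h3 := hZ l (fun a => f a) ⟨f, hf, rfl⟩
    rw [← h3, Finsupp.sum]
    refine Finset.sum_congr rfl fun a _ => ?_
    rw [map_zsmul, smul_eq_mul]
  have hlin : v = Finsupp.linearCombination ℝ (clP k X) T := by
    rw [← hT, Finsupp.linearCombination_apply]
  rw [hlin, hTZ, map_sum]
  refine Finset.sum_eq_zero fun l _ => ?_
  have h1 : Finsupp.linearCombination ℝ (clP k X) ((Z l).mapRange (Int.cast : ℤ → ℝ) Int.cast_zero) =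
      clP k X ((Z l).sum fun a n => n • a) := by
    rw [Finsupp.linearCombination_apply, Finsupp.sum_mapRange_index (h := fun a (r : ℝ) => r • clP k X a)
      (fun a => zero_smul ℝ _), Finsupp.sum, Finsupp.sum,
      map_sum]
    refine Finset.sum_congr rfl fun a _ => ?_
    rw [map_zsmul, Int.cast_smul_eq_zsmul]
  rw [map_smul, h1, hx, smul_zero]

/-- Compactness of the intervals. -/
theorem isCompact_of [Module.Finite ℝ (NumR.N1R k X)]
    (h : ∀ v : NumR.N1R k X, v ∈ NumR.psefCone k X → -v ∈ NumR.psefCone k X → v = 0) (δ : NumR.N1R k X) :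
    IsCompact {δ' : NumR.N1R k X | δ' ∈ NumR.psefCone k X ∧ δ - δ' ∈ NumR.psefCone k X} := by
  refine K465.Pointed.isCompact (NumR.psefCone k X) isClosed_closure ?_ h δ
  intro c hc x hx
  exact map_mem_closure (continuous_const_smul c) hx (fun y hy => (NumR.effCone k X).smul_mem hc hy)

end K465.PsefAbs
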