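import Groth.Agent.Surf.K465.RNum
import Groth.Agent.S1605
import Groth.Agent.Surf.K464.Comp
import Groth.Agent.Fga.DimLt

/-!
# Vanishing of `H¹` of a torsion free module of rank one on an integral curve
-/

set_option autoImplicit false
universe u
open CategoryTheory CategoryTheory.Limits AlgebraicGeometry Opposite TopologicalSpace

namespace K465.RCurve

open Groth.Agent.Grpsch.PicGrp Groth.Agent.Dix.IdealModCartier Groth.Agent Groth.Agent.Divis.EffCartier K464.Base
open K464.Curves Groth.Agent.Dix.TwistClosed490 K464.Cohom K465.RSeq K465.RNum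

theorem range_eq_univ {X Y : Scheme.{u}} [IrreducibleSpace Y] (f : X ⟶ Y) [IsClosedImmersion f] (n : ℕ)
    (hX : topologicalKrullDim X = n) (hY : topologicalKrullDim Y = n) : Set.range f = Set.univ := by
  by_contra hne
  have hcl : IsClosed (Set.range f) := f.isClosedEmbedding.isClosed_range
  have h1 : topologicalKrullDim (Set.range f) = n := by
    rw [← hX]
    exact (IsHomeomorph.topologicalKrullDim_eq _ f.isEmbedding.toHomeomorph.isHomeomorph).symm
  have h2 := Groth.Agent.Fga.DimLt.exists_ltSeries_succ hcl hne h1.ge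
  rw [hY] at h2
  have h3 : n + 1 ≤ n := by exact_mod_cast h2
  omega

theorem ker_id (C : Scheme.{u}) : (𝟙 C : C ⟶ C).ker = ⊥ := by
  ext U : 2
  rw [Scheme.Hom.ker_apply, Scheme.Hom.id_app, Scheme.IdealSheafData.ideal_bot]
  ext x
  exact Iff.rfl

section curve

variable (k : Type u) [Field k] {C : Scheme.{u}} [C.Over (Spec (CommRingCat.of k))] [IsIntegral C]
  [IsProper (C ↘ Spec (CommRingCat.of k))]

/-- On an integral proper curve: `H¹(I_Z ⊗ L) = 0` if `deg L + 2 χ(O) > len Z`. -/
theorem subsingleton_H1 (hdim : topologicalKrullDim C = 1) (Z : C.IdealSheafData) (hZ : Z0 Z) {L : C.Modules}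
    (hL : PicF.IsInvertible L)
    (hdeg : len k Z < Curv2.deg k C L 1 + 2 * Curv2.euler k C (Coh.structureModule C)) :
    Subsingleton (Coh.HH C (CohB1.tensorMod (ClSub.idealMod Z) L) 1) := by
  by_contra hne
  rw [not_subsingleton_iff_nontrivial] at hne
  obtain ⟨J, hJr, hJc, hJd, hle⟩ := S1605.result k C hdim L hL Z hZ hne
  have hsupp : J.support = ⊤ := by
    apply TopologicalSpace.Closeds.ext
    have h1 := range_eq_univ J.subschemeι 1 hJd hdim
    rw [Scheme.IdealSheafData.range_subschemeι] at h1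
    exact h1
  rw [Scheme.IdealSheafData.support_eq_top_iff] at hsupp
  have hker : (𝟙 C : C ⟶ C).ker = J := by
    rw [hsupp, ker_id]
  subst hker
  rw [CurvesB.SubEuler.deg_ker (𝟙 C) k (by simp) L (isCoh_of_isInvertible k C hL).1 1,
    CurvesB.SubEuler.euler_ker (𝟙 C) k (by simp), hsupp, sup_bot_eq] at hle
  have h2 : Curv2.deg k C ((Scheme.Modules.pullback (𝟙 C)).obj L) 1 = Curv2.deg k C L 1 :=
    CurvesB.SubEuler.deg_congr k ((Scheme.Modules.pullbackId C).app L) 1
  rw [h2] at hle
  rw [len_eq k hZ] at hdeg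
  linarith

end curve

end K465.RCurve
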