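import Groth.Agent.Surf.K465.RCurve
import Groth.Agent.Surf.K460.SurfKit
import Groth.Agent.Picfga.CurveRelDim

/-!
# A vanishing theorem for `H¹(I_Z ⊗ L)` on a smooth projective surface

`main` : `X` a smooth proper surface, `Z` zero-dimensional with ideal `I`, `C` an effective Cartier divisor
containing `Z`, `H¹(X, L(-C)) = 0`, and `(L - K - B) . B > len (Z ∩ B)` for every `0 < B ≤ C`; then `H¹(X, I ⊗ L) = 0`.
-/

set_option autoImplicit false
universe u
open CategoryTheory CategoryTheory.Limits AlgebraicGeometry Opposite TopologicalSpace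

namespace K465.RMain

open Groth.Agent.Grpsch.PicGrp Groth.Agent.Dix.IdealModCartier Groth.Agent Groth.Agent.Divis.EffCartier K464.Base
open K464.Curves Groth.Agent.Dix.TwistClosed490 K464.Cohom K465.RSeq K465.RNum K464.Comp

section col

variable {X : Scheme.{u}}

theorem mul_inf {D : X.IdealSheafData} (hD : BlowUp.IsEffCartierIdeal D) (P Q : X.IdealSheafData) :
    D * P ⊓ D * Q = D * (P ⊓ Q) := by
  apply le_antisymm
  · obtain ⟨R, hR⟩ := K971.Basic.exists_mul_eq_of_le hD
      (J := D * P ⊓ D * Q) (inf_le_left.trans (K971.Basic.mul_le_left D P))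
    rw [← hR, mul_comm D (P ⊓ Q), K971.Basic.mul_le_mul_iff hD]
    apply le_inf
    · rw [← K971.Basic.mul_le_mul_iff hD, hR, mul_comm P D]
      exact inf_le_left
    · rw [← K971.Basic.mul_le_mul_iff hD, hR, mul_comm Q D]
      exact inf_le_right
  · exact le_inf (K971.Basic.mul_mono le_rfl inf_le_left) (K971.Basic.mul_mono le_rfl inf_le_right)

/-- The residual ideal `(I : D)`. -/
noncomputable def col (I : X.IdealSheafData) {D : X.IdealSheafData} (hD : BlowUp.IsEffCartierIdeal D) :
    X.IdealSheafData := (exists_colon hD I).choose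

theorem col_spec (I : X.IdealSheafData) {D : X.IdealSheafData} (hD : BlowUp.IsEffCartierIdeal D) :
    I ⊓ D = D * col I hD := (exists_colon hD I).choose_spec

theorem eq_col {I D J : X.IdealSheafData} (hD : BlowUp.IsEffCartierIdeal D) (h : I ⊓ D = D * J) : J = col I hD :=
  K971.Basic.mul_left_cancel_of_isEff hD (h.symm.trans (col_spec I hD))

theorem col_mul (I : X.IdealSheafData) {D E : X.IdealSheafData} (hD : BlowUp.IsEffCartierIdeal D)
    (hE : BlowUp.IsEffCartierIdeal E) : col (col I hD) hE = col I (isEff_mul hD hE) := by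
  apply eq_col
  have h1 : I ⊓ (D * E) = (I ⊓ D) ⊓ (D * E) := by
    rw [inf_assoc, inf_eq_right.2 (K971.Basic.mul_le_left D E)]
  rw [h1, col_spec I hD, mul_inf hD, col_spec (col I hD) hE, mul_assoc]

theorem col_congr (I : X.IdealSheafData) {D E : X.IdealSheafData} (hD : BlowUp.IsEffCartierIdeal D)
    (hE : BlowUp.IsEffCartierIdeal E) (h : D = E) : col I hD = col I hE := by
  subst h; rfl

theorem col_of_le {I D : X.IdealSheafData} (hD : BlowUp.IsEffCartierIdeal D) (h : D ≤ I) : col I hD = ⊤ := by
  symm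
  apply eq_col
  rw [K971.Basic.mul_top', inf_eq_right.2 h]

theorem col_top (I : X.IdealSheafData) : col I (isEff_top (X := X)) = I := by
  symm
  apply eq_col
  rw [K971.Basic.top_mul', inf_top_eq]

theorem le_col (I : X.IdealSheafData) {D : X.IdealSheafData} (hD : BlowUp.IsEffCartierIdeal D) : I ≤ col I hD :=
  le_of_colon hD (col_spec I hD)

theorem col_mono {I J D : X.IdealSheafData} (hD : BlowUp.IsEffCartierIdeal D) (h : I ≤ J) : col I hD ≤ col J hD :=
  colon_mono hD (col_spec I hD) (col_spec J hD) h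

end col

section iso

variable {X : Scheme.{u}}

theorem nonempty_top : Nonempty (ClSub.idealMod (⊤ : X.IdealSheafData) ≅ Coh.structureModule X) :=
  (mk_eq_one_iff (isInvertible_idealMod isEff_top)).1 ic_top

theorem nonempty_top_tensor (M : X.Modules) :
    Nonempty (CohB1.tensorMod (ClSub.idealMod (⊤ : X.IdealSheafData)) M ≅ M) := by
  obtain ⟨e⟩ := nonempty_top (X := X)
  exact ⟨Ega2.Tens.mapTIso e (Iso.refl M) ≪≫ Ega2.Tens.lunit M⟩

theorem nonempty_assoc {A B : X.IdealSheafData} (hB : BlowUp.IsEffCartierIdeal B) (L : X.Modules) :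
    Nonempty (CohB1.tensorMod (ClSub.idealMod B) (CohB1.tensorMod (ClSub.idealMod A) L) ≅
      CohB1.tensorMod (ClSub.idealMod (A * B)) L) := by
  obtain ⟨e⟩ := nonempty_tensor_idealMod A hB
  exact ⟨(Ega2.Tens.assoc _ _ _).symm ≪≫ Ega2.Tens.mapTIso (Ega2.Tens.swap _ _ ≪≫ e) (Iso.refl L)⟩

end iso

section num

variable (k : Type u) [Field k] {X : Scheme.{u}} [X.Over (Spec (CommRingCat.of k))]
  [IsProper (X ↘ Spec (CommRingCat.of k))]

/-- Submodularity of the length of the intersection with a divisor. -/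
theorem len_sub_le (I : X.IdealSheafData) (hI : Z0 I) {A G E : X.IdealSheafData} (hA : BlowUp.IsEffCartierIdeal A)
    (hG : BlowUp.IsEffCartierIdeal G) (hE : BlowUp.IsEffCartierIdeal E) :
    len k (col I (isEff_mul hA hE)) - len k (col I (isEff_mul (isEff_mul hA hE) hG)) ≤
      len k (col I hA) - len k (col I (isEff_mul hA hG)) := by
  letI := overC k X G
  have := isProper_sub k X G
  have h1 : Z0 (col I hA) := hI.mono (le_col I hA)
  have h2 : Z0 (col I (isEff_mul hA hE)) := hI.mono (le_col I _)
  rw [← col_mul I hA hG, ← col_mul I (isEff_mul hA hE) hG, ← len_comap k hG (col_spec _ hG) h1,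
    ← len_comap k hG (col_spec _ hG) h2]
  apply len_anti k (h1.comap _)
  apply Scheme.IdealSheafData.comap_mono
  rw [← col_mul I hA hE]
  exact le_col _ hE

variable [Smooth (X ↘ Spec (CommRingCat.of k))] [IsIntegral X] (hdim : topologicalKrullDim X = 2)

include hdim in
/-- A component on which the degree is large. -/
theorem exists_curve (I : X.IdealSheafData) (hI : Z0 I) (θ : Pic X) {B : X.IdealSheafData}
    (hB : BlowUp.IsEffCartierIdeal B) (hnum : len k I - len k (col I hB) < degOn k X B θ) :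
    ∃ (G B' : X.IdealSheafData) (hG : BlowUp.IsEffCartierIdeal G) (hB' : BlowUp.IsEffCartierIdeal B'),
      IsCurve G ∧ B = B' * G ∧ len k (col I hB') - len k (col I hB) < degOn k X G θ := by
  by_contra hcon
  push Not at hcon
  have : IsNoetherian X := CurvesB.CurveRR.isNoetherian_of_proper k X
  have key : ∀ A : X.IdealSheafData, BlowUp.IsEffCartierIdeal A →
      ∀ (hA : BlowUp.IsEffCartierIdeal A) (E : X.IdealSheafData), BlowUp.IsEffCartierIdeal E → B = A * E →
        degOn k X A θ ≤ len k I - len k (col I hA) := by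
    intro A hA
    refine eff_induction k (X ↘ Spec (CommRingCat.of k)) hdim (fun x => S1535.result k X x)
      (P := fun A => ∀ (hA : BlowUp.IsEffCartierIdeal A) (E : X.IdealSheafData), BlowUp.IsEffCartierIdeal E →
        B = A * E → degOn k X A θ ≤ len k I - len k (col I hA)) ?_ ?_ A hA
    · intro h E _ _
      rw [degOn_top, col_congr I h isEff_top rfl, col_top]
      linarith
    · intro G A hG hGe hAe ih h E hE hBE
      have h1 := ih hAe (G * E) (isEff_mul hGe hE) (by rw [hBE]; ring)
      have h2 := hcon G (A * E) hGe (isEff_mul hAe hE) hG (by rw [hBE]; ring)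
      have h3 := len_sub_le k I hI hAe hGe hE
      rw [col_congr I (isEff_mul (isEff_mul hAe hE) hGe) hB (by rw [hBE]; ring),
        col_congr I (isEff_mul hAe hGe) h (by ring)] at h3
      rw [degOn_eff_mul k hdim.le hGe hAe]
      linarith
  have h1 := key B hB hB ⊤ isEff_top (by rw [K971.Basic.mul_top'])
  linarith

end num

section main

variable (k : Type u) [Field k] {X : Scheme.{u}} [X.Over (Spec (CommRingCat.of k))]
  [IsProper (X ↘ Spec (CommRingCat.of k))] [Smooth (X ↘ Spec (CommRingCat.of k))] [IsIntegral X]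
  (hdim : topologicalKrullDim X = 2)
  {W : X.Modules} (hW : ExtPow.IsExtPow 2 (Omega.sheaf (X ↘ Spec (CommRingCat.of k))) W) (hWi : PicF.IsInvertible W)

include hdim hW in
/-- Vanishing on a curve of the surface. -/
theorem subsingleton_curve {G : X.IdealSheafData} (hG : IsCurve G) (hGe : BlowUp.IsEffCartierIdeal G)
    {J : X.IdealSheafData} (hJ : Z0 J) {M : X.Modules} (hM : PicF.IsInvertible M)
    (hnum : len k J - len k (col J hGe) < degOn k X G (mk M hM * (mk W hWi)⁻¹ * ic G hGe)) :
    Subsingleton (Coh.HH G.subscheme (CohB1.tensorMod (ClSub.idealMod (J.comap G.subschemeι))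
      ((Scheme.Modules.pullback G.subschemeι).obj M)) 1) := by
  letI := overC k X G
  have := isProper_sub k X G
  have := hG.integral
  refine RCurve.subsingleton_H1 k ((dim_sub X G).trans hG.dim) _ (hJ.comap _)
    (Fdesc.LocGen.isInvertible_pullback _ hM) ?_
  rw [len_comap k hGe (col_spec _ hGe) hJ, ← degOn_eq_deg k X G hM, ← euler_quotMod_sub]
  have hrel : SmoothOfRelativeDimension 2 (X ↘ Spec (CommRingCat.of k)) :=
    Groth.Agent.Picfga.CurveRelDim.smoothOfRelativeDimension_of_topologicalKrullDim_eq k X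
      (X ↘ Spec (CommRingCat.of k)) 2 hdim
  have h1 := Groth.Agent.Surf.K460.SurfKit.rr k hW hWi hdim.le (ic G hGe)
  have h3 := euler_quotMod_eq k X hGe
  have h2 : degOn k X G (mk M hM * (mk W hWi)⁻¹ * ic G hGe) = degOn k X G (mk M hM) +
      (dot k X (ic G hGe) (mk W hWi) - dot k X (ic G hGe) (ic G hGe)) := by
    rw [degOn_mul k hG, degOn_mul k hG, degOn_inv k hG, degOn_eq_neg_dot k X hGe (mk W hWi),
      degOn_eq_neg_dot k X hGe (ic G hGe)]
    ring
  rw [h2] at hnum
  linarith

include hdim hW in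
/-- **Vanishing theorem.** -/
theorem main (I : X.IdealSheafData) (hI : Z0 I) {C : X.IdealSheafData} (hC : BlowUp.IsEffCartierIdeal C)
    (hCI : C ≤ I) {L : X.Modules} (hL : PicF.IsInvertible L)
    (h1 : Subsingleton (Coh.HH X (CohB1.tensorMod (ClSub.idealMod C) L) 1))
    (hnum : ∀ (B : X.IdealSheafData) (hB : BlowUp.IsEffCartierIdeal B), C ≤ B → B ≠ ⊤ →
      len k I - len k (col I hB) < degOn k X B (mk L hL * (mk W hWi)⁻¹ * ic B hB)) :
    Subsingleton (Coh.HH X (CohB1.tensorMod (ClSub.idealMod I) L) 1) := by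
  have : IsNoetherian X := CurvesB.CurveRR.isNoetherian_of_proper k X
  have hwf : WellFoundedGT X.IdealSheafData := Groth.Agent.Divis.ColonIdeal.wellFoundedGT
  let S : Set X.IdealSheafData := {B | ∃ hB : BlowUp.IsEffCartierIdeal B, C ≤ B ∧
    Subsingleton (Coh.HH X (CohB1.tensorMod (ClSub.idealMod (col I hB)) (CohB1.tensorMod (ClSub.idealMod B) L)) 1)}
  have hS : S.Nonempty := by
    refine ⟨C, hC, le_rfl, ?_⟩
    rw [col_of_le hC hCI]
    obtain ⟨e⟩ := nonempty_top_tensor (CohB1.tensorMod (ClSub.idealMod C) L)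
    exact hh_congr e 1 h1
  obtain ⟨B, ⟨hB, hCB, hv⟩, hmax⟩ := hwf.wf.has_min S hS
  by_cases hBt : B = ⊤
  · subst hBt
    rw [col_congr I hB isEff_top rfl, col_top] at hv
    obtain ⟨e⟩ := nonempty_top_tensor L
    exact hh_congr (Ega2.Tens.mapTIso (Iso.refl _) e.symm) 1 hv
  · exfalso
    obtain ⟨G, B', hG, hB', hGc, rfl, hlt⟩ := exists_curve k hdim I hI _ hB (hnum B hB hCB hBt)
    have hle : B' * G ≤ B' := K971.Basic.mul_le_left B' G
    refine hmax B' ⟨hB', hCB.trans hle, ?_⟩ (lt_of_le_of_ne hle ?_)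
    · have hM : PicF.IsInvertible (CohB1.tensorMod (ClSub.idealMod B') L) :=
        Fdesc.LocGen.isInvertible_tensorMod (isInvertible_idealMod hB') hL
      refine subsingleton_step k hG (col_spec (col I hB') hG) hM ?_ ?_
      · rw [col_mul I hB' hG, col_congr I (isEff_mul hB' hG) hB rfl]
        obtain ⟨e⟩ := nonempty_assoc (A := B') hG L
        exact hh_congr (Ega2.Tens.mapTIso (Iso.refl _) e) 1 hv
      · refine subsingleton_curve k hdim hW hWi hGc hG (hI.mono (le_col I hB')) hM ?_
        rw [col_mul I hB' hG, col_congr I (isEff_mul hB' hG) hB rfl]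
        have h2 : mk (CohB1.tensorMod (ClSub.idealMod B') L) hM * (mk W hWi)⁻¹ * ic G hG =
            mk L hL * (mk W hWi)⁻¹ * ic (B' * G) hB := by
          rw [ic_congr hB (isEff_mul hB' hG) rfl, ic_mul hB' hG,
            ← mk_mul_mk (isInvertible_idealMod hB') hL]
          change ic B' hB' * mk L hL * (mk W hWi)⁻¹ * ic G hG = _
          rw [mul_comm (ic B' hB') (mk L hL), mul_assoc, mul_assoc, mul_assoc,
            mul_left_comm (ic B' hB') (mk W hWi)⁻¹]
        rw [h2]
        exact hlt
    · intro h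
      have h2 : G = ⊤ := K971.Basic.mul_left_cancel_of_isEff hB' (h.trans (K971.Basic.mul_top' B').symm)
      subst h2
      have h3 := gp_mem hGc
      rw [Scheme.IdealSheafData.support_top] at h3
      exact h3

end main

end K465.RMain
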