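import Groth.Agent.Surf.K465.RSeq
import Groth.Agent.Surf.K464.Cohom
import Groth.Agent.CurvesB.TwistIdeal
import Groth.Agent.S1558
import Groth.Agent.Ega3B.Devissage

/-!
# Lengths of zero-dimensional subschemes and residual subschemes

* `Z0 J` : the subscheme of `J` is zero-dimensional; `len k J = χ(O/J)`;
* `len_comap` : `len (J O_C) = len J - len J'` for `J ⊓ C = C * J'`;
* `subsingleton_step` : `H¹(J ⊗ L) = 0` from `H¹(J' ⊗ I_C L) = 0` and `H¹(C, J O_C ⊗ L) = 0`.
-/

set_option autoImplicit false
universe u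
open CategoryTheory CategoryTheory.Limits AlgebraicGeometry Opposite TopologicalSpace

namespace K465.RNum

open Groth.Agent.Grpsch.PicGrp Groth.Agent.Dix.IdealModCartier Groth.Agent Groth.Agent.Divis.EffCartier K464.Base
open K464.Curves Groth.Agent.Dix.TwistClosed490 K464.Cohom K465.RSeq

section Z0

variable {X : Scheme.{u}}

/-- The closed subscheme defined by `J` has dimension at most zero. -/
def Z0 (J : X.IdealSheafData) : Prop := topologicalKrullDim (J.support : Set X) ≤ 0

theorem Z0.mono {J J' : X.IdealSheafData} (h : Z0 J) (hle : J ≤ J') : Z0 J' := by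
  have hs : (J'.support : Set X) ⊆ (J.support : Set X) := Scheme.IdealSheafData.support_antitone hle
  exact ((Topology.IsInducing.subtypeVal.of_comp_iff (f := Set.inclusion hs)).mp
    Topology.IsInducing.subtypeVal).topologicalKrullDim_le.trans h

theorem z0_top : Z0 (⊤ : X.IdealSheafData) := by
  have : IsEmpty ((⊤ : X.IdealSheafData).support : Set X) := by
    rw [Scheme.IdealSheafData.support_top]
    exact inferInstanceAs (IsEmpty (∅ : Set X))
  unfold Z0
  have h : topologicalKrullDim ((⊤ : X.IdealSheafData).support : Set X) = ⊥ := by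
    have : IsEmpty (IrreducibleCloseds ((⊤ : X.IdealSheafData).support : Set X)) :=
      ⟨fun Z => by
        obtain ⟨x, -⟩ := Z.isIrreducible.nonempty
        exact isEmptyElim x⟩
    exact Order.krullDim_eq_bot
  rw [h]
  exact bot_le

theorem Z0.comap {C : Scheme.{u}} (i : C ⟶ X) [IsClosedImmersion i] {J : X.IdealSheafData} (h : Z0 J) :
    Z0 (J.comap i) := by
  have hs : ∀ x : ((J.comap i).support : Set C), i x.1 ∈ (J.support : Set X) := by
    rintro ⟨x, hx⟩
    have h1 : x ∈ (J.comap i).support := hx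
    rw [Scheme.IdealSheafData.support_comap] at h1
    exact h1
  let f : ((J.comap i).support : Set C) → (J.support : Set X) := fun x => ⟨i x.1, hs x⟩
  have hf : Topology.IsInducing f := by
    refine (Topology.IsInducing.subtypeVal.of_comp_iff (f := f)).mp ?_
    exact i.isClosedEmbedding.isInducing.comp Topology.IsInducing.subtypeVal
  exact hf.topologicalKrullDim_le.trans h

end Z0

section len

theorem rank_one {X : Scheme.{u}} {L : X.Modules} (hL : PicF.IsInvertible L) : FlatMod.IsFinLocFreeOfRank 1 L := by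
  intro x
  obtain ⟨U, hU, ⟨e⟩⟩ := hL x
  refine ⟨U, hU, ⟨e ≪≫ ?_⟩⟩
  exact (Limits.coproductUniqueIso (fun _ : Fin 1 => Coh.structureModule (↑U : Scheme.{u}))).symm

variable (k : Type u) [Field k] {X : Scheme.{u}} [X.Over (Spec (CommRingCat.of k))]

/-- The length of the subscheme defined by `J`. -/
noncomputable def len (J : X.IdealSheafData) : ℤ := Curv2.euler k X (ClSub.quotMod J)

variable [IsProper (X ↘ Spec (CommRingCat.of k))]

theorem len_top : len k (⊤ : X.IdealSheafData) = 0 := by
  unfold len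
  rw [euler_quotMod_eq k X isEff_top, ic_top]
  ring

theorem len_eq {J : X.IdealSheafData} (h : Z0 J) : len k J = Module.finrank k (Coh.HH X (ClSub.quotMod J) 0) := by
  have h1 := VarietyA.EulerAdd.euler_eq_sum k (ClSub.quotMod J) 1 (fun i hi =>
    subsingleton_HH0_gt k (d := 0) J (by exact_mod_cast h) i (by omega))
  rw [Finset.sum_range_one] at h1
  unfold len
  rw [h1]
  ring

theorem len_nonneg {J : X.IdealSheafData} (h : Z0 J) : 0 ≤ len k J := by rw [len_eq k h]; positivity

theorem euler_quot_twist {J : X.IdealSheafData} (h : Z0 J) {L : X.Modules} (hL : PicF.IsInvertible L) :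
    Curv2.euler k X (CohB1.tensorMod (ClSub.quotMod J) L) = len k J := by
  have := S1558.result k X (ClSub.quotMod J) (isCoh_quotMod X J) (CurvesB.TwistIdeal.dim_support_quotMod J h) 1 L
    (rank_one hL)
  rw [this]
  push_cast
  rw [one_mul]
  rfl

/-- The length is antitone. -/
theorem len_anti {J K : X.IdealSheafData} (hJ : Z0 J) (h : J ≤ K) : len k K ≤ len k J := by
  obtain ⟨S, hS, ⟨e1⟩, ⟨e2⟩, ⟨e3⟩⟩ := exists_shortExact h
  have hc2 : Coh.IsCoh S.X₂ := Sga67.CohBasic.isCoh_of_iso e2.symm (isCoh_quotMod X J)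
  have hc3 : Coh.IsCoh S.X₃ := Sga67.CohBasic.isCoh_of_iso e3.symm (isCoh_quotMod X K)
  have hc1 : Coh.IsCoh S.X₁ := Sga67.CohBasic.isCoh_of_iso e1.symm
    (Sga67.CohBasic.isCoh_cokernel _ (isCoh_idealMod k X J).1 (isCoh_idealMod k X K))
  have := hS.mono_f
  have hsup : CohB1.support S.X₁ ⊆ CohB1.support (ClSub.quotMod J) :=
    (Ega3B.Devissage.support_subset_of_mono S.f).trans
      (Ega3B.Devissage.support_subset_of_mono e2.hom)
  have hd : topologicalKrullDim (CohB1.support S.X₁) ≤ 0 :=
    ((Topology.IsInducing.subtypeVal.of_comp_iff (f := Set.inclusion hsup)).mp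
      Topology.IsInducing.subtypeVal).topologicalKrullDim_le.trans (CurvesB.TwistIdeal.dim_support_quotMod J hJ)
  have h1 := S1524.result k X S hS hc1 hc2 hc3
  have h2 : Curv2.euler k X S.X₁ = Module.finrank k (Coh.HH X S.X₁ 0) := by
    have h3 := VarietyA.EulerAdd.euler_eq_sum k S.X₁ 1 (fun i hi => S1526.result k X _ hc1 hd i hi)
    rw [Finset.sum_range_one] at h3
    rw [h3]
    ring
  rw [euler_congr k X e2, euler_congr k X e3, h2] at h1
  unfold len
  rw [h1]
  have : (0 : ℤ) ≤ Module.finrank k (Coh.HH X S.X₁ 0) := by positivity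
  linarith

end len

section residual

variable {X : Scheme.{u}}

/-- The residual ideal contains the given one. -/
theorem le_of_colon {C J J' : X.IdealSheafData} (hC : BlowUp.IsEffCartierIdeal C) (h : J ⊓ C = C * J') : J ≤ J' := by
  rw [← K971.Basic.mul_le_mul_iff hC, mul_comm J' C, ← h]
  exact le_inf (K971.Basic.mul_le_left J C) (K971.Basic.mul_le_right J C)

theorem colon_mono {C J₁ J₂ J₁' J₂' : X.IdealSheafData} (hC : BlowUp.IsEffCartierIdeal C)
    (h₁ : J₁ ⊓ C = C * J₁') (h₂ : J₂ ⊓ C = C * J₂') (h : J₁ ≤ J₂) : J₁' ≤ J₂' := by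
  rw [← K971.Basic.mul_le_mul_iff hC, mul_comm J₁' C, mul_comm J₂' C, ← h₁, ← h₂]
  exact inf_le_inf_right C h

variable (k : Type u) [Field k] [X.Over (Spec (CommRingCat.of k))] [IsProper (X ↘ Spec (CommRingCat.of k))]

/-- The length of the intersection with `C` is the drop of length to the residual subscheme. -/
theorem len_comap {C J J' : X.IdealSheafData} (hC : BlowUp.IsEffCartierIdeal C) (h : J ⊓ C = C * J') (hJ : Z0 J) :
    letI := overC k X C
    len k (J.comap C.subschemeι) = len k J - len k J' := by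
  letI := overC k X C
  have := isProper_sub k X C
  have hJ' : Z0 J' := hJ.mono (le_of_colon hC h)
  have hker : C.subschemeι.ker = C := Scheme.IdealSheafData.ker_subschemeι C
  have h1 := S1524.result k X _ (res_shortExact C.subschemeι J) (isCoh_idealMod k X _) (isCoh_idealMod k X _) (by
    have := Fga.IntAdd.isNoetherian k X
    exact Fga.HodgePush.isCoh_push C.subschemeι (isCoh_idealMod k C.subscheme _))
  have h2 : Curv2.euler k X (ClSub.idealMod J) = Curv2.euler k X (ClSub.idealMod (J ⊓ C.subschemeι.ker)) +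
      Curv2.euler k C.subscheme (ClSub.idealMod (J.comap C.subschemeι)) := by
    rw [← CurvesC.DegIso.euler_push k C.subschemeι rfl (ClSub.idealMod (J.comap C.subschemeι))]
    exact h1
  rw [hker, h, mul_comm C J'] at h2
  obtain ⟨e⟩ := nonempty_tensor_idealMod J' hC
  rw [← euler_congr k X e] at h2
  have h3 := euler_quotMod_tensor k X J' (isInvertible_idealMod hC)
  rw [euler_quot_twist k hJ' (isInvertible_idealMod hC)] at h3
  have h4 := euler_quotMod k C.subscheme (J.comap C.subschemeι)
  have h5 := euler_quotMod k X J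
  have h6 := euler_quotMod k X C
  have h7 := euler_quotMod_sub k X C
  unfold len at h3 ⊢
  rw [h4, ← h7, h6, h5]
  linarith

include k in
/-- The residual step. -/
theorem subsingleton_step {C J J' : X.IdealSheafData} (hC : BlowUp.IsEffCartierIdeal C) (h : J ⊓ C = C * J')
    {L : X.Modules} (hL : PicF.IsInvertible L)
    (h1 : Subsingleton (Coh.HH X (CohB1.tensorMod (ClSub.idealMod J') (CohB1.tensorMod (ClSub.idealMod C) L)) 1))
    (h2 : Subsingleton (Coh.HH C.subscheme (CohB1.tensorMod (ClSub.idealMod (J.comap C.subschemeι))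
      ((Scheme.Modules.pullback C.subschemeι).obj L)) 1)) :
    Subsingleton (Coh.HH X (CohB1.tensorMod (ClSub.idealMod J) L) 1) := by
  letI := overC k X C
  have hker : C.subschemeι.ker = C := Scheme.IdealSheafData.ker_subschemeι C
  have hS := Fga.TwistCoh.shortExact_tensorBi hL _ (res_shortExact C.subschemeι J)
  have e₁ : Nonempty ((DCoh.tensorBi.obj L).obj (ClSub.idealMod (J ⊓ C.subschemeι.ker)) ≅
      CohB1.tensorMod (ClSub.idealMod J') (CohB1.tensorMod (ClSub.idealMod C) L)) := by
    rw [hker, h, mul_comm C J']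
    obtain ⟨e⟩ := nonempty_tensor_idealMod J' hC
    exact ⟨Ega2.Tens.swap L _ ≪≫ Ega2.Tens.mapTIso e.symm (Iso.refl L) ≪≫ Ega2.Tens.assoc _ _ _⟩
  obtain ⟨e₁⟩ := e₁
  have e₃ : (DCoh.tensorBi.obj L).obj ((Scheme.Modules.pushforward C.subschemeι).obj (ClSub.idealMod (J.comap C.subschemeι))) ≅
      (Scheme.Modules.pushforward C.subschemeι).obj (CohB1.tensorMod (ClSub.idealMod (J.comap C.subschemeι))
        ((Scheme.Modules.pullback C.subschemeι).obj L)) :=
    VarietyB.ProjForm.projIso C.subschemeι (Fga.HodgePush.hasBases_of_isInvertible hL) _ ≪≫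
      (Scheme.Modules.pushforward C.subschemeι).mapIso (Ega2.Tens.swap _ _)
  have v₁ := hh_congr e₁ 1 h1
  have v₃ := hh_congr e₃ 1 ((CurvesC.CurveNum.hhPushₗ k C.subschemeι rfl _ 1).symm.toEquiv.subsingleton)
  have key : ∀ x, x = (0 : Coh.HH X ((DCoh.tensorBi.obj L).obj (ClSub.idealMod J)) 1) := fun x => by
    obtain ⟨y, rfl⟩ := (VarietyA.EulerLES.exact₂ _ hS 1 x).1 (@Subsingleton.elim _ v₃ _ _)
    rw [@Subsingleton.elim _ v₁ y 0]
    exact map_zero _
  exact hh_congr (Ega2.Tens.swap _ L) 1 ⟨fun a b => (key a).trans (key b).symm⟩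

end residual

end K465.RNum
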