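import Groth.Agent.Dix.IdealModCartier
import Groth.Agent.Dix.TwistClosed490
import Groth.Agent.Ega2.Tens
import Groth.Agent.Ega2.TensGen
import Groth.Agent.Sga67.Sec
import Groth.Agent.Pic13.H945.IdealPull
import Groth.Agent.ModPair.K971.Basic
import Groth.Agent.Divis.ColonIdeal

/-!
# Residual exact sequences

* `nonempty_tensor_idealMod` : `I_W ⊗ I_D ≅ I_{W * D}` for `D` effective Cartier and every `W`;
* `exists_res_seq` : `0 → I_{J ∩ C} → I_J → i_* (J O_C) → 0` for a closed immersion `i : C → X`;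
* `exists_colon` : `J ⊓ D = D * J'` for `D` effective Cartier.
-/

set_option autoImplicit false
universe u
open CategoryTheory CategoryTheory.Limits AlgebraicGeometry Opposite TopologicalSpace

namespace K465.RSeq

open Groth.Agent.Fdesc.LocGen Groth.Agent.Picfga.LineHom Groth.Agent.Dix.IdealModSec
open Groth.Agent.Dix.IdealModCartier Groth.Agent.Divis.EffCartier
open Groth.Agent.Pic13.H945.IdealPull (val_add val_zero psi psi_app pullVal val_pullVal)
open Groth.Agent.Sga67.Sec (Sec appS exact_of_locally epi_of_locally_surjective mono_of_locally_injective)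
open Groth.Agent.Dix.TwistClosed490 (incl val_incl)

variable {X : Scheme.{u}}

section mul

variable (W D : X.IdealSheafData)

theorem exists_mul {U : X.Opens} (s : Γ(ClSub.idealMod W, U)) (t : Γ(ClSub.idealMod D, U)) :
    ∃ r : Γ(ClSub.idealMod (W * D), U), val (W * D) r = val W s * val D t := by
  refine exists_val_eq_of_local (W * D) U _ fun x hx => ?_
  obtain ⟨V, hxV, hV⟩ := exists_affine_mem_le U x hx
  refine ⟨V, hV, hxV, ?_⟩
  rw [map_mul, ← val_res W hV, ← val_res D hV]
  simp only [Scheme.IdealSheafData.ideal_mul, Pi.mul_apply]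
  exact Ideal.mul_mem_mul (val_mem W V _) (val_mem D V _)

/-- Multiplication of sections of ideals. -/
noncomputable def mulS {U : X.Opens} (s : Γ(ClSub.idealMod W, U)) (t : Γ(ClSub.idealMod D, U)) :
    Γ(ClSub.idealMod (W * D), U) := (exists_mul W D s t).choose

theorem val_mulS {U : X.Opens} (s : Γ(ClSub.idealMod W, U)) (t : Γ(ClSub.idealMod D, U)) :
    val (W * D) (mulS W D s t) = val W s * val D t := (exists_mul W D s t).choose_spec

/-- Multiplication of sections as a bilinear map. -/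
noncomputable def mulB (U : X.Opens) :
    Γ(ClSub.idealMod W, U) →ₗ[Γ(X, U)] Γ(ClSub.idealMod D, U) →ₗ[Γ(X, U)] Γ(ClSub.idealMod (W * D), U) :=
  LinearMap.mk₂ _ (fun s t => mulS W D s t)
    (fun s s' t => val_injective _ (by rw [val_add, val_mulS, val_mulS, val_mulS, val_add, add_mul]))
    (fun c s t => val_injective _ (by rw [val_smul, val_mulS, val_mulS, val_smul, mul_assoc]))
    (fun s t t' => val_injective _ (by rw [val_add, val_mulS, val_mulS, val_mulS, val_add, mul_add]))
    (fun c s t => val_injective _ (by rw [val_smul, val_mulS, val_mulS, val_smul, mul_left_comm]))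

theorem mulB_apply (U : X.Opens) (s : Γ(ClSub.idealMod W, U)) (t : Γ(ClSub.idealMod D, U)) :
    mulB W D U s t = mulS W D s t := rfl

/-- The multiplication map `I_W ⊗ I_D ⟶ I_{W * D}`. -/
noncomputable def mu : CohB1.tensorMod (ClSub.idealMod W) (ClSub.idealMod D) ⟶ ClSub.idealMod (W * D) :=
  Groth.Agent.Ega2.Tens.lift (mulB W D) (by
    intro U V i s t
    apply val_injective
    change val (W * D) (res _ i.le (mulS W D s t)) = val (W * D) (mulS W D (res _ i.le s) (res _ i.le t))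
    rw [val_res, val_mulS, val_mulS, val_res, val_res, map_mul])

theorem val_mu {U : X.Opens} (s : Γ(ClSub.idealMod W, U)) (t : Γ(ClSub.idealMod D, U)) :
    val (W * D) ((mu W D).app U (Groth.Agent.Ega2.Tens.tmul s t)) = val W s * val D t := by
  rw [mu, Groth.Agent.Ega2.Tens.lift_tmul, mulB_apply, val_mulS]

variable {W D}

theorem exists_affine_gen (hD : BlowUp.IsEffCartierIdeal D) (x : X) (U : X.Opens) (hx : x ∈ U) :
    ∃ (V : X.affineOpens) (e : Γ(ClSub.idealMod D, V.1)), x ∈ V.1 ∧ V.1 ≤ U ∧ IsGen e ∧ GenOn D (val D e) := by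
  obtain ⟨V₀, a, hxV₀, ha⟩ := exists_genOn hD x
  obtain ⟨V, hxV, hV⟩ := exists_affine_mem_le (V₀.1 ⊓ U) x ⟨hxV₀, hx⟩
  have ha' := ha.res (hV.trans inf_le_left)
  obtain ⟨e, he⟩ := exists_val_eq D V (a := ores (hV.trans inf_le_left) a) (by
    have h1 := (ha' V le_rfl).2
    rw [ores_refl] at h1
    rw [h1]
    exact Ideal.mem_span_singleton_self _)
  have hg : GenOn D (val D e) := by rw [he]; exact ha'
  exact ⟨V, e, hxV, hV.trans inf_le_right, isGen_of_genOn hg, hg⟩

theorem mono_mu (hD : BlowUp.IsEffCartierIdeal D) : Mono (mu W D) := by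
  apply mono_of_locally_injective
  intro x U hx
  obtain ⟨V, e, hxV, hV, he, hg⟩ := exists_affine_gen hD x U hx
  refine ⟨V.1, hV, hxV, fun s hs => ?_⟩
  obtain ⟨t, rfl⟩ := Groth.Agent.Ega2.TensGen.exists_eq_tmul he s
  have h1 : val W t * val D e = 0 := by
    rw [← val_mu]
    have h2 : (mu W D).app V.1 (Groth.Agent.Ega2.Tens.tmul t e) = 0 := hs
    rw [h2, val_zero]
  have h2 : val W t = val W (0 : Γ(ClSub.idealMod W, V.1)) := by
    rw [val_zero]
    exact hg.cancel (by rw [h1, zero_mul])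
  rw [val_injective W h2]
  exact Groth.Agent.Ega2.TensGen.zero_tmul e

theorem epi_mu (hD : BlowUp.IsEffCartierIdeal D) : Epi (mu W D) := by
  apply epi_of_locally_surjective
  intro U s x hx
  obtain ⟨V, e, hxV, hV, he, hg⟩ := exists_affine_gen hD x U hx
  refine ⟨V.1, hV, hxV, ?_⟩
  have h1 := val_mem (W * D) V (res _ hV s)
  have h2 : D.ideal V = Ideal.span {val D e} := by
    have := (hg V le_rfl).2
    rwa [ores_refl] at this
  simp only [Scheme.IdealSheafData.ideal_mul, Pi.mul_apply] at h1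
  rw [h2, Ideal.mem_mul_span_singleton] at h1
  obtain ⟨w, hw, hwe⟩ := h1
  obtain ⟨t, ht⟩ := exists_val_eq W V hw
  refine ⟨Groth.Agent.Ega2.Tens.tmul t e, ?_⟩
  apply val_injective (W * D)
  exact (val_mu W D t e).trans (by rw [ht, hwe]; rfl)

/-- `I_W ⊗ I_D ≅ I_{W * D}` for `D` effective Cartier. -/
theorem nonempty_tensor_idealMod (W : X.IdealSheafData) {D : X.IdealSheafData} (hD : BlowUp.IsEffCartierIdeal D) :
    Nonempty (CohB1.tensorMod (ClSub.idealMod W) (ClSub.idealMod D) ≅ ClSub.idealMod (W * D)) := by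
  have h1 := mono_mu (W := W) hD
  have h2 := epi_mu (W := W) hD
  have h3 : IsIso (mu W D) := isIso_of_mono_of_epi _
  exact ⟨asIso (mu W D)⟩

end mul

section seq

variable {C : Scheme.{u}} (i : C ⟶ X) [IsClosedImmersion i] (J : X.IdealSheafData)

theorem app_val_of_mem (U : X.Opens) (s : Γ(ClSub.idealMod (J ⊓ i.ker), U)) :
    i.app U (val (J ⊓ i.ker) s) = 0 := by
  have h1 := val_incl (inf_le_right : J ⊓ i.ker ≤ i.ker) s
  rw [← h1]
  refine ores_ext (X := C) (ι := U) (fun x => i ⁻¹ᵁ (exists_affine_mem_le U x.1 x.2).choose.1)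
    (fun x => i.preimage_mono (exists_affine_mem_le U x.1 x.2).choose_spec.2)
    (fun x hx => Opens.mem_iSup.2 ⟨⟨i x, hx⟩, (exists_affine_mem_le U (i x) hx).choose_spec.1⟩) ?_
  intro x
  set V := (exists_affine_mem_le U x.1 x.2).choose with hV
  have hVU : V.1 ≤ U := (exists_affine_mem_le U x.1 x.2).choose_spec.2
  have h2 := val_mem i.ker V (res _ hVU ((incl (inf_le_right : J ⊓ i.ker ≤ i.ker)).app U s))
  rw [val_res] at h2
  rw [Scheme.Hom.ker_apply, RingHom.mem_ker] at h2
  rw [map_zero]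
  refine Eq.trans ?_ h2
  exact (congr($(i.naturality (homOfLE hVU).op) _)).symm

theorem incl_psi : incl (inf_le_left : J ⊓ i.ker ≤ J) ≫ psi i J = 0 := by
  apply Scheme.Modules.hom_ext
  intro U
  ext s
  change (psi i J).app U ((incl (inf_le_left : J ⊓ i.ker ≤ J)).app U s) = 0
  rw [psi_app]
  apply val_injective (J.comap i) (U := i ⁻¹ᵁ U)
  refine Eq.trans ?_ (val_zero (J.comap i) (U := i ⁻¹ᵁ U)).symm
  rw [val_pullVal, val_incl, Scheme.Hom.appLE_eq_app]
  exact app_val_of_mem i J U s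

/-- `0 ⟶ I_{J ∩ C} ⟶ I_J ⟶ i_* (J O_C) ⟶ 0`. -/
theorem res_shortExact : (ShortComplex.mk (incl (inf_le_left : J ⊓ i.ker ≤ J)) (psi i J) (incl_psi i J)).ShortExact := by
  have h1 : Mono (incl (inf_le_left : J ⊓ i.ker ≤ J)) := inferInstance
  have h2 : Epi (psi i J) := by
    apply epi_of_locally_surjective
    intro U s x hx
    obtain ⟨V, hxV, hV⟩ := exists_affine_mem_le U x hx
    refine ⟨V.1, hV, hxV, ?_⟩
    have hVa : IsAffineOpen (i ⁻¹ᵁ V.1) := V.2.preimage i
    let s' : Γ(ClSub.idealMod (J.comap i), i ⁻¹ᵁ V.1) := res (ClSub.idealMod (J.comap i)) (i.preimage_mono hV) s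
    have h3 := val_mem (J.comap i) ⟨i ⁻¹ᵁ V.1, hVa⟩ s'
    rw [Groth.Agent.Divis.IdealComap.ideal_comap J i V ⟨i ⁻¹ᵁ V.1, hVa⟩ le_rfl] at h3
    have hsurj : Function.Surjective (i.appLE V.1 (i ⁻¹ᵁ V.1) le_rfl).hom := by
      rw [Scheme.Hom.appLE_eq_app]
      exact i.app_surjective V.1 V.2
    rw [Ideal.mem_map_iff_of_surjective _ hsurj] at h3
    obtain ⟨a, ha, has⟩ := h3
    obtain ⟨t, ht⟩ := exists_val_eq J V ha
    refine ⟨t, ?_⟩
    apply val_injective (J.comap i) (U := i ⁻¹ᵁ V.1)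
    refine Eq.trans ?_ has
    rw [← ht]
    exact val_pullVal i J le_rfl t
  refine { exact := ?_, mono_f := h1, epi_g := h2 }
  apply exact_of_locally
  intro U s hs x hx
  obtain ⟨V, hxV, hV⟩ := exists_affine_mem_le U x hx
  refine ⟨V.1, hV, hxV, ?_⟩
  let s' : Γ(ClSub.idealMod J, V.1) := res (ClSub.idealMod J) hV s
  have h3 : i.app V.1 (val J s') = 0 := by
    have h4 : val (J.comap i) (U := i ⁻¹ᵁ U) ((psi i J).app U s) = 0 := by
      have h5 : (psi i J).app U s = 0 := hs
      rw [h5]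
      exact val_zero _
    rw [psi_app, val_pullVal, Scheme.Hom.appLE_eq_app] at h4
    have h6 : i.app V.1 (ores hV (val J s)) = ores (i.preimage_mono hV) (i.app U (val J s)) :=
      congr($(i.naturality (homOfLE hV).op) (val J s))
    rw [val_res, h6]
    rw [show i.app U (val J s) = 0 from h4, map_zero]
  obtain ⟨t, ht⟩ := exists_val_eq (J ⊓ i.ker) V (a := val J s') (by
    refine ⟨val_mem J V s', ?_⟩
    change val J s' ∈ i.ker.ideal V
    rw [Scheme.Hom.ker_apply, RingHom.mem_ker]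
    exact h3)
  refine ⟨t, ?_⟩
  apply val_injective J
  exact (val_incl (inf_le_left : J ⊓ i.ker ≤ J) t).trans ht

end seq

section colon

variable {D : X.IdealSheafData}

/-- `J ⊓ D = D * J'` for `D` effective Cartier. -/
theorem exists_colon (hD : BlowUp.IsEffCartierIdeal D) (J : X.IdealSheafData) :
    ∃ J' : X.IdealSheafData, J ⊓ D = D * J' := by
  obtain ⟨L, hL⟩ := K971.Basic.exists_mul_eq_of_le hD (inf_le_right : J ⊓ D ≤ D)
  exact ⟨L, by rw [mul_comm]; exact hL.symm⟩

end colon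

end K465.RSeq
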